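import Cfsg.Agent.Mrg.Omega.OM.PG.Base
import Mathlib

section


/-!
# Distance at least 2, no radical (helper609, TEXT R2 (2), TEXT R3 (2))

`NR Z U` : the outcome of (PST) in the case without radical, for the types `SL_n(q)` (`n ≥ 3`) and `Sp_2n(q)`
(`n ≥ 2`), any number of components:
* `unq` : an exact offender determines its point;
* `pnt` : every element `≠ 1` of `[N_a, N_b]` lies in a common neighbour;
* `p1` : the polar space axiom, `p2` : `N_a` is generated by the lines meeting `u^⊥ - u`.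

* `NR.false_of_far` : no noncommuting pair at least distance `≥ 2`.
-/

set_option autoImplicit false
set_option linter.unusedSectionVars false

namespace Cfsg.Agent.Omega.OM.PG

open Subgroup Cfsg Cfsg.Agent.ZN Cfsg.Agent.Omega.MinPar
open Cfsg.Agent.Omega.NoFF.Basic (conj_conj mem_conj conj_le_iff conj_le_centralizer comm_symm comm_mono)
open Cfsg.Agent.Omega.NOThreeL.Pair (conj_eq_of_mem)
open Cfsg.Agent.MinSimple.VModule (le_normalizer_o2 le_o2 o2_le o2_isPGroup)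
open scoped Pointwise

universe u

variable {G : Type u} [Group G]

/-- An exact offender determines its point: `N_a ≤ Q_r ∩ Q_r'`, `r, r' ~ b`, `N_b ≤ Q_{r₂}`, `r₂ ~ a`, and `N_a`, `N_b`
do not commute: `r = r'`. -/
def Unq (Z : Fin 2 → Subgroup G) : Prop :=
  ∀ a b r r' r₂ : Subgroup G, Adj Z r b → Adj Z r' b → Adj Z r₂ a → NN Z a ≤ QQ r → NN Z a ≤ QQ r' →
    NN Z b ≤ QQ r₂ → ¬ Com Z a b → r = r'

/-- Every element `≠ 1` of `[N_a, N_b]` lies in a common neighbour of `a` and `b`. -/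
def Pnt (Z : Fin 2 → Subgroup G) : Prop :=
  ∀ a b r r₂ : Subgroup G, Adj Z r b → Adj Z r₂ a → NN Z a ≤ QQ r → NN Z b ≤ QQ r₂ → ¬ Com Z a b →
    ∀ x ∈ ⁅NN Z a, NN Z b⁆, x ≠ 1 → ∃ p, x ∈ p ∧ Adj Z p a ∧ Adj Z p b

/-- The outcome of (PST) without radical. -/
structure NR (Z U : Fin 2 → Subgroup G) : Prop where
  unq : Unq Z
  pnt : Pnt Z
  /-- collinear points are not adjacent -/
  nadj : ∀ u y l : Subgroup G, LnOn Z U u l → IsPt Z y → y ≤ l → ¬ Adj Z u y
  /-- different points on a line meet trivially -/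
  ti : ∀ u y l : Subgroup G, LnOn Z U u l → IsPt Z y → y ≤ l → y ≠ u → u ⊓ y = ⊥
  /-- `U 0` has another point -/
  two : ∃ k : G, MulAut.conj k • Z 0 ≤ U 0 ∧ MulAut.conj k • Z 0 ≠ Z 0
  /-- polar space axiom -/
  p1 : ∀ u l b : Subgroup G, LnIn Z U u l → Adj Z u b →
    ∃ w, IsPt Z w ∧ w ≤ l ∧ (w = b ∨ ∃ u', u' ≠ u ∧ Adj Z w u' ∧ Adj Z b u')
  /-- `N_a` is generated by the lines on the points collinear with `u` -/
  p2 : ∀ u a : Subgroup G, Adj Z u a → NN Z a ≤ sSup {m | ∃ y l, LnIn Z U a l ∧ LnOn Z U u l ∧ IsPt Z y ∧ y ≤ l ∧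
    y ≠ u ∧ LnIn Z U a m ∧ LnOn Z U y m}

namespace PP

variable {Z U : Fin 2 → Subgroup G} (P : PP Z U)

include P

/-- `l` is a line of `N_a`: there is a partner `l'` on `a`, and `l` is a line of `N_c` for every point `c` of `l'`. -/
theorem exists_partner {a l : Subgroup G} (h : LnIn Z U a l) :
    ∃ l', LnOn Z U a l' ∧ ∀ c, IsPt Z c → c ≤ l' → LnIn Z U c l ∧ LnOn Z U c l' ∧
      ∀ y, IsPt Z y → y ≤ l → LnIn Z U y l' ∧ LnOn Z U y l ∧ Adj Z c y := by
  obtain ⟨k, rfl, rfl⟩ := h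
  obtain ⟨s, hs0, hs1, hs2, hs3⟩ := P.swap
  refine ⟨MulAut.conj k • U 0, ⟨k, rfl, rfl⟩, ?_⟩
  rintro c ⟨j, rfl⟩ hc
  -- move `c` to `Z 0`
  have h1 : MulAut.conj (k⁻¹ * j) • Z 0 ≤ U 0 := by
    have := conj_le_iff (g := k⁻¹) |>.2 hc
    rwa [conj_conj, inv_conj_conj] at this
  obtain ⟨l, hl0, hl1, hl2, hl3⟩ := P.tr _ h1
  have hc' : MulAut.conj j • Z 0 = MulAut.conj (k * l) • Z 0 := by
    rw [← conj_conj, hl0, conj_conj, mul_inv_cancel_left]
  have hU1 : MulAut.conj k • U 1 = MulAut.conj (k * l) • U 1 := by rw [← conj_conj, hl3]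
  have hU0 : MulAut.conj k • U 0 = MulAut.conj (k * l) • U 0 := by rw [← conj_conj, hl2]
  rw [hc', hU1, hU0]
  refine ⟨⟨_, rfl, rfl⟩, ⟨_, rfl, rfl⟩, ?_⟩
  rintro y ⟨i, rfl⟩ hy
  -- move `y` to `Z 1`
  have h2 : MulAut.conj (s⁻¹ * ((k * l)⁻¹ * i)) • Z 0 ≤ U 0 := by
    have := conj_le_iff (g := s⁻¹ * (k * l)⁻¹) |>.2 hy
    rw [conj_conj, conj_conj] at this
    have e : s⁻¹ * (k * l)⁻¹ * (k * l) = s⁻¹ := by group
    rw [e, ← hs2, conj_conj, inv_mul_cancel, map_one, one_smul] at this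
    have e2 : s⁻¹ * (k * l)⁻¹ * i = s⁻¹ * ((k * l)⁻¹ * i) := by group
    rwa [e2] at this
  obtain ⟨m, hm0, hm1, hm2, hm3⟩ := P.tr _ h2
  have hy' : MulAut.conj i • Z 0 = MulAut.conj (k * l * s * m) • Z 0 := by
    rw [show MulAut.conj (k * l * s * m) • Z 0 = MulAut.conj (k * l * s) • (MulAut.conj m • Z 0) by rw [conj_conj],
      hm0, conj_conj]
    congr 2
    group
  have e0 : MulAut.conj (k * l) • Z 0 = MulAut.conj (k * l * s * m) • Z 1 := by
    rw [show MulAut.conj (k * l * s * m) • Z 1 = MulAut.conj (k * l) • (MulAut.conj s • (MulAut.conj m • Z 1)) by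
      rw [conj_conj, conj_conj], hm1, hs1]
  have e1 : MulAut.conj (k * l) • U 0 = MulAut.conj (k * l * s * m) • U 1 := by
    rw [show MulAut.conj (k * l * s * m) • U 1 = MulAut.conj (k * l) • (MulAut.conj s • (MulAut.conj m • U 1)) by
      rw [conj_conj, conj_conj], hm3, hs3]
  have e2 : MulAut.conj (k * l) • U 1 = MulAut.conj (k * l * s * m) • U 0 := by
    rw [show MulAut.conj (k * l * s * m) • U 0 = MulAut.conj (k * l) • (MulAut.conj s • (MulAut.conj m • U 0)) by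
      rw [conj_conj, conj_conj], hm2, hs2]
  rw [hy', e0, e1, e2]
  exact ⟨⟨_, rfl, rfl⟩, ⟨_, rfl, rfl⟩, P.adj_symm ⟨_, rfl, rfl⟩⟩

/-- a line of `N_a` lies in `N_a` -/
theorem lnIn_le {a l : Subgroup G} (hgen : U 1 ≤ NN Z (Z 0)) (h : LnIn Z U a l) : l ≤ NN Z a := by
  obtain ⟨k, rfl, rfl⟩ := h
  rw [NN_conj]
  exact conj_le_iff.2 hgen

/-- `[l, Q_a] ≤ a` for a line `l` on `a` -/
theorem comm_mem {a l : Subgroup G} (h : LnOn Z U a l) {x y : G} (hx : x ∈ l) (hy : y ∈ QQ a) :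
    x * y * x⁻¹ * y⁻¹ ∈ a := by
  obtain ⟨k, rfl, rfl⟩ := h
  rw [QQ_conj] at hy
  rw [mem_conj] at hx hy ⊢
  have h1 := P.UQ _ hx _ hy
  have e : k⁻¹ * (x * y * x⁻¹ * y⁻¹) * k =
      k⁻¹ * x * k * (k⁻¹ * y * k) * (k⁻¹ * x * k)⁻¹ * (k⁻¹ * y * k)⁻¹ := by group
  rwa [e]

omit P in
theorem exists_ne_one {x y : Subgroup G} (h : ¬ Com Z x y) : ∃ g ∈ ⁅NN Z x, NN Z y⁆, g ≠ 1 := by
  have h1 : ⁅NN Z x, NN Z y⁆ ≠ ⊥ := fun h2 => h (commutator_eq_bot_iff_le_centralizer.1 h2)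
  by_contra hcon
  push Not at hcon
  exact h1 (eq_bot_iff.2 fun g hg => mem_bot.2 (hcon g hg))

/-- a common neighbour of a noncommuting pair is unique, and contains the commutator -/
theorem key (hunq : Unq Z) (hpnt : Pnt Z) (hl : ∀ x c, Adj Z x c → NN Z x ≤ QQ c) (x y u : Subgroup G)
    (hux : Adj Z u x) (huy : Adj Z u y) (hxy : ¬ Com Z x y) :
    (∀ r, Adj Z r x → Adj Z r y → r = u) ∧ ⁅NN Z x, NN Z y⁆ ≤ u := by
  have h1 : ∀ r, Adj Z r x → Adj Z r y → r = u := fun r hrx hry =>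
    hunq x y r u u hry huy hux (hl _ _ (P.adj_symm hrx)) (hl _ _ (P.adj_symm hux)) (hl _ _ (P.adj_symm huy)) hxy
  refine ⟨h1, fun g hg => ?_⟩
  by_cases hg1 : g = 1
  · rw [hg1]; exact one_mem u
  obtain ⟨p, hp, hpx, hpy⟩ := hpnt x y u u huy hux (hl _ _ (P.adj_symm hux)) (hl _ _ (P.adj_symm huy)) hxy g hg hg1
  rw [← h1 p hpx hpy]
  exact hp

/-- A noncommuting pair at least distance `≥ 1`: `N_a ≤ Q_b'`, `N_b ≤ Q_a'` for a path `a ~ a' .. b' ~ b`. -/
theorem exists_ends {d : ℕ} (hcom : ∀ m ≤ d, ∀ a b, Pth Z m a b → Com Z a b) {a b : Subgroup G}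
    (hp : Pth Z (d + 1) a b) : ∃ a' b', Adj Z a' a ∧ Adj Z b' b ∧ NN Z a ≤ QQ b' ∧ NN Z b ≤ QQ a' := by
  have hp' := P.pth_symm hp
  cases hp with
  | @succ _ _ b' _ h1 h2 =>
    cases hp' with
    | @succ _ _ a' _ h4 h5 =>
      exact ⟨a', b', h5, h2, P.lemP hcom _ le_rfl _ _ h1, P.lemP hcom _ le_rfl _ _ h4⟩

/-- the given pair has a common neighbour -/
theorem exists_nbr (hpnt : Pnt Z) {d : ℕ} (hcom : ∀ m ≤ d, ∀ a b, Pth Z m a b → Com Z a b) {a b : Subgroup G}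
    (hp : Pth Z (d + 1) a b) (hne : ¬ Com Z a b) : ∃ u, Adj Z u a ∧ Adj Z u b := by
  obtain ⟨a', b', h1, h2, h3, h4⟩ := P.exists_ends hcom hp
  obtain ⟨g, hg, hg1⟩ := exists_ne_one hne
  obtain ⟨p, -, hpa, hpb⟩ := hpnt a b b' a' h2 h1 h3 h4 hne g hg hg1
  exact ⟨p, hpa, hpb⟩

/-- **`G₂(q)`, no radical**: `[N_a, N_b]` is not contained in a point. -/
theorem false_of_hex (hunq : Unq Z) (hpnt : Pnt Z)
    (hhex : ∀ a b r r₂ : Subgroup G, Adj Z r b → Adj Z r₂ a → NN Z a ≤ QQ r → NN Z b ≤ QQ r₂ → ¬ Com Z a b →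
      ∀ u, IsPt Z u → ¬ ⁅NN Z a, NN Z b⁆ ≤ u)
    {d : ℕ} (hcom : ∀ m ≤ d + 1, ∀ a b, Pth Z m a b → Com Z a b) {a b : Subgroup G} (hp : Pth Z (d + 2) a b)
    (hne : ¬ Com Z a b) : False := by
  have hl : ∀ x c, Adj Z x c → NN Z x ≤ QQ c := fun x c h => P.lemP hcom 1 (by omega) x c (PP.pth_one h)
  obtain ⟨u, hua, hub⟩ := P.exists_nbr hpnt hcom hp hne
  obtain ⟨a', b', h1, h2, h3, h4⟩ := P.exists_ends hcom hp
  exact hhex a b b' a' h2 h1 h3 h4 hne u hua.pt (P.key hunq hpnt hl a b u hua hub hne).2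

end PP

namespace NR

variable {Z U : Fin 2 → Subgroup G} (N : NR Z U) (P : PP Z U)

include N P

/-- a second point on a line on `u` -/
theorem exists_two {u l : Subgroup G} (h : LnOn Z U u l) : ∃ y, IsPt Z y ∧ y ≤ l ∧ y ≠ u := by
  obtain ⟨k, rfl, rfl⟩ := h
  obtain ⟨j, h1, h2⟩ := N.two
  refine ⟨MulAut.conj (k * j) • Z 0, ⟨_, rfl⟩, ?_, fun h => h2 ?_⟩
  · rw [← conj_conj]
    exact conj_le_iff.2 h1
  · rw [← conj_conj] at h
    exact smul_left_cancel _ h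

/-- **(2)** no noncommuting pair at least distance `≥ 2`. -/
theorem false_of_far (hgen : U 1 ≤ NN Z (Z 0)) {d : ℕ}
    (hcom : ∀ m ≤ d + 1, ∀ a b, Pth Z m a b → Com Z a b) {a b : Subgroup G} (hp : Pth Z (d + 2) a b)
    (hne : ¬ Com Z a b) : False := by
  have hl : ∀ x c, Adj Z x c → NN Z x ≤ QQ c := fun x c h => P.lemP hcom 1 (by omega) x c (PP.pth_one h)
  have key := P.key N.unq N.pnt hl
  -- the given pair
  obtain ⟨u, hua, hub⟩ := P.exists_nbr N.pnt hcom hp hne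
  obtain ⟨huniq, hRu⟩ := key a b u hua hub hne
  -- the lines `l` of `N_a` on `u`, the points `y` of `l`
  have hy : ∀ y l, LnIn Z U a l → LnOn Z U u l → IsPt Z y → y ≤ l → y ≠ u → NN Z b ≤ QQ y := by
    intro y l hal hul hy hyl hyu
    obtain ⟨l', hal', hl'⟩ := P.exists_partner hal
    have hapt : IsPt Z a := P.adj_pt hua
    have hal'' : a ≤ l' := by
      obtain ⟨k, h1, h2⟩ := hal'
      rw [h1, h2]
      exact conj_le_iff.2 P.ZU
    have hupt : IsPt Z u := hua.pt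
    have hule : u ≤ l := by
      obtain ⟨k, h1, h2⟩ := hul
      rw [h1, h2]
      exact conj_le_iff.2 P.ZU
    have hul' : LnIn Z U u l' := ((hl' a hapt hal'').2.2 u hupt hule).1
    obtain ⟨w, hw, hwl, hwb⟩ := N.p1 u l' b hul' hub
    have hwy : Adj Z w y := ((hl' w hw hwl).2.2 y hy hyl).2.2
    have hwu : Adj Z w u := ((hl' w hw hwl).2.2 u hupt hule).2.2
    -- `N_b ≤ Q_w`
    have hbw : NN Z b ≤ QQ w := by
      rcases hwb with rfl | ⟨u', hu', hwu', hbu'⟩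
      · exact P.NN_le_QQ hw
      · have hcwb : Com Z w b := by
          by_contra hcon
          exact hu' ((key w b u (P.adj_symm hwu) hub hcon).1 u' (P.adj_symm hwu') (P.adj_symm hbu'))
        exact P.f3 hwu (hl _ _ (P.adj_symm hub)) hcwb.symm
    -- `N_y` commutes with `N_u`
    obtain ⟨w', hw', hw'l, hw'a⟩ := N.exists_two P hal'
    have hyu' : Com Z y u := by
      by_contra hcon
      have h1 := (key y u a (P.adj_symm ((P.adj_symm ((hl' a hapt hal'').2.2 y hy hyl).2.2)))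
        (P.adj_symm hua) hcon).1 w' ((hl' w' hw' hw'l).2.2 y hy hyl).2.2 ((hl' w' hw' hw'l).2.2 u hupt hule).2.2
      exact hw'a h1
    have hywQ : NN Z y ≤ QQ w := hl _ _ (P.adj_symm hwy)
    have hyuQ : NN Z y ≤ QQ u := P.f3 (P.adj_symm hwu) hywQ hyu'
    -- `N_y` commutes with `N_b`
    have hyb : Com Z y b := by
      by_contra hcon
      obtain ⟨g, hg, hg1⟩ := PP.exists_ne_one hcon
      obtain ⟨p, -, hpy, hpb⟩ := N.pnt y b u w hub hwy hyuQ hbw hcon g hg hg1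
      have h1 : p = u := N.unq y b p u w hpb hub hwy (hl _ _ (P.adj_symm hpy)) hyuQ hbw hcon
      rw [h1] at hpy
      exact N.nadj u y l hul hy hyl hpy
    exact P.f3 (P.adj_symm hwy) hbw hyb.symm
  -- `N_b` centralises the lines of `N_a` on `y`
  apply hne
  refine (N.p2 u a hua).trans (sSup_le ?_)
  rintro m ⟨y, l, hal, hul, hypt, hyl, hyu, ham, hym⟩
  have h1 := hy y l hal hul hypt hyl hyu
  intro x hx
  rw [mem_centralizer_iff]
  intro z hz
  have h2 : x * z * x⁻¹ * z⁻¹ ∈ y := P.comm_mem hym hx (h1 hz)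
  have h3 : x * z * x⁻¹ * z⁻¹ ∈ u := hRu (commutator_mem_commutator (P.lnIn_le hgen ham hx) hz)
  have h4 : x * z * x⁻¹ * z⁻¹ ∈ u ⊓ y := ⟨h3, h2⟩
  rw [N.ti u y l hul hypt hyl hyu, mem_bot] at h4
  calc z * x = x * z * x⁻¹ * z⁻¹ * (z * x) := by rw [h4, one_mul]
    _ = x * z := by group

end NR

end Cfsg.Agent.Omega.OM.PG

end

section


/-!
# The best offender count of LEMMA TEN (TEXT R4 #19278 (2))

`Y = P₁ × P₂ ≥ P₀` elementary abelian, `P₀, P₁, P₂` meet pairwise trivially, `v₀ ∈ P₀`, `v₁ ∈ P₁`,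
`v₂ = v₀v₁ ∈ P₂`; `A` abelian, `A₀ = C_A(v₁)` has index 2 in `A`, normalises `P₀`, `P₁`, `P₂`; `a ∈ A - A₀` exchanges
`P₁` and `P₂`, and `A` centralises `v₀`. If `|C_Y(B)||B| ≤ |A||C_Y(A)|` for `B ≤ A` then `P₀ = {1, v₀}` (`ten`).

* `exists_fix` : fixed points of a 2-group modulo a set;
* `mem_sup_comm` : the elements of `P ⊔ Q` if `P` and `Q` commute;
* `off_of_max` : `|C_Y(B)||B| ≤ |A||C_Y(A)|` if `A` has maximal order among the elementary abelian subgroups of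
  `T ≥ Y`.
-/

set_option autoImplicit false
set_option linter.unusedSectionVars false

namespace Cfsg.Agent.Omega.OM.PG.Ten

open Subgroup
open scoped commutatorElement

universe u

variable {G : Type u} [Group G]

theorem le_norm {K V : Subgroup G} (h : ∀ k ∈ K, ∀ v ∈ V, k * v * k⁻¹ ∈ V) : K ≤ normalizer (V : Set G) := by
  intro k hk
  rw [mem_normalizer_iff]
  intro v
  refine ⟨fun hv => h k hk v hv, fun hv => ?_⟩
  have h1 := h k⁻¹ (inv_mem hk) _ hv
  have e : k⁻¹ * (k * v * k⁻¹) * k⁻¹⁻¹ = v := by group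
  rwa [e] at h1

theorem cj {K V : Subgroup G} (h : K ≤ normalizer (V : Set G)) {k v : G} (hk : k ∈ K) (hv : v ∈ V) :
    k * v * k⁻¹ ∈ V := (mem_normalizer_iff.1 (h hk) v).1 hv

theorem cj' {K V : Subgroup G} (h : K ≤ normalizer (V : Set G)) {k v : G} (hk : k ∈ K) (hv : v ∈ V) :
    k⁻¹ * v * k ∈ V := by
  have h1 := cj h (inv_mem hk) hv
  rwa [inv_inv] at h1

/-- In a finite `2`-group `S` an element of a normal subgroup outside a set can be chosen fixed modulo this set. -/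
theorem exists_fix [Finite G] {S D : Subgroup G} {B : Set G} (h2 : IsPGroup 2 S) (hDS : D ≤ S)
    (hn : S ≤ normalizer (D : Set G)) (h1 : (1 : G) ∈ B) {x₀ : G} (hx₀ : x₀ ∈ D) (hx₀' : x₀ ∉ B) :
    ∃ x ∈ D, x ∉ B ∧ ∀ y ∈ S, y * x * y⁻¹ * x⁻¹ ∈ B := by
  have : Fact (Nat.Prime 2) := ⟨Nat.prime_two⟩
  have hnil : Group.IsNilpotent S := h2.isNilpotent
  obtain ⟨n, hn0⟩ := (Subgroup.nilpotent_iff_lowerCentralSeries (G := S)).1 hnil
  let P : ℕ → Prop := fun n => ∃ x : S, x ∈ (⊤ : Subgroup S).lowerCentralSeries n ∧ (x : G) ∈ D ∧ (x : G) ∉ B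
  have hP0 : P 0 := ⟨⟨x₀, hDS hx₀⟩, Subgroup.mem_top _, hx₀, hx₀'⟩
  have hPn : ¬ P n := by
    rintro ⟨x, hx, -, hxB⟩
    rw [hn0, Subgroup.mem_bot] at hx
    exact hxB (by rw [hx]; exact h1)
  obtain ⟨m, hm, hm'⟩ : ∃ m, P m ∧ ¬ P (m + 1) := by
    by_contra hc
    push Not at hc
    exact hPn (Nat.rec (motive := P) hP0 hc n)
  obtain ⟨x, hx, hxD, hxB⟩ := hm
  refine ⟨x, hxD, hxB, fun y hy => ?_⟩
  by_contra hc
  refine hm' ⟨⁅(⟨y, hy⟩ : S), x⁆, ?_, ?_, ?_⟩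
  · rw [← commutatorElement_inv]
    exact inv_mem (Subgroup.commutator_mem_commutator hx (Subgroup.mem_top _))
  · have h3 := mul_mem (cj hn hy hxD) (inv_mem hxD)
    exact h3
  · exact hc

theorem mem_sup_comm {P Q : Subgroup G} (h : ∀ x ∈ P, ∀ y ∈ Q, x * y = y * x) {z : G} (hz : z ∈ P ⊔ Q) :
    ∃ x ∈ P, ∃ y ∈ Q, z = x * y := by
  let M : Subgroup G :=
    { carrier := {z | ∃ x ∈ P, ∃ y ∈ Q, z = x * y}
      one_mem' := ⟨1, one_mem _, 1, one_mem _, (one_mul _).symm⟩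
      mul_mem' := by
        rintro _ _ ⟨x, hx, y, hy, rfl⟩ ⟨x', hx', y', hy', rfl⟩
        refine ⟨x * x', mul_mem hx hx', y * y', mul_mem hy hy', ?_⟩
        calc x * y * (x' * y') = x * (y * x') * y' := by group
          _ = x * (x' * y) * y' := by rw [h x' hx' y hy]
          _ = x * x' * (y * y') := by group
      inv_mem' := by
        rintro _ ⟨x, hx, y, hy, rfl⟩
        refine ⟨x⁻¹, inv_mem hx, y⁻¹, inv_mem hy, ?_⟩
        rw [mul_inv_rev, h x⁻¹ (inv_mem hx) y⁻¹ (inv_mem hy)] }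
  have h1 : P ⊔ Q ≤ M := by
    refine sup_le (fun x hx => ⟨x, hx, 1, one_mem _, (mul_one _).symm⟩) (fun y hy => ⟨1, one_mem _, y, hy, ?_⟩)
    exact (one_mul _).symm
  exact h1 hz

theorem uniq {P Q : Subgroup G} (h : P ⊓ Q = ⊥) {x w y z : G} (hx : x ∈ P) (hw : w ∈ P) (hy : y ∈ Q) (hz : z ∈ Q)
    (e : x * y = w * z) : x = w ∧ y = z := by
  have h1 : w⁻¹ * x = z * y⁻¹ := by
    calc w⁻¹ * x = w⁻¹ * (x * y) * y⁻¹ := by group
      _ = w⁻¹ * (w * z) * y⁻¹ := by rw [e]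
      _ = z * y⁻¹ := by group
  have h2 : w⁻¹ * x ∈ P ⊓ Q := mem_inf.2 ⟨mul_mem (inv_mem hw) hx, by rw [h1]; exact mul_mem hz (inv_mem hy)⟩
  rw [h, mem_bot] at h2
  have h3 : z * y⁻¹ = 1 := by rw [← h1, h2]
  exact ⟨(inv_mul_eq_one.1 h2).symm, (mul_inv_eq_one.1 h3).symm⟩

theorem card_eq_ncard (P : Subgroup G) : Nat.card P = (P : Set G).ncard := rfl

/-- `|A| ≤ 2|B|` if `A = B ∪ aB`. -/
theorem card_le_two [Finite G] {A B : Subgroup G} {a : G} (h : ∀ b ∈ A, b ∈ B ∨ a⁻¹ * b ∈ B) :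
    Nat.card A ≤ 2 * Nat.card B := by
  rw [card_eq_ncard, card_eq_ncard]
  have h1 : (A : Set G) ⊆ (B : Set G) ∪ (fun x => a * x) '' (B : Set G) := by
    intro b hb
    rcases h b hb with h1 | h1
    · exact Or.inl h1
    · exact Or.inr ⟨a⁻¹ * b, h1, by simp⟩
  refine (Set.ncard_le_ncard h1 (Set.toFinite _)).trans ((Set.ncard_union_le _ _).trans ?_)
  have h2 := Set.ncard_image_le (f := fun x => a * x) (Set.toFinite (B : Set G))
  omega

/-- three elements in a group of order at most two -/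
theorem eq_of_card_two [Finite G] {P : Subgroup G} (h : Nat.card P ≤ 2) {v : G} (hv : v ∈ P) (hv1 : v ≠ 1) :
    ∀ x ∈ P, x = 1 ∨ x = v := by
  intro x hx
  by_contra hcon
  push Not at hcon
  have h1 : ({1, v, x} : Set G) ⊆ P := by
    intro y hy
    rcases hy with rfl | rfl | rfl
    · exact one_mem _
    · exact hv
    · exact hx
  have h2 := Set.ncard_le_ncard h1 (Set.toFinite _)
  rw [← card_eq_ncard] at h2
  have h3 : ({1, v, x} : Set G).ncard = 3 := by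
    rw [Set.ncard_eq_three]
    exact ⟨1, v, x, hv1.symm, hcon.1.symm, hcon.2.symm, rfl⟩
  omega

/-- a group of exponent two containing two distinct nontrivial elements has order at least four -/
theorem four_le [Finite G] {P : Subgroup G} (hs : ∀ x ∈ P, x ^ 2 = 1) {x y : G} (hx : x ∈ P) (hy : y ∈ P)
    (hx1 : x ≠ 1) (hy1 : y ≠ 1) (hxy : x ≠ y) : 4 ≤ Nat.card P := by
  have h1 : ({1, x, y, x * y} : Set G) ⊆ P := by
    intro z hz
    rcases hz with rfl | rfl | rfl | rfl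
    · exact one_mem _
    · exact hx
    · exact hy
    · exact mul_mem hx hy
  have h2 := Set.ncard_le_ncard h1 (Set.toFinite _)
  rw [← card_eq_ncard] at h2
  have h3 : ({1, x, y, x * y} : Set G).ncard = 4 := by
    have hxy1 : x * y ≠ 1 := by
      intro h
      apply hxy
      have h4 : x * x = 1 := by rw [← pow_two]; exact hs x hx
      exact (mul_left_cancel (h.trans h4.symm)).symm
    have hne1 : x ∉ ({y, x * y} : Set G) := by
      rintro (h | h)
      · exact hxy h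
      · exact hy1 (mul_left_cancel ((mul_one x).trans h)).symm
    have hne2 : (1 : G) ∉ ({x, y, x * y} : Set G) := by
      rintro (h | h | h)
      · exact hx1 h.symm
      · exact hy1 h.symm
      · exact hxy1 h.symm
    have hne3 : y ≠ x * y := by
      intro h
      exact hx1 (mul_right_cancel ((one_mul y).trans h)).symm
    rw [Set.ncard_insert_of_notMem hne2 (Set.toFinite _), Set.ncard_insert_of_notMem hne1 (Set.toFinite _),
      Set.ncard_pair hne3]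
  omega

/-- `|P||Q| ≤ |Y|` for subgroups of `Y` meeting trivially -/
theorem card_mul_le [Finite G] {P Q Y : Subgroup G} (hP : P ≤ Y) (hQ : Q ≤ Y) (h : P ⊓ Q = ⊥) :
    Nat.card P * Nat.card Q ≤ Nat.card Y := by
  rw [← Nat.card_prod]
  refine Nat.card_le_card_of_injective (fun p : P × Q => (⟨p.1 * p.2, mul_mem (hP p.1.2) (hQ p.2.2)⟩ : Y)) ?_
  rintro ⟨x, y⟩ ⟨w, z⟩ e
  have e1 : (x : G) * y = w * z := congrArg Subtype.val e
  obtain ⟨h1, h2⟩ := uniq h x.2 w.2 y.2 z.2 e1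
  exact Prod.ext (Subtype.ext h1) (Subtype.ext h2)

/-- **The count of LEMMA TEN.** -/
theorem ten [Finite G] {A P0 P1 P2 Y T : Subgroup G} {v0 v1 v2 a : G}
    (hT : IsPGroup 2 T) (hAT : A ≤ T) (hYT : Y ≤ T)
    (hYc : ∀ x ∈ Y, ∀ y ∈ Y, x * y = y * x) (hYs : ∀ x ∈ Y, x ^ 2 = 1)
    (hAc : ∀ x ∈ A, ∀ y ∈ A, x * y = y * x)
    (h0Y : P0 ≤ Y) (h1Y : P1 ≤ Y) (h2Y : P2 ≤ Y) (hY : Y ≤ P1 ⊔ P2)
    (h01 : P0 ⊓ P1 = ⊥) (h02 : P0 ⊓ P2 = ⊥) (h12 : P1 ⊓ P2 = ⊥)
    (hv0 : v0 ∈ P0) (hv1 : v1 ∈ P1) (hv2 : v2 ∈ P2) (hv : v2 = v0 * v1) (hv0' : v0 ≠ 1) (hv1' : v1 ≠ 1)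
    (ha : a ∈ A) (haP1 : ∀ x ∈ P1, a * x * a⁻¹ ∈ P2) (haP2 : ∀ x ∈ P2, a * x * a⁻¹ ∈ P1)
    (hav : a * v1 * a⁻¹ = v2) (hAv : ∀ b ∈ A, b * v0 = v0 * b)
    (hA1 : ∀ b ∈ A, b * v1 = v1 * b → ∀ x ∈ P1, b * x * b⁻¹ ∈ P1)
    (hA2 : ∀ b ∈ A, b * v1 = v1 * b → ∀ x ∈ P2, b * x * b⁻¹ ∈ P2)
    (hA0 : ∀ b ∈ A, b * v1 = v1 * b → ∀ x ∈ P0, b * x * b⁻¹ ∈ P0)
    (hdich : ∀ b ∈ A, b * v1 = v1 * b ∨ b * v1 * b⁻¹ = v2)
    (hoff : ∀ B ≤ A, Nat.card (Y ⊓ centralizer (B : Set G) : Subgroup G) * Nat.card B ≤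
      Nat.card A * Nat.card (Y ⊓ centralizer (A : Set G) : Subgroup G)) :
    ∀ x ∈ P0, x = 1 ∨ x = v0 := by
  classical
  have hYs' : ∀ x ∈ Y, x * x = 1 := fun x hx => by rw [← pow_two]; exact hYs x hx
  -- `A₀`
  let A0 : Subgroup G := A ⊓ centralizer {v1}
  have hA0A : A0 ≤ A := inf_le_left
  have hA0c : ∀ b ∈ A0, b * v1 = v1 * b := fun b hb => (mem_centralizer_iff.1 hb.2 v1 rfl).symm
  have mem_A0 : ∀ b ∈ A, b * v1 = v1 * b → b ∈ A0 := by
    intro b hb h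
    refine ⟨hb, mem_centralizer_iff.2 ?_⟩
    rintro x rfl
    exact h.symm
  have hab : ∀ b ∈ A, b ∈ A0 ∨ a⁻¹ * b ∈ A0 := by
    intro b hb
    rcases hdich b hb with h | h
    · exact Or.inl (mem_A0 b hb h)
    · refine Or.inr (mem_A0 _ (mul_mem (inv_mem ha) hb) ?_)
      have h1 : b * v1 = a * v1 * a⁻¹ * b := by rw [hav, ← h]; group
      calc a⁻¹ * b * v1 = a⁻¹ * (b * v1) := by group
        _ = a⁻¹ * (a * v1 * a⁻¹ * b) := by rw [h1]
        _ = v1 * (a⁻¹ * b) := by group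
  have hcA : Nat.card A ≤ 2 * Nat.card A0 := card_le_two hab
  -- `C_Y(A₀)` and `C_Y(A)`
  let CA : Subgroup G := Y ⊓ centralizer (A : Set G)
  let C0 : Subgroup G := Y ⊓ centralizer (A0 : Set G)
  have hC0A : Nat.card C0 ≤ 2 * Nat.card CA := by
    have h1 := hoff A0 hA0A
    have h2 : Nat.card C0 * Nat.card A0 ≤ 2 * Nat.card A0 * Nat.card CA :=
      h1.trans (Nat.mul_le_mul_right _ hcA)
    have h3 : 0 < Nat.card A0 := Nat.card_pos
    have h4 : Nat.card C0 * Nat.card A0 ≤ 2 * Nat.card CA * Nat.card A0 := by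
      calc Nat.card C0 * Nat.card A0 ≤ 2 * Nat.card A0 * Nat.card CA := h2
        _ = 2 * Nat.card CA * Nat.card A0 := by ring
    exact Nat.le_of_mul_le_mul_right h4 h3
  let C1 : Subgroup G := P1 ⊓ centralizer (A0 : Set G)
  have hsup : ∀ y ∈ Y, ∃ x ∈ P1, ∃ x' ∈ P2, y = x * x' := fun y hy =>
    mem_sup_comm (fun x hx y hy => hYc x (h1Y hx) y (h2Y hy)) (hY hy)
  -- components of elements centralised by `b ∈ A₀`
  have hcomp : ∀ b ∈ A0, ∀ x ∈ P1, ∀ x' ∈ P2, b * (x * x') = x * x' * b → b * x = x * b ∧ b * x' = x' * b := by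
    intro b hb x hx x' hx' h
    have h1 : (b * x * b⁻¹) * (b * x' * b⁻¹) = x * x' := by
      calc (b * x * b⁻¹) * (b * x' * b⁻¹) = b * (x * x') * b⁻¹ := by group
        _ = x * x' * b * b⁻¹ := by rw [h]
        _ = x * x' := by group
    obtain ⟨h2, h3⟩ := uniq h12 (hA1 b (hA0A hb) (hA0c b hb) x hx) hx (hA2 b (hA0A hb) (hA0c b hb) x' hx') hx' h1
    exact ⟨mul_inv_eq_iff_eq_mul.1 h2, mul_inv_eq_iff_eq_mul.1 h3⟩
  have hCA : Nat.card CA ≤ Nat.card C1 := by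
    rw [card_eq_ncard, card_eq_ncard]
    have h1 : (CA : Set G) ⊆ (fun x => x * (a * x * a⁻¹)) '' (C1 : Set G) := by
      intro y hy
      obtain ⟨x, hx, x', hx', rfl⟩ := hsup y hy.1
      have h2 : a * (x * x') = x * x' * a := mem_centralizer_iff.1 hy.2 a ha
      have h3 : (a * x' * a⁻¹) * (a * x * a⁻¹) = x * x' := by
        calc (a * x' * a⁻¹) * (a * x * a⁻¹) = a * (x' * x) * a⁻¹ := by group
          _ = a * (x * x') * a⁻¹ := by rw [hYc x' (h2Y hx') x (h1Y hx)]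
          _ = x * x' * a * a⁻¹ := by rw [h2]
          _ = x * x' := by group
      obtain ⟨-, h4⟩ := uniq h12 (haP2 x' hx') hx (haP1 x hx) hx' h3
      refine ⟨x, ⟨hx, mem_centralizer_iff.2 fun b hb => ?_⟩, ?_⟩
      · exact (hcomp b hb x hx x' hx' (mem_centralizer_iff.1 hy.2 b (hA0A hb))).1
      · change x * (a * x * a⁻¹) = x * x'
        rw [h4]
    exact (Set.ncard_le_ncard h1 (Set.toFinite _)).trans (Set.ncard_image_le (Set.toFinite _))
  have haC : ∀ w ∈ C1, a * w * a⁻¹ ∈ P2 ⊓ centralizer (A0 : Set G) := by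
    intro w hw
    refine ⟨haP1 w hw.1, mem_centralizer_iff.2 fun b hb => ?_⟩
    have h1 : b * w = w * b := mem_centralizer_iff.1 hw.2 b hb
    have h2 : a * b = b * a := hAc a ha b (hA0A hb)
    calc b * (a * w * a⁻¹) = (b * a) * w * a⁻¹ := by group
      _ = (a * b) * w * a⁻¹ := by rw [h2]
      _ = a * (b * w) * a⁻¹ := by group
      _ = a * (w * b) * a⁻¹ := by rw [h1]
      _ = a * w * a⁻¹ * (a * b * a⁻¹) := by group
      _ = a * w * a⁻¹ * (b * a * a⁻¹) := by rw [h2]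
      _ = a * w * a⁻¹ * b := by group
  have hC0sq : Nat.card C1 * Nat.card C1 ≤ Nat.card C0 := by
    rw [← Nat.card_prod]
    refine Nat.card_le_card_of_injective (fun p : C1 × C1 =>
      (⟨p.1 * (a * p.2 * a⁻¹), mul_mem ⟨h1Y p.1.2.1, p.1.2.2⟩
        ⟨h2Y (haC _ p.2.2).1, (haC _ p.2.2).2⟩⟩ : C0)) ?_
    rintro ⟨x, y⟩ ⟨w, z⟩ e
    have e1 : (x : G) * (a * y * a⁻¹) = w * (a * z * a⁻¹) := congrArg Subtype.val e
    obtain ⟨h1, h2⟩ := uniq h12 x.2.1 w.2.1 (haC _ y.2).1 (haC _ z.2).1 e1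
    have h3 : (y : G) = z := by
      have h4 := congrArg (fun g => a⁻¹ * g * a) h2
      simpa [mul_assoc] using h4
    exact Prod.ext (Subtype.ext h1) (Subtype.ext h3)
  have hv1C : v1 ∈ C1 := ⟨hv1, mem_centralizer_iff.2 fun b hb => hA0c b hb⟩
  have hC1 : Nat.card C1 ≤ 2 := by
    have h1 : Nat.card C1 * Nat.card C1 ≤ 2 * Nat.card C1 :=
      hC0sq.trans (hC0A.trans (Nat.mul_le_mul_left _ hCA))
    exact Nat.le_of_mul_le_mul_right h1 Nat.card_pos
  have hC1' : ∀ x ∈ C1, x = 1 ∨ x = v1 := eq_of_card_two hC1 hv1C hv1'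
  -- `C_{P₀}(A₀)`
  have hv00 : v0 * v0 = 1 := hYs' v0 (h0Y hv0)
  have hfix : ∀ x ∈ P0, (∀ b ∈ A0, b * x = x * b) → x = 1 ∨ x = v0 := by
    intro x hx hbx
    obtain ⟨p1, hp1, p2, hp2, rfl⟩ := hsup x (h0Y hx)
    have h1 : ∀ b ∈ A0, b * p1 = p1 * b ∧ b * p2 = p2 * b := fun b hb => hcomp b hb p1 hp1 p2 hp2 (hbx b hb)
    have h2 : p1 = 1 ∨ p1 = v1 := hC1' p1 ⟨hp1, mem_centralizer_iff.2 fun b hb => (h1 b hb).1⟩
    have h3 : a * p2 * a⁻¹ = 1 ∨ a * p2 * a⁻¹ = v1 := by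
      refine hC1' _ ⟨haP2 p2 hp2, mem_centralizer_iff.2 fun b hb => ?_⟩
      have h4 : b * p2 = p2 * b := (h1 b hb).2
      have h5 : a * b = b * a := hAc a ha b (hA0A hb)
      calc b * (a * p2 * a⁻¹) = (b * a) * p2 * a⁻¹ := by group
        _ = (a * b) * p2 * a⁻¹ := by rw [h5]
        _ = a * (b * p2) * a⁻¹ := by group
        _ = a * (p2 * b) * a⁻¹ := by rw [h4]
        _ = a * p2 * a⁻¹ * (a * b * a⁻¹) := by group
        _ = a * p2 * a⁻¹ * (b * a * a⁻¹) := by rw [h5]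
        _ = a * p2 * a⁻¹ * b := by group
    have h4 : p2 = 1 ∨ p2 = v2 := by
      rcases h3 with h3 | h3
      · left
        have h5 := congrArg (fun g => a⁻¹ * g * a) h3
        simpa [mul_assoc] using h5
      · right
        have h5 : a * v2 * a⁻¹ = v1 := by
          have h6 : a * v0 * a⁻¹ = v0 := by rw [hAv a ha]; group
          calc a * v2 * a⁻¹ = (a * v0 * a⁻¹) * (a * v1 * a⁻¹) := by rw [hv]; group
            _ = v0 * (v0 * v1) := by rw [h6, hav, hv]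
            _ = (v0 * v0) * v1 := by group
            _ = v1 := by rw [hv00, one_mul]
        have h6 : a * p2 * a⁻¹ = a * v2 * a⁻¹ := by rw [h3, h5]
        exact mul_left_cancel (mul_right_cancel h6)
    rcases h2 with rfl | rfl
    · left
      rw [one_mul] at hx ⊢
      have h5 : p2 ∈ P0 ⊓ P2 := ⟨hx, hp2⟩
      rwa [h02, mem_bot] at h5
    · rcases h4 with rfl | rfl
      · exfalso
        rw [mul_one] at hx
        have h5 : p1 ∈ P0 ⊓ P1 := ⟨hx, hp1⟩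
        rw [h01, mem_bot] at h5
        exact hv1' h5
      · right
        rw [hv, ← mul_assoc, hYc p1 (h1Y hp1) v0 (h0Y hv0), mul_assoc, hYs' p1 (h1Y hp1), mul_one]
  -- the end
  by_contra hcon
  push Not at hcon
  obtain ⟨x0, hx0, hx01, hx0v⟩ := hcon
  have hnorm : A0 ⊔ P0 ≤ normalizer (P0 : Set G) :=
    sup_le (le_norm fun b hb x hx => hA0 b (hA0A hb) (hA0c b hb) x hx) le_normalizer
  have h2g : IsPGroup 2 (A0 ⊔ P0 : Subgroup G) := hT.to_le (sup_le (hA0A.trans hAT) (h0Y.trans hYT))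
  obtain ⟨n, hn, hnB, hnf⟩ := exists_fix (B := {x | x = 1 ∨ x = v0}) h2g le_sup_right hnorm (Or.inl rfl) hx0
    (by rintro (h | h); exacts [hx01 h, hx0v h])
  have hn1 : n ≠ 1 := fun h => hnB (Or.inl h)
  have hnv : n ≠ v0 := fun h => hnB (Or.inr h)
  let B : Subgroup G := A0 ⊓ centralizer {n}
  have hBA0 : B ≤ A0 := inf_le_left
  have hBn : ∀ b ∈ B, b * n = n * b := fun b hb => (mem_centralizer_iff.1 hb.2 n rfl).symm
  have hcB : Nat.card A0 ≤ 2 * Nat.card B := by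
    by_cases hall : ∀ b ∈ A0, b * n = n * b
    · have h1 : A0 ≤ B := fun b hb => ⟨hb, mem_centralizer_iff.2 (by rintro x rfl; exact (hall b hb).symm)⟩
      have h2 : Nat.card A0 ≤ Nat.card B := Subgroup.card_le_of_le h1
      omega
    · push Not at hall
      obtain ⟨b0, hb0, hb0n⟩ := hall
      have h1 : ∀ b ∈ A0, b * n = n * b ∨ b * n * b⁻¹ = v0 * n := by
        intro b hb
        rcases hnf b (mem_sup_left hb) with h | h
        · left
          exact mul_inv_eq_iff_eq_mul.1 (mul_inv_eq_one.1 h)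
        · right
          exact mul_inv_eq_iff_eq_mul.1 h
      refine card_le_two (a := b0) fun b hb => ?_
      rcases h1 b hb with h | h
      · exact Or.inl ⟨hb, mem_centralizer_iff.2 (by rintro x rfl; exact h.symm)⟩
      · right
        refine mem_inf.2 ⟨mul_mem (inv_mem hb0) hb, mem_centralizer_iff.2 ?_⟩
        intro x hx
        rw [Set.mem_singleton_iff.1 hx]
        have h2 : b0 * n * b0⁻¹ = v0 * n := (h1 b0 hb0).resolve_left hb0n
        have h3 : b * n = b0 * n * b0⁻¹ * b := by rw [h2, ← h]; group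
        symm
        calc b0⁻¹ * b * n = b0⁻¹ * (b * n) := by group
          _ = b0⁻¹ * (b0 * n * b0⁻¹ * b) := by rw [h3]
          _ = n * (b0⁻¹ * b) := by group
  -- `|C_Y(B)| ≥ 16`
  have hBc : ∀ {P : Subgroup G} {x : G}, x ∈ P → (∀ b ∈ B, b * x = x * b) → x ∈ P ⊓ centralizer (B : Set G) :=
    fun hx h => ⟨hx, mem_centralizer_iff.2 h⟩
  have hB0 : 4 ≤ Nat.card (P0 ⊓ centralizer (B : Set G) : Subgroup G) := by
    refine four_le (fun x hx => hYs x (h0Y hx.1)) (hBc hv0 fun b hb => hAv b (hA0A (hBA0 hb))) (hBc hn hBn)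
      hv0' hn1 hnv.symm
  obtain ⟨p1, hp1, p2, hp2, hnp⟩ := hsup n (h0Y hn)
  have hp1B : ∀ b ∈ B, b * p1 = p1 * b := by
    intro b hb
    refine (hcomp b (hBA0 hb) p1 hp1 p2 hp2 ?_).1
    rw [← hnp]
    exact hBn b hb
  have hB1 : 4 ≤ Nat.card (P1 ⊓ centralizer (B : Set G) : Subgroup G) := by
    refine four_le (fun x hx => hYs x (h1Y hx.1)) (hBc hv1 fun b hb => hA0c b (hBA0 hb)) (hBc hp1 hp1B)
      hv1' ?_ ?_
    · rintro rfl
      rw [one_mul] at hnp
      have h1 : n ∈ P0 ⊓ P2 := ⟨hn, by rw [hnp]; exact hp2⟩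
      rw [h02, mem_bot] at h1
      exact hn1 h1
    · rintro rfl
      -- `n v₀ = p₂ v₂ ∈ P₀ ∩ P₂`
      apply hnv
      have h1 : n * v0 = p2 * v2 := by
        rw [hnp, hv]
        calc v1 * p2 * v0 = p2 * v1 * v0 := by rw [hYc v1 (h1Y hv1) p2 (h2Y hp2)]
          _ = p2 * (v1 * v0) := by group
          _ = p2 * (v0 * v1) := by rw [hYc v1 (h1Y hv1) v0 (h0Y hv0)]
      have h2 : n * v0 ∈ P0 ⊓ P2 := ⟨mul_mem hn hv0, by rw [h1]; exact mul_mem hp2 hv2⟩
      rw [h02, mem_bot] at h2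
      exact mul_right_cancel (h2.trans hv00.symm)
  have hB16 : 16 ≤ Nat.card (Y ⊓ centralizer (B : Set G) : Subgroup G) := by
    have h1 : Nat.card (P0 ⊓ centralizer (B : Set G) : Subgroup G) *
        Nat.card (P1 ⊓ centralizer (B : Set G) : Subgroup G) ≤
        Nat.card (Y ⊓ centralizer (B : Set G) : Subgroup G) := by
      refine card_mul_le (inf_le_inf_right _ h0Y) (inf_le_inf_right _ h1Y) ?_
      rw [eq_bot_iff, ← h01]
      exact inf_le_inf inf_le_left inf_le_left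
    calc 16 = 4 * 4 := by norm_num
      _ ≤ _ := Nat.mul_le_mul hB0 hB1
      _ ≤ _ := h1
  have hfin := hoff B (hBA0.trans hA0A)
  have h1 : 0 < Nat.card B := Nat.card_pos
  have h2 : Nat.card CA ≤ 2 := hCA.trans hC1
  have h3 : Nat.card A ≤ 4 * Nat.card B := by omega
  have h4 : 16 * Nat.card B ≤ 4 * Nat.card B * 2 :=
    (Nat.mul_le_mul_right _ hB16).trans (hfin.trans (Nat.mul_le_mul h3 h2))
  omega

/-- `|C_Y(B)||B| ≤ |A||C_Y(A)|` if `A` has maximal order among the elementary abelian subgroups of `T ≥ Y`. -/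
theorem off_of_max [Finite G] {A Y T : Subgroup G} (hYT : Y ≤ T) (hYc : ∀ x ∈ Y, ∀ y ∈ Y, x * y = y * x)
    (hYs : ∀ x ∈ Y, x ^ 2 = 1) (hAT : A ≤ T) (hAc : ∀ x ∈ A, ∀ y ∈ A, x * y = y * x) (hAs : ∀ x ∈ A, x ^ 2 = 1)
    (hmax : ∀ B : Subgroup G, B ≤ T → (∀ x ∈ B, ∀ y ∈ B, x * y = y * x) → (∀ x ∈ B, x ^ 2 = 1) →
      Nat.card B ≤ Nat.card A) {B : Subgroup G} (hB : B ≤ A) :
    Nat.card (Y ⊓ centralizer (B : Set G) : Subgroup G) * Nat.card B ≤
      Nat.card A * Nat.card (Y ⊓ centralizer (A : Set G) : Subgroup G) := by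
  let C : Subgroup G := Y ⊓ centralizer (B : Set G)
  have hCB : ∀ x ∈ C, ∀ y ∈ B, x * y = y * x := fun x hx y hy => (mem_centralizer_iff.1 hx.2 y hy).symm
  -- the elementary abelian group `CB`
  have h1 : Nat.card (C ⊔ B : Subgroup G) ≤ Nat.card A := by
    refine hmax _ (sup_le (inf_le_left.trans hYT) (hB.trans hAT)) ?_ ?_
    · intro x hx y hy
      obtain ⟨c, hc, b, hb, rfl⟩ := mem_sup_comm hCB hx
      obtain ⟨c', hc', b', hb', rfl⟩ := mem_sup_comm hCB hy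
      have e1 := hYc c hc.1 c' hc'.1
      have e2 := hAc b (hB hb) b' (hB hb')
      calc c * b * (c' * b') = c * (b * c') * b' := by group
        _ = c * (c' * b) * b' := by rw [hCB c' hc' b hb]
        _ = (c * c') * (b * b') := by group
        _ = (c' * c) * (b' * b) := by rw [e1, e2]
        _ = c' * (c * b') * b := by group
        _ = c' * (b' * c) * b := by rw [hCB c hc b' hb']
        _ = c' * b' * (c * b) := by group
    · intro x hx
      obtain ⟨c, hc, b, hb, rfl⟩ := mem_sup_comm hCB hx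
      have e1 : c * c = 1 := by rw [← pow_two]; exact hYs c hc.1
      have e2 : b * b = 1 := by rw [← pow_two]; exact hAs b (hB hb)
      calc (c * b) ^ 2 = c * (b * c) * b := by rw [pow_two]; group
        _ = c * (c * b) * b := by rw [hCB c hc b hb]
        _ = (c * c) * (b * b) := by group
        _ = 1 := by rw [e1, e2, one_mul]
  -- `|C||B| ≤ |CB||C ∩ B|`
  have h2 : Nat.card C * Nat.card B ≤
      Nat.card (C ⊔ B : Subgroup G) * Nat.card (Y ⊓ centralizer (A : Set G) : Subgroup G) := by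
    rw [← Nat.card_prod]
    classical
    -- count the fibres of the product map
    have hfin : Finite (C × B) := inferInstance
    let f : C × B → (C ⊔ B : Subgroup G) := fun p => ⟨p.1 * p.2, mul_mem (mem_sup_left p.1.2) (mem_sup_right p.2.2)⟩
    have hf : ∀ z, Nat.card {p : C × B // f p = z} ≤ Nat.card (Y ⊓ centralizer (A : Set G) : Subgroup G) := by
      intro z
      by_cases hz : Nonempty {p : C × B // f p = z}
      · obtain ⟨⟨⟨c0, b0⟩, h0⟩⟩ := hz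
        have key : ∀ p : {p : C × B // f p = z}, (p.1.1 : G)⁻¹ * c0 ∈ Y ⊓ centralizer (A : Set G) := by
          rintro ⟨⟨c, b⟩, h⟩
          have e : (c : G) * b = c0 * b0 := by
            have e1 := congrArg Subtype.val (h.trans h0.symm)
            exact e1
          have e2 : (c : G)⁻¹ * c0 = b * (b0 : G)⁻¹ := by
            calc (c : G)⁻¹ * c0 = (c : G)⁻¹ * (c0 * b0) * (b0 : G)⁻¹ := by group
              _ = (c : G)⁻¹ * (c * b) * (b0 : G)⁻¹ := by rw [e]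
              _ = b * (b0 : G)⁻¹ := by group
          refine mem_inf.2 ⟨mul_mem (inv_mem c.2.1) c0.2.1, mem_centralizer_iff.2 fun x hx => ?_⟩
          change x * ((c : G)⁻¹ * c0) = (c : G)⁻¹ * c0 * x
          rw [e2]
          exact hAc x hx _ (mul_mem (hB b.2) (inv_mem (hB b0.2)))
        refine Nat.card_le_card_of_injective (fun p => (⟨(p.1.1 : G)⁻¹ * c0, key p⟩ :
          (Y ⊓ centralizer (A : Set G) : Subgroup G))) ?_
        rintro ⟨⟨c, b⟩, h⟩ ⟨⟨c', b'⟩, h'⟩ e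
        have e1 : (c : G)⁻¹ * c0 = (c' : G)⁻¹ * c0 := congrArg Subtype.val e
        have e2 : (c : G) = c' := inv_injective (mul_right_cancel e1)
        have e3 : (c : G) * b = c' * b' := congrArg Subtype.val (h.trans h'.symm)
        have e4 : (b : G) = b' := by rw [e2] at e3; exact mul_left_cancel e3
        exact Subtype.ext (Prod.ext (Subtype.ext e2) (Subtype.ext e4))
      · rw [not_nonempty_iff] at hz
        rw [Nat.card_of_isEmpty]
        exact Nat.zero_le _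
    have : Fintype (C ⊔ B : Subgroup G) := Fintype.ofFinite _
    have e := Nat.card_congr (Equiv.sigmaFiberEquiv f)
    rw [← e, Nat.card_sigma]
    refine (Finset.sum_le_sum fun z _ => hf z).trans ?_
    rw [Finset.sum_const, smul_eq_mul, Finset.card_univ, ← Nat.card_eq_fintype_card]
  exact h2.trans (Nat.mul_le_mul_right _ h1)

end Cfsg.Agent.Omega.OM.PG.Ten

end

section


/-!
# THEOREM G (TEXT R5 #19750 (2))

`T ≤ D ≤ H = ⟨D, L₂⟩`, `T` a 2-group of odd index in `H`, `v₁` central in `H`, `v₂` central in `D`,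
`N = ⟨v₂^H⟩ ≤ T`, `V₁N` elementary abelian, `V₁ = ⟨v₁^{L₁}⟩` a four-group, `V₂ = ⟨v₂^{L₂}⟩` a four-group,
`C_G(V₁) ≤ H`, `L₁` centralises `v₂`, normalises `V₁` and does not normalise `N`; `V₁ ≰ N`; LEMMA FIX on `N`;
`A ≤ T` elementary abelian of maximal order moves `V₂`.

* `avg` : averaging modulo a subgroup;
* `Dat.noCompl` : `v₁` has no complement containing `v₂` in `N`;
* `Dat.normV1` : a subgroup `R ≥ T, L₂` of `H` normalising `V₁N` normalises `V₁`;
* `Dat.K_le` : the subgroup generated by the odd order elements of `KK` centralises `N`;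
* `thmG` : **THEOREM G**.
-/

set_option autoImplicit false
set_option linter.unusedSectionVars false

namespace Cfsg.Agent.Omega.OM.PG.ThmG

open Subgroup
open Cfsg.Agent.Omega.OM.PG.Ten (le_norm cj cj' exists_fix mem_sup_comm ten off_of_max eq_of_card_two)

universe u

variable {G : Type u} [Group G]

/-! ### Tools -/

theorem mem_zp {v x : G} (h : v ^ 2 = 1) : x ∈ zpowers v ↔ x = 1 ∨ x = v := by
  constructor
  · rintro ⟨n, rfl⟩
    change v ^ n = 1 ∨ v ^ n = v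
    have h2 : v ^ (2 : ℤ) = 1 := by exact_mod_cast h
    rcases Int.even_or_odd' n with ⟨k, rfl | rfl⟩
    · left
      rw [zpow_mul, h2, one_zpow]
    · right
      rw [zpow_add, zpow_mul, h2, one_zpow, one_mul, zpow_one]
  · rintro (rfl | rfl)
    · exact one_mem _
    · exact mem_zpowers _

/-- `U` as a commutative group -/
abbrev cg (U : Subgroup G) (hc : ∀ u ∈ U, ∀ w ∈ U, u * w = w * u) : CommGroup U :=
  { (inferInstance : Group U) with mul_comm := fun a b => Subtype.ext (hc a a.2 b b.2) }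

/-- conjugation -/
def cU {U : Subgroup G} {x : G} (hx : x ∈ normalizer (U : Set G)) : U →* U where
  toFun u := ⟨x * u * x⁻¹, (mem_normalizer_iff.1 hx u).1 u.2⟩
  map_one' := Subtype.ext (by simp)
  map_mul' a b := Subtype.ext (by
    change x * ((a : G) * b) * x⁻¹ = x * a * x⁻¹ * (x * b * x⁻¹)
    group)

theorem out_mul (R T : Subgroup G) (r : R) (q : R ⧸ T.subgroupOf R) :
    ∃ t ∈ T, (r : G) * (q.out : R) = ((r • q).out : R) * t := by
  refine ⟨((r • q).out : R)⁻¹ * (r * (q.out : R)), ?_, (mul_inv_cancel_left _ _).symm⟩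
  have h1 : (r • q).out⁻¹ * (r * q.out) ∈ T.subgroupOf R := by
    rw [← QuotientGroup.eq, QuotientGroup.out_eq']
    conv_lhs => rw [← QuotientGroup.out_eq' q]
    rfl
  exact mem_subgroupOf.1 h1

theorem odd_card {R T : Subgroup G} [Fintype (R ⧸ T.subgroupOf R)] (h : ¬ 2 ∣ T.relIndex R) :
    ∃ m, Fintype.card (R ⧸ T.subgroupOf R) = 2 * m + 1 := by
  have h2 : Fintype.card (R ⧸ T.subgroupOf R) = T.relIndex R := by
    rw [← Nat.card_eq_fintype_card]
    rfl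
  rw [h2]
  rcases Nat.even_or_odd' (T.relIndex R) with ⟨m, h' | h'⟩
  · exact absurd ⟨m, h'⟩ h
  · exact ⟨m, h'⟩

/-- **Averaging modulo `Z`.** -/
theorem avg [Finite G] {U T R Z M : Subgroup G} {v : G}
    (hc : ∀ u ∈ U, ∀ w ∈ U, u * w = w * u) (hRU : R ≤ normalizer (U : Set G))
    (hRZ : R ≤ normalizer (Z : Set G)) (hodd : ¬ 2 ∣ T.relIndex R)
    (hv : v ∈ U) (hv2 : v * v = 1)
    (hT : ∀ t ∈ T, t * v * t⁻¹ * v⁻¹ ∈ Z) (hM : ∀ r ∈ R, r * v * r⁻¹ * v⁻¹ ∈ M) :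
    ∃ c ∈ U, c * v⁻¹ ∈ M ∧ ∀ r ∈ R, r * c * r⁻¹ * c⁻¹ ∈ Z := by
  classical
  let _ : CommGroup U := cg U hc
  let _ : Fintype (R ⧸ T.subgroupOf R) := Fintype.ofFinite _
  let f : R ⧸ T.subgroupOf R → U := fun q => ⟨(q.out : R) * v * ((q.out : R) : G)⁻¹, cj hRU q.out.2 hv⟩
  let v' : U := ⟨v, hv⟩
  have hvv : v' * v' = 1 := Subtype.ext hv2
  obtain ⟨m, hm⟩ := odd_card (R := R) (T := T) hodd
  refine ⟨((∏ q, f q : U) : G), (∏ q, f q : U).2, ?_, ?_⟩
  · have h1 : (∏ q, f q) * v'⁻¹ = ∏ q, (f q * v'⁻¹) := by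
      rw [Finset.prod_mul_distrib, Finset.prod_const, Finset.card_univ, hm, pow_add, pow_mul, pow_one, pow_two]
      have h2 : v'⁻¹ * v'⁻¹ = 1 := by rw [← mul_inv, hvv, inv_one]
      rw [h2, one_pow, one_mul]
    have h2 : (∏ q, (f q * v'⁻¹)) ∈ M.subgroupOf U := by
      refine Subgroup.prod_mem _ fun q _ => ?_
      rw [mem_subgroupOf]
      exact hM _ q.out.2
    rw [← h1] at h2
    exact mem_subgroupOf.1 h2
  · intro r hr
    have h1 : cU (hRU hr) (∏ q, f q) * (∏ q, f q)⁻¹ =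
        ∏ q, (cU (hRU hr) (f q) * (f ((⟨r, hr⟩ : R) • q))⁻¹) := by
      rw [Finset.prod_mul_distrib, map_prod, Finset.prod_inv_distrib]
      congr 2
      exact (Equiv.prod_comp (MulAction.toPerm (⟨r, hr⟩ : R)) f).symm
    have h2 : (∏ q, (cU (hRU hr) (f q) * (f ((⟨r, hr⟩ : R) • q))⁻¹)) ∈ Z.subgroupOf U := by
      refine Subgroup.prod_mem _ fun q _ => ?_
      rw [mem_subgroupOf]
      obtain ⟨t, ht, e⟩ := out_mul R T ⟨r, hr⟩ q
      set s : R := ((⟨r, hr⟩ : R) • q).out with hs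
      change (r * ((q.out : R) * v * ((q.out : R) : G)⁻¹) * r⁻¹) * (s * v * (s : G)⁻¹)⁻¹ ∈ Z
      have e1 : (r * ((q.out : R) * v * ((q.out : R) : G)⁻¹) * r⁻¹) * (s * v * (s : G)⁻¹)⁻¹ =
          s * (t * v * t⁻¹ * v⁻¹) * (s : G)⁻¹ := by
        calc (r * ((q.out : R) * v * ((q.out : R) : G)⁻¹) * r⁻¹) * (s * v * (s : G)⁻¹)⁻¹ =
            (r * (q.out : R)) * v * (r * (q.out : R))⁻¹ * (s * v * (s : G)⁻¹)⁻¹ := by group
          _ = (s * t) * v * (s * t)⁻¹ * (s * v * (s : G)⁻¹)⁻¹ := by rw [e]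
          _ = s * (t * v * t⁻¹ * v⁻¹) * (s : G)⁻¹ := by group
      rw [e1]
      exact cj hRZ s.2 (hT t ht)
    rw [← h1] at h2
    exact mem_subgroupOf.1 h2

/-- `T ∩ N` is a Sylow 2-subgroup of the normal subgroup `N`. -/
theorem not_dvd_inf [Finite G] {H T N : Subgroup G} (hTH : T ≤ H) (hTS : ¬ 2 ∣ T.relIndex H)
    (hNH : N ≤ H) (hN : H ≤ normalizer (N : Set G)) : ¬ 2 ∣ (N ⊓ T).relIndex N := by
  have hn : (N.subgroupOf H).Normal := normal_subgroupOf_of_le_normalizer hN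
  have h1 : N.relIndex (N ⊔ T) = N.relIndex T := by
    have h := Subgroup.relIndex_sup_left (K := N.subgroupOf H) (H := T.subgroupOf H)
    rw [← Subgroup.subgroupOf_sup hNH hTH, Subgroup.relIndex_subgroupOf (sup_le hNH hTH),
      Subgroup.relIndex_subgroupOf hTH] at h
    exact h
  have h2 := Subgroup.relIndex_mul_relIndex (N ⊓ T) N (N ⊔ T) inf_le_left le_sup_left
  have h3 := Subgroup.relIndex_mul_relIndex (N ⊓ T) T (N ⊔ T) inf_le_right le_sup_right
  have h4 : (N ⊓ T).relIndex T = N.relIndex T := Subgroup.inf_relIndex_right N T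
  rw [h1] at h2
  rw [h4, ← h2, mul_comm] at h3
  have h5 : T.relIndex (N ⊔ T) = (N ⊓ T).relIndex N :=
    Nat.eq_of_mul_eq_mul_right (Nat.pos_of_ne_zero (Subgroup.index_ne_zero_of_finite
      (H := N.subgroupOf T))) h3
  intro h
  have h6 := Subgroup.relIndex_mul_relIndex T (N ⊔ T) H le_sup_right (sup_le hNH hTH)
  exact hTS (h6 ▸ (h5 ▸ h : 2 ∣ T.relIndex (N ⊔ T)).mul_right _)

theorem norm_cent {K N : Subgroup G} (h : K ≤ normalizer (N : Set G)) :
    K ≤ normalizer ((centralizer (N : Set G) : Subgroup G) : Set G) := by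
  refine le_norm fun k hk x hx => mem_centralizer_iff.2 fun n hn => ?_
  have h2 := mem_centralizer_iff.1 hx _ (cj' h hk hn)
  calc n * (k * x * k⁻¹) = k * ((k⁻¹ * n * k) * x) * k⁻¹ := by group
    _ = k * (x * (k⁻¹ * n * k)) * k⁻¹ := by rw [h2]
    _ = k * x * k⁻¹ * n := by group

/-- A normal subgroup `N` of `H` which induces a 2-group on `U = ⟨v^H⟩` centralises `U`, if `v` is
centralised by a Sylow 2-subgroup `T` of `H`. -/
theorem le_centralizer_of_ext [Finite G] {H T U N : Subgroup G} {v : G} (hTH : T ≤ H)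
    (hTS : ¬ 2 ∣ T.relIndex H) (hTv : ∀ t ∈ T, t * v = v * t) (hNH : N ≤ H)
    (hN : H ≤ normalizer (N : Set G)) (hvU : v ∈ U) (hUn : H ≤ normalizer (U : Set G))
    (hU : ∀ Y : Subgroup G, v ∈ Y → H ≤ normalizer (Y : Set G) → U ≤ Y)
    (h2 : ∀ n ∈ N, ∃ k : ℕ, n ^ 2 ^ k ∈ centralizer (U : Set G)) : N ≤ centralizer (U : Set G) := by
  -- the subgroup `M = (N ∩ C(U)) (N ∩ T)` of `N`
  set D := N ⊓ centralizer (U : Set G) with hD
  have hDn : N ≤ normalizer (D : Set G) := by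
    refine le_norm fun n hn x hx => mem_inf.2 ⟨mul_mem (mul_mem hn hx.1) (inv_mem hn), ?_⟩
    exact cj (norm_cent (hNH.trans hUn)) hn hx.2
  have hM : N ≤ D ⊔ (N ⊓ T) := by
    -- the index of `D ⊔ (N ⊓ T)` in `N` is odd and a power of 2
    have hdvd1 : (D ⊔ (N ⊓ T)).relIndex N ∣ D.relIndex N :=
      Subgroup.relIndex_dvd_of_le_left N le_sup_left
    have hpow : ∃ k, D.relIndex N = 2 ^ k := by
      have hp : Fact (Nat.Prime 2) := ⟨Nat.prime_two⟩
      have hDn' : (D.subgroupOf N).Normal := normal_subgroupOf_of_le_normalizer hDn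
      have hq : IsPGroup 2 (N ⧸ D.subgroupOf N) := by
        intro x
        obtain ⟨n, rfl⟩ := QuotientGroup.mk_surjective x
        obtain ⟨k, hk⟩ := h2 n n.2
        refine ⟨k, ?_⟩
        rw [← QuotientGroup.mk_pow, QuotientGroup.eq_one_iff]
        rw [mem_subgroupOf]
        exact ⟨by simpa using N.pow_mem n.2 (2 ^ k), by simpa using hk⟩
      obtain ⟨k, hk⟩ := IsPGroup.iff_card.1 hq
      exact ⟨k, by rw [← hk]; rfl⟩
    have hodd : ¬ 2 ∣ (D ⊔ (N ⊓ T)).relIndex N := by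
      intro h
      have h3 : (D ⊔ (N ⊓ T)).relIndex N ∣ (N ⊓ T).relIndex N :=
        Subgroup.relIndex_dvd_of_le_left N le_sup_right
      exact not_dvd_inf hTH hTS hNH hN (h.trans h3)
    rw [← Subgroup.relIndex_eq_one]
    obtain ⟨k, hk⟩ := hpow
    rw [hk] at hdvd1
    obtain ⟨j, -, hj⟩ := (Nat.dvd_prime_pow Nat.prime_two).1 hdvd1
    rcases Nat.eq_zero_or_pos j with h0 | h0
    · rw [hj, h0, pow_zero]
    · exact absurd (hj ▸ dvd_pow_self 2 h0.ne') hodd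
  have hNv : v ∈ centralizer (N : Set G) := by
    have h7 : N ≤ centralizer {v} := by
      refine hM.trans (sup_le (inf_le_right.trans (centralizer_le (Set.singleton_subset_iff.2 hvU))) ?_)
      intro t ht
      refine mem_centralizer_iff.2 fun x hx => ?_
      rw [Set.mem_singleton_iff.1 hx]
      exact (hTv t ht.2).symm
    exact mem_centralizer_iff.2 fun n hn => (mem_centralizer_iff.1 (h7 hn) v rfl).symm
  exact Subgroup.le_centralizer_iff.1 (hU _ hNv (norm_cent hN))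

theorem norm_sup {K P Q : Subgroup G} (hP : K ≤ normalizer (P : Set G)) (hQ : K ≤ normalizer (Q : Set G)) :
    K ≤ normalizer ((P ⊔ Q : Subgroup G) : Set G) := by
  refine le_norm fun k hk x hx => ?_
  have h1 : P ⊔ Q ≤ (P ⊔ Q).comap (MulAut.conj k).toMonoidHom := by
    refine sup_le (fun y hy => ?_) (fun y hy => ?_)
    · exact mem_sup_left (cj hP hk hy)
    · exact mem_sup_right (cj hQ hk hy)
  exact h1 hx

theorem br_mul {U : Subgroup G} {r a b : G} (hc : ∀ u ∈ U, ∀ w ∈ U, u * w = w * u)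
    (hr : r ∈ normalizer (U : Set G)) (ha : a ∈ U) (hb : b ∈ U) :
    r * (a * b) * r⁻¹ * (a * b)⁻¹ = (r * a * r⁻¹ * a⁻¹) * (r * b * r⁻¹ * b⁻¹) := by
  have h1 : r * b * r⁻¹ * b⁻¹ ∈ U := mul_mem ((mem_normalizer_iff.1 hr b).1 hb) (inv_mem hb)
  calc r * (a * b) * r⁻¹ * (a * b)⁻¹ = (r * a * r⁻¹) * ((r * b * r⁻¹ * b⁻¹) * a⁻¹) := by group
    _ = (r * a * r⁻¹) * (a⁻¹ * (r * b * r⁻¹ * b⁻¹)) := by rw [hc _ h1 _ (inv_mem ha)]
    _ = _ := by group

/-- the four elements of a four-group -/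
theorem four [Finite G] {V : Subgroup G} {v w : G} (hV : Nat.card V = 4) (hv : v ∈ V) (hw : w ∈ V)
    (hv1 : v ≠ 1) (hw1 : w ≠ 1) (hvw : v ≠ w) (hv2 : v * v = 1) :
    ∀ x ∈ V, x = 1 ∨ x = v ∨ x = w ∨ x = v * w := by
  intro x hx
  by_contra hcon
  push Not at hcon
  obtain ⟨h1, h2, h3, h4⟩ := hcon
  have hvw1 : v * w ≠ 1 := by
    intro h
    apply hvw
    exact (mul_left_cancel (h.trans hv2.symm)).symm
  have hs : ({x, 1, v, w, v * w} : Set G) ⊆ V := by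
    intro y hy
    rcases hy with rfl | rfl | rfl | rfl | rfl
    · exact hx
    · exact one_mem _
    · exact hv
    · exact hw
    · exact mul_mem hv hw
  have hcard := Set.ncard_le_ncard hs (Set.toFinite _)
  have hV' : (V : Set G).ncard = 4 := hV
  have h5 : ({x, 1, v, w, v * w} : Set G).ncard = 5 := by
    have n1 : w ≠ v * w := fun h => hv1 (mul_right_cancel ((one_mul w).trans h)).symm
    have n2 : v ∉ ({w, v * w} : Set G) := by
      rintro (h | h)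
      · exact hvw h
      · exact hw1 (mul_left_cancel ((mul_one v).trans h)).symm
    have n3 : (1 : G) ∉ ({v, w, v * w} : Set G) := by
      rintro (h | h | h)
      · exact hv1 h.symm
      · exact hw1 h.symm
      · exact hvw1 h.symm
    have n4 : x ∉ ({1, v, w, v * w} : Set G) := by
      rintro (h | h | h | h)
      · exact h1 h
      · exact h2 h
      · exact h3 h
      · exact h4 h
    rw [Set.ncard_insert_of_notMem n4 (Set.toFinite _), Set.ncard_insert_of_notMem n3 (Set.toFinite _),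
      Set.ncard_insert_of_notMem n2 (Set.toFinite _), Set.ncard_pair n1]
  omega

/-! ### The closure of `u` under `K` -/

/-- the closure of `u` under `K` -/
def Pc (K : Subgroup G) (u : G) : Subgroup G := Subgroup.closure {x | ∃ k ∈ K, x = k * u * k⁻¹}

theorem Pc_self {K : Subgroup G} {u : G} : u ∈ Pc K u :=
  subset_closure ⟨1, one_mem _, by group⟩

theorem Pc_le {K M : Subgroup G} {u : G} (hu : u ∈ M) (hK : K ≤ normalizer (M : Set G)) : Pc K u ≤ M := by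
  refine (closure_le _).2 ?_
  rintro _ ⟨k, hk, rfl⟩
  exact cj hK hk hu

theorem Pc_conj {K : Subgroup G} {u x h : G} (hh : h ∈ normalizer (K : Set G)) (hx : x ∈ Pc K u) :
    h * x * h⁻¹ ∈ Pc K (h * u * h⁻¹) := by
  have h1 : Pc K u ≤ (Pc K (h * u * h⁻¹)).comap (MulAut.conj h).toMonoidHom := by
    refine (closure_le _).2 ?_
    rintro _ ⟨k, hk, rfl⟩
    refine subset_closure ⟨h * k * h⁻¹, (mem_normalizer_iff.1 hh k).1 hk, ?_⟩
    change h * (k * u * k⁻¹) * h⁻¹ = _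
    group
  exact h1 hx

theorem Pc_norm {K : Subgroup G} {u : G} : K ≤ normalizer (Pc K u : Set G) := by
  refine le_norm fun k hk x hx => ?_
  have h1 : Pc K (k * u * k⁻¹) ≤ Pc K u := by
    refine (closure_le _).2 ?_
    rintro _ ⟨k', hk', rfl⟩
    exact subset_closure ⟨k' * k, mul_mem hk' hk, by group⟩
  exact h1 (Pc_conj (le_normalizer hk) hx)

/-! ### The situation -/

/-- The situation of THEOREM G: `T ≤ D ≤ H`, `H = ⟨D, L₂⟩`, `N = ⟨v₂^H⟩`. -/
structure Dat (T D H L1 L2 V1 V2 N A : Subgroup G) (v1 v2 : G) : Prop where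
  pT : IsPGroup 2 T
  TD : T ≤ D
  DH : D ≤ H
  odd : ¬ 2 ∣ T.relIndex H
  L2H : L2 ≤ H
  HDL : H ≤ D ⊔ L2
  Hv1 : ∀ h ∈ H, h * v1 = v1 * h
  Dv2 : ∀ d ∈ D, d * v2 = v2 * d
  /-- `V₁N` is elementary abelian -/
  comm : ∀ x ∈ V1 ⊔ N, ∀ y ∈ V1 ⊔ N, x * y = y * x
  sq : ∀ x ∈ V1 ⊔ N, x ^ 2 = 1
  v1V : v1 ∈ V1
  v1ne : v1 ≠ 1
  cV1 : Nat.card V1 = 4
  v2V : v2 ∈ V2
  v2ne : v2 ≠ 1
  cV2 : Nat.card V2 = 4
  v12 : v1 ∉ V2
  TV1 : T ≤ normalizer (V1 : Set G)
  TV2 : T ≤ normalizer (V2 : Set G)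
  L2V1 : L2 ≤ normalizer (V1 : Set G)
  L2V2 : L2 ≤ normalizer (V2 : Set G)
  /-- `L₂` is transitive on `V₂#` -/
  tr2 : ∀ u ∈ V2, u ≠ 1 → ∃ l ∈ L2, l * v2 * l⁻¹ = u
  L1V1 : L1 ≤ normalizer (V1 : Set G)
  L1v2 : ∀ l ∈ L1, l * v2 = v2 * l
  /-- `L₁` is transitive on `V₁#` -/
  tr1 : ∀ u ∈ V1, u ≠ 1 → ∃ l ∈ L1, l * v1 * l⁻¹ = u
  CV1 : centralizer (V1 : Set G) ≤ H
  /-- `N` is the closure of the `H`-conjugates of `v₂` -/
  v2N : v2 ∈ N
  HN : H ≤ normalizer (N : Set G)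
  minN : ∀ M : Subgroup G, v2 ∈ M → H ≤ normalizer (M : Set G) → N ≤ M
  NT : N ≤ T
  /-- LEMMA FIX on `N` -/
  fix : ∀ n ∈ N, (∀ t ∈ T, t * n * t⁻¹ * n⁻¹ ∈ zpowers v1) → n ∈ zpowers v1 ⊔ zpowers v2
  V1N : ¬ V1 ≤ N
  /-- nonlocal -/
  L1N : ¬ L1 ≤ normalizer (N : Set G)
  /-- `A ∈ 𝒜(T)` moves `V₂` -/
  AT : A ≤ T
  Ac : ∀ x ∈ A, ∀ y ∈ A, x * y = y * x
  As : ∀ x ∈ A, x ^ 2 = 1
  Amax : ∀ B : Subgroup G, B ≤ T → (∀ x ∈ B, ∀ y ∈ B, x * y = y * x) → (∀ x ∈ B, x ^ 2 = 1) →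
    Nat.card B ≤ Nat.card A
  AV2 : ∃ a ∈ A, ∃ x ∈ V2, a * x ≠ x * a

namespace Dat

variable {T D H L1 L2 V1 V2 N A : Subgroup G} {v1 v2 : G} (d : Dat T D H L1 L2 V1 V2 N A v1 v2)

include d

theorem TH : T ≤ H := d.TD.trans d.DH

theorem v1sq : v1 ^ 2 = 1 := d.sq v1 (mem_sup_left d.v1V)

theorem v2sq : v2 ^ 2 = 1 := d.sq v2 (mem_sup_right d.v2N)

theorem memZ {x : G} : x ∈ zpowers v1 ↔ x = 1 ∨ x = v1 := mem_zp d.v1sq

theorem HZ : H ≤ normalizer (zpowers v1 : Set G) := by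
  refine le_norm fun h hh x hx => ?_
  have h1 : h * x * h⁻¹ = x := by
    rcases d.memZ.1 hx with rfl | rfl
    · group
    · rw [d.Hv1 h hh]; group
  rwa [h1]

theorem V2N : V2 ≤ N := by
  intro u hu
  by_cases h : u = 1
  · rw [h]; exact one_mem _
  · obtain ⟨l, hl, rfl⟩ := d.tr2 u hu h
    exact cj d.HN (d.L2H hl) d.v2N

theorem Nc : ∀ x ∈ N, ∀ y ∈ N, x * y = y * x := fun x hx y hy =>
  d.comm x (mem_sup_right hx) y (mem_sup_right hy)

theorem Ns : ∀ x ∈ N, x * x = 1 := fun x hx => by rw [← pow_two]; exact d.sq x (mem_sup_right hx)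

/-- a third element -/
theorem exists_w [Finite G] : ∃ w ∈ V2, w ≠ 1 ∧ w ≠ v2 ∧ (∀ x ∈ V2, x = 1 ∨ x = v2 ∨ x = w ∨ x = v2 * w) ∧
    ∃ a ∈ A, a * w * a⁻¹ = v2 * w := by
  obtain ⟨a, ha, w, hw, hne⟩ := d.AV2
  have haT : a ∈ T := d.AT ha
  have hw1 : w ≠ 1 := by
    rintro rfl
    exact hne (by group)
  have hav : a * v2 = v2 * a := d.Dv2 a (d.TD haT)
  have hwv : w ≠ v2 := by
    rintro rfl
    exact hne hav
  have hall := four d.cV2 d.v2V hw d.v2ne hw1 hwv.symm (d.Ns v2 d.v2N)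
  refine ⟨w, hw, hw1, hwv, hall, a, ha, ?_⟩
  rcases hall _ (cj d.TV2 haT hw) with h | h | h | h
  · exfalso
    apply hw1
    have h1 := congrArg (fun g => a⁻¹ * g * a) h
    simpa [mul_assoc] using h1
  · exfalso
    apply hwv
    have h1 : a * w * a⁻¹ = a * v2 * a⁻¹ := by rw [h, hav]; group
    exact mul_left_cancel (mul_right_cancel h1)
  · exfalso
    exact hne (mul_inv_eq_iff_eq_mul.1 h)
  · exact h

/-- `v₁` has no complement containing `v₂`. -/
theorem noCompl [Finite G] {W : Subgroup G} (hWN : W ≤ N) (hDW : D ≤ normalizer (W : Set G)) (hv : v2 ∈ W)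
    (hL : L2 ≤ normalizer ((W ⊔ zpowers v1 : Subgroup G) : Set G)) : N ≤ W := by
  classical
  have hH : H ≤ normalizer ((W ⊔ zpowers v1 : Subgroup G) : Set G) :=
    d.HDL.trans (sup_le (norm_sup hDW (d.DH.trans d.HZ)) hL)
  have hN1 : N ≤ W ⊔ zpowers v1 := d.minN _ (mem_sup_left hv) hH
  by_cases h1 : v1 ∈ W
  · exact hN1.trans (sup_le le_rfl (zpowers_le.2 h1))
  have hv11 : v1 * v1 = 1 := by rw [← pow_two]; exact d.v1sq
  have hdec : ∀ n ∈ N, n ∈ W ∨ n * v1 ∈ W := by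
    intro n hn
    obtain ⟨w, hw, z, hz, rfl⟩ := mem_sup_comm (P := W) (Q := zpowers v1) (fun x hx y hy => by
      refine d.comm x (mem_sup_right (hWN hx)) y (mem_sup_left ?_)
      exact zpowers_le.2 d.v1V hy) (hN1 hn)
    rcases d.memZ.1 hz with rfl | rfl
    · left
      rwa [mul_one]
    · right
      rw [mul_assoc, hv11, mul_one]
      exact hw
  by_cases h2 : v1 ∈ N
  · exfalso
    let χ : G → ZMod 2 := fun x => if x ∈ W then 0 else 1
    have χ0 : ∀ x ∈ W, χ x = 0 := fun x hx => if_pos hx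
    have χ1 : ∀ x, x ∉ W → χ x = 1 := fun x hx => if_neg hx
    have χm : ∀ x ∈ N, ∀ y ∈ N, χ (x * y) = χ x + χ y := by
      intro x hx y hy
      by_cases hxW : x ∈ W
      · by_cases hyW : y ∈ W
        · rw [χ0 x hxW, χ0 y hyW, χ0 _ (mul_mem hxW hyW), add_zero]
        · have h3 : x * y ∉ W := fun h => hyW ((mul_mem_cancel_left hxW).1 h)
          rw [χ0 x hxW, χ1 y hyW, χ1 _ h3, zero_add]
      · by_cases hyW : y ∈ W
        · have h3 : x * y ∉ W := fun h => hxW ((mul_mem_cancel_right hyW).1 h)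
          rw [χ1 x hxW, χ0 y hyW, χ1 _ h3, add_zero]
        · have h3 := (hdec x hx).resolve_left hxW
          have h4 := (hdec y hy).resolve_left hyW
          have h5 : x * y ∈ W := by
            have h6 := mul_mem h3 h4
            have e : x * v1 * (y * v1) = x * y := by
              calc x * v1 * (y * v1) = x * (v1 * y) * v1 := by group
                _ = x * (y * v1) * v1 := by rw [d.Nc v1 h2 y hy]
                _ = x * y * (v1 * v1) := by group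
                _ = x * y := by rw [hv11, mul_one]
            rwa [e] at h6
          rw [χ1 x hxW, χ1 y hyW, χ0 _ h5]
          decide
    have χt : ∀ t ∈ T, ∀ x, χ (t * x * t⁻¹) = χ x := by
      intro t ht x
      have h3 : t * x * t⁻¹ ∈ W ↔ x ∈ W := (mem_normalizer_iff.1 (hDW (d.TD ht)) x).symm
      by_cases hx : x ∈ W
      · rw [χ0 x hx, χ0 _ (h3.2 hx)]
      · rw [χ1 x hx, χ1 _ fun h => hx (h3.1 h)]
    let _ : Fintype (H ⧸ T.subgroupOf H) := Fintype.ofFinite _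
    let F : G → ZMod 2 := fun n => ∑ q : H ⧸ T.subgroupOf H, χ (((q.out : H) : G)⁻¹ * n * (q.out : H))
    have Fm : ∀ x ∈ N, ∀ y ∈ N, F (x * y) = F x + F y := by
      intro x hx y hy
      change (∑ q : H ⧸ T.subgroupOf H, _) = (∑ q : H ⧸ T.subgroupOf H, _) + (∑ q : H ⧸ T.subgroupOf H, _)
      rw [← Finset.sum_add_distrib]
      refine Finset.sum_congr rfl fun q _ => ?_
      rw [← χm _ (cj' d.HN q.out.2 hx) _ (cj' d.HN q.out.2 hy)]
      congr 1
      group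
    have Fh : ∀ h ∈ H, ∀ n, F (h * n * h⁻¹) = F n := by
      intro h hh n
      change (∑ q : H ⧸ T.subgroupOf H, χ (((q.out : H) : G)⁻¹ * (h * n * h⁻¹) * (q.out : H))) =
        ∑ q : H ⧸ T.subgroupOf H, χ (((q.out : H) : G)⁻¹ * n * (q.out : H))
      rw [← Equiv.sum_comp (MulAction.toPerm (⟨h, hh⟩ : H))
        (fun q : H ⧸ T.subgroupOf H => χ (((q.out : H) : G)⁻¹ * (h * n * h⁻¹) * (q.out : H)))]
      refine Finset.sum_congr rfl fun q _ => ?_
      obtain ⟨t, ht, e⟩ := out_mul H T ⟨h, hh⟩ q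
      have e0 : (MulAction.toPerm (⟨h, hh⟩ : H)) q = (⟨h, hh⟩ : H) • q := rfl
      rw [e0]
      set s : G := (((((⟨h, hh⟩ : H) • q).out : H)) : G) with hs
      have e1 : s = h * (q.out : H) * t⁻¹ := by
        have e2 : h * ((q.out : H) : G) = s * t := e
        rw [e2]; group
      have e3 : s⁻¹ * (h * n * h⁻¹) * s = t * (((q.out : H) : G)⁻¹ * n * (q.out : H)) * t⁻¹ := by
        rw [e1]; group
      rw [e3, χt t ht]
    have Fv1 : F v1 = 1 := by
      obtain ⟨m, hm⟩ := odd_card (R := H) (T := T) d.odd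
      change (∑ q : H ⧸ T.subgroupOf H, χ (((q.out : H) : G)⁻¹ * v1 * (q.out : H))) = 1
      have h3 : ∀ q : H ⧸ T.subgroupOf H, χ (((q.out : H) : G)⁻¹ * v1 * (q.out : H)) = 1 := by
        intro q
        have h4 : ((q.out : H) : G)⁻¹ * v1 * (q.out : H) = v1 := by
          rw [mul_assoc, ← d.Hv1 _ q.out.2]; group
        rw [h4]
        exact χ1 _ h1
      rw [Finset.sum_congr rfl fun q _ => h3 q, Finset.sum_const, Finset.card_univ, hm, nsmul_eq_mul, mul_one,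
        Nat.cast_add, Nat.cast_mul]
      have h5 : ((2 : ℕ) : ZMod 2) = 0 := by decide
      rw [h5, zero_mul, zero_add, Nat.cast_one]
    have Fv2 : F v2 = 0 := by
      obtain ⟨w, hw, hw1, hwv, -, -⟩ := d.exists_w
      obtain ⟨l, hl, hlw⟩ := d.tr2 w hw hw1
      have hvw : v2 * w ≠ 1 := by
        intro h
        apply hwv
        exact mul_left_cancel (h.trans (d.Ns v2 d.v2N).symm)
      obtain ⟨l', hl', hlw'⟩ := d.tr2 _ (mul_mem d.v2V hw) hvw
      have h3 : F w = F v2 := by rw [← hlw]; exact Fh l (d.L2H hl) v2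
      have h4 : F (v2 * w) = F v2 := by rw [← hlw']; exact Fh l' (d.L2H hl') v2
      have h5 := Fm v2 d.v2N w (d.V2N hw)
      rw [h4, h3] at h5
      exact left_eq_add.1 h5
    let M : Subgroup G :=
      { carrier := {n | n ∈ N ∧ F n = 0}
        one_mem' := by
          refine ⟨one_mem _, ?_⟩
          have h3 := Fm 1 (one_mem _) 1 (one_mem _)
          rw [mul_one] at h3
          exact left_eq_add.1 h3
        mul_mem' := by
          rintro x y ⟨hx, hx'⟩ ⟨hy, hy'⟩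
          exact ⟨mul_mem hx hy, by rw [Fm x hx y hy, hx', hy', add_zero]⟩
        inv_mem' := by
          rintro x ⟨hx, hx'⟩
          have h3 : x⁻¹ = x := inv_eq_of_mul_eq_one_left (d.Ns x hx)
          rw [h3]
          exact ⟨hx, hx'⟩ }
    have hM : N ≤ M := d.minN M ⟨d.v2N, Fv2⟩ (le_norm fun h hh x hx => ⟨cj d.HN hh hx.1, by
      rw [Fh h hh]
      exact hx.2⟩)
    have h3 : F v1 = 0 := (hM h2).2
    rw [Fv1] at h3
    exact one_ne_zero h3
  · intro n hn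
    rcases hdec n hn with h | h
    · exact h
    · exfalso
      apply h2
      have h3 := mul_mem (inv_mem hn) (hWN h)
      rwa [inv_mul_cancel_left] at h3

/-- A subgroup `R ≥ T, L₂` of `H` normalising `V₁N` normalises `V₁`. -/
theorem normV1 [Finite G] {R : Subgroup G} (hRH : R ≤ H) (hTR : T ≤ R) (hLR : L2 ≤ R)
    (hRn : R ≤ normalizer ((V1 ⊔ N : Subgroup G) : Set G)) {r x : G} (hr : r ∈ R) (hx : x ∈ V1) :
    r * x * r⁻¹ * x⁻¹ ∈ zpowers v1 := by
  have hbz : ∀ r ∈ R, ∀ z ∈ zpowers v1, r * z * r⁻¹ * z⁻¹ = 1 := by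
    intro r hr z hz
    have h1 : r * z = z * r := by
      rcases d.memZ.1 hz with rfl | rfl
      · group
      · exact d.Hv1 r (hRH hr)
    rw [h1]; group
  by_cases hxZ : x ∈ zpowers v1
  · rw [hbz r hr x hxZ]; exact one_mem _
  have hv11 : v1 * v1 = 1 := by rw [← pow_two]; exact d.v1sq
  have hx1 : x ≠ 1 := fun h => hxZ (by rw [h]; exact one_mem _)
  have hxv : v1 ≠ x := fun h => hxZ (by rw [← h]; exact mem_zpowers _)
  have hZV : zpowers v1 ≤ V1 := zpowers_le.2 d.v1V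
  -- `V₁ = Z₁ ∪ xZ₁`
  have hV : ∀ y ∈ V1, y ∈ zpowers v1 ∨ y * x⁻¹ ∈ zpowers v1 := by
    intro y hy
    rcases four d.cV1 d.v1V hx d.v1ne hx1 hxv hv11 y hy with rfl | rfl | rfl | rfl
    · exact Or.inl (one_mem _)
    · exact Or.inl (mem_zpowers _)
    · right
      rw [mul_inv_cancel]
      exact one_mem _
    · right
      rw [mul_inv_cancel_right]
      exact mem_zpowers _
  have hVx : ∀ g, g ∈ H → g ∈ normalizer (V1 : Set G) → g * x * g⁻¹ * x⁻¹ ∈ zpowers v1 := by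
    intro g hg hgV
    rcases hV _ ((mem_normalizer_iff.1 hgV x).1 hx) with h | h
    · exfalso
      apply hxZ
      have h1 := cj' d.HZ hg h
      have e : g⁻¹ * (g * x * g⁻¹) * g = x := by group
      rwa [e] at h1
    · exact h
  have hTx : ∀ t ∈ T, t * x * t⁻¹ * x⁻¹ ∈ zpowers v1 := fun t ht => hVx t (d.TH ht) (d.TV1 ht)
  have hLx : ∀ l ∈ L2, l * x * l⁻¹ * x⁻¹ ∈ zpowers v1 := fun l hl => hVx l (d.L2H hl) (d.L2V1 hl)
  have hVU : V1 ≤ V1 ⊔ N := le_sup_left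
  have hNU : N ≤ V1 ⊔ N := le_sup_right
  -- `V₁N = M ∪ xM`
  have hRM : R ≤ normalizer ((N ⊔ zpowers v1 : Subgroup G) : Set G) :=
    norm_sup (hRH.trans d.HN) (hRH.trans d.HZ)
  have hUM : ∀ y ∈ V1 ⊔ N, y ∈ N ⊔ zpowers v1 ∨ y * x⁻¹ ∈ N ⊔ zpowers v1 := by
    intro y hy
    obtain ⟨u, hu, n, hn, rfl⟩ := mem_sup_comm (P := V1) (Q := N)
      (fun x hx y hy => d.comm x (hVU hx) y (hNU hy)) hy
    rcases hV u hu with h | h
    · exact Or.inl (mul_mem (mem_sup_right h) (mem_sup_left hn))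
    · right
      have e : u * n * x⁻¹ = u * x⁻¹ * n := by
        rw [mul_assoc, mul_assoc, d.comm n (hNU hn) x⁻¹ (inv_mem (hVU hx))]
      rw [e]
      exact mul_mem (mem_sup_right h) (mem_sup_left hn)
  have hRx : ∀ r ∈ R, r * x * r⁻¹ * x⁻¹ ∈ N ⊔ zpowers v1 := by
    intro r hr
    rcases hUM _ (cj hRn hr (hVU hx)) with h | h
    · have h1 := cj' hRM hr h
      have e : r⁻¹ * (r * x * r⁻¹) * r = x := by group
      rw [e] at h1
      exact mul_mem h (inv_mem h1)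
    · exact h
  have hodd : ¬ 2 ∣ T.relIndex R := by
    intro h
    apply d.odd
    rw [← Subgroup.relIndex_mul_relIndex T R H hTR hRH]
    exact h.mul_right _
  obtain ⟨c, hc, hcM, hcR⟩ := avg (U := V1 ⊔ N) (T := T) (R := R) (Z := zpowers v1) (M := N ⊔ zpowers v1)
    d.comm hRn (hRH.trans d.HZ) hodd (hVU hx) (by rw [← pow_two]; exact d.sq x (hVU hx)) hTx hRx
  -- `n := c x⁻¹ = n' z`
  obtain ⟨n', hn', z, hz, hnz⟩ := mem_sup_comm (P := N) (Q := zpowers v1)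
    (fun x hx y hy => d.comm x (hNU hx) y (hVU (hZV hy))) hcM
  have hcx : c = n' * z * x := by rw [← hnz]; group
  have hzU : z ∈ V1 ⊔ N := hVU (hZV hz)
  have hbr : ∀ r ∈ R, r * c * r⁻¹ * c⁻¹ = (r * n' * r⁻¹ * n'⁻¹) * (r * x * r⁻¹ * x⁻¹) := by
    intro r hr
    rw [hcx, br_mul d.comm (hRn hr) (mul_mem (hNU hn') hzU) (hVU hx),
      br_mul d.comm (hRn hr) (hNU hn') hzU, hbz r hr z hz, mul_one]
  have hn'f : ∀ r ∈ R, r * x * r⁻¹ * x⁻¹ ∈ zpowers v1 → r * n' * r⁻¹ * n'⁻¹ ∈ zpowers v1 := by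
    intro r hr h
    have h1 := hcR r hr
    rw [hbr r hr] at h1
    exact (mul_mem_cancel_right h).1 h1
  have hn'Z : n' ∈ zpowers v1 := by
    have h1 := d.fix n' hn' fun t ht => hn'f t (hTR ht) (hTx t ht)
    obtain ⟨z', hz', y, hy, rfl⟩ := mem_sup_comm (P := zpowers v1) (Q := zpowers v2) (fun x hx y hy =>
      d.comm x (hVU (hZV hx)) y (hNU (zpowers_le.2 d.v2N hy))) h1
    rcases (mem_zp d.v2sq).1 hy with rfl | rfl
    · rwa [mul_one]
    · exfalso
      obtain ⟨w, hw, hw1, hwv, -, -⟩ := d.exists_w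
      obtain ⟨l, hl, hlw⟩ := d.tr2 w hw hw1
      have h2 := hn'f l (hLR hl) (hLx l hl)
      rw [br_mul d.comm (hRn (hLR hl)) (hVU (hZV hz')) (hNU d.v2N), hbz l (hLR hl) z' hz', one_mul, hlw] at h2
      rcases d.memZ.1 h2 with h3 | h3
      · exact hwv (mul_inv_eq_one.1 h3)
      · apply d.v12
        rw [← h3]
        exact mul_mem hw (inv_mem d.v2V)
  have h1 := hcR r hr
  rw [hbr r hr, hbz r hr n' hn'Z, one_mul] at h1
  exact h1

/-- the normal closure of `u` under `K` -/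
theorem K_le [Finite G] {K : Subgroup G} (hKH : K ≤ H) (hKn : H ≤ normalizer (K : Set G))
    (hKV : K ≤ centralizer (V1 : Set G)) : K ≤ centralizer (N : Set G) := by
  classical
  obtain ⟨w, hw, hw1, hwv, hall, a, ha, haw⟩ := d.exists_w
  have hv22 : v2 * v2 = 1 := d.Ns v2 d.v2N
  have hwN : w ∈ N := d.V2N hw
  have hw2 : w * w = 1 := d.Ns w hwN
  have hvw : v2 * w = w * v2 := d.Nc v2 d.v2N w hwN
  set w' : G := v2 * w with hw'
  have hw'V : w' ∈ V2 := mul_mem d.v2V hw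
  have hw'1 : w' ≠ 1 := fun h => hwv (mul_left_cancel (h.trans hv22.symm))
  have hww' : w ≠ w' := fun h => d.v2ne (mul_right_cancel ((one_mul w).trans h)).symm
  have haT : a ∈ T := d.AT ha
  have haH : a ∈ H := d.TH haT
  have hav : a * v2 * a⁻¹ = v2 := by rw [d.Dv2 a (d.TD haT)]; group
  have haw' : a * w' * a⁻¹ = w := by
    calc a * w' * a⁻¹ = (a * v2 * a⁻¹) * (a * w * a⁻¹) := by rw [hw']; group
      _ = v2 * (v2 * w) := by rw [hav, haw]
      _ = v2 * v2 * w := by group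
      _ = w := by rw [hv22, one_mul]
  -- `T` on `{w, w'}`
  have hTw : ∀ t ∈ T, t * w * t⁻¹ = w ∨ t * w * t⁻¹ = w' := by
    intro t ht
    rcases hall _ (cj d.TV2 ht hw) with h | h | h | h
    · exfalso
      apply hw1
      have h1 := congrArg (fun g => t⁻¹ * g * t) h
      simpa [mul_assoc] using h1
    · exfalso
      apply hwv
      have h1 : t * w * t⁻¹ = t * v2 * t⁻¹ := by rw [h, d.Dv2 t (d.TD ht)]; group
      exact mul_left_cancel (mul_right_cancel h1)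
    · exact Or.inl h
    · exact Or.inr h
  have hTv : ∀ t ∈ T, t * v2 * t⁻¹ = v2 := by
    intro t ht
    rw [d.Dv2 t (d.TD ht)]; group
  have hTw' : ∀ t ∈ T, (t * w * t⁻¹ = w ∧ t * w' * t⁻¹ = w') ∨ (t * w * t⁻¹ = w' ∧ t * w' * t⁻¹ = w) := by
    intro t ht
    have h1 : t * w' * t⁻¹ = v2 * (t * w * t⁻¹) := by
      calc t * w' * t⁻¹ = (t * v2 * t⁻¹) * (t * w * t⁻¹) := by rw [hw']; group
        _ = _ := by rw [hTv t ht]
    rcases hTw t ht with h | h
    · left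
      exact ⟨h, by rw [h1, h]⟩
    · right
      refine ⟨h, ?_⟩
      rw [h1, h, hw', ← mul_assoc, hv22, one_mul]
  -- `P u`
  have hPN : ∀ u ∈ N, Pc K u ≤ N := fun u hu => Pc_le hu (hKH.trans d.HN)
  have hPc : ∀ h ∈ H, ∀ u x, x ∈ Pc K u → h * x * h⁻¹ ∈ Pc K (h * u * h⁻¹) := fun h hh u x hx =>
    Pc_conj (hKn hh) hx
  have hPcZ : ∀ h ∈ H, ∀ u x, x ∈ Pc K u ⊔ zpowers v1 → h * x * h⁻¹ ∈ Pc K (h * u * h⁻¹) ⊔ zpowers v1 := by
    intro h hh u x hx
    have h1 : Pc K u ⊔ zpowers v1 ≤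
        (Pc K (h * u * h⁻¹) ⊔ zpowers v1 : Subgroup G).comap (MulAut.conj h).toMonoidHom := by
      refine sup_le (fun y hy => ?_) (fun y hy => ?_)
      · exact mem_sup_left (hPc h hh u y hy)
      · exact mem_sup_right (cj d.HZ hh hy)
    exact h1 hx
  -- `N^V`
  set NV : Subgroup G := Pc (centralizer (V1 : Set G)) v2 with hNV
  have hNVN : NV ≤ N := Pc_le d.v2N (d.CV1.trans d.HN)
  have hPNV : Pc K v2 ≤ NV := Pc_le Pc_self (hKV.trans Pc_norm)
  have hL1NV : L1 ≤ normalizer (NV : Set G) := by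
    refine le_norm fun l hl x hx => ?_
    have h1 := Pc_conj (norm_cent d.L1V1 hl) hx
    have h2 : l * v2 * l⁻¹ = v2 := by rw [d.L1v2 l hl]; group
    rwa [h2] at h1
  have hNNV : ¬ N ≤ NV := by
    intro h
    have h1 : NV = N := le_antisymm hNVN h
    rw [h1] at hL1NV
    exact d.L1N hL1NV
  have hV1NV : v1 ∉ NV := by
    intro h
    apply d.V1N
    intro x hx
    by_cases hx1 : x = 1
    · rw [hx1]; exact one_mem _
    · obtain ⟨l, hl, rfl⟩ := d.tr1 x hx hx1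
      exact hNVN (cj hL1NV hl h)
  have hv1P : v1 ∉ Pc K v2 := fun h => hV1NV (hPNV h)
  have hDP : D ≤ normalizer (Pc K v2 : Set G) := by
    refine le_norm fun g hg x hx => ?_
    have h1 := hPc g (d.DH hg) v2 x hx
    have h2 : g * v2 * g⁻¹ = v2 := by rw [d.Dv2 g hg]; group
    rwa [h2] at h1
  have hL2P : ¬ L2 ≤ normalizer ((Pc K v2 ⊔ zpowers v1 : Subgroup G) : Set G) := by
    intro h
    exact hNNV ((d.noCompl (hPN v2 d.v2N) hDP Pc_self h).trans hPNV)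
  -- two-transitivity
  have htt : ∀ u ∈ V2, u ≠ 1 → ∀ u' ∈ V2, u' ≠ 1 → u' ≠ u → ∃ h ∈ H, h * v2 * h⁻¹ = u ∧ h * w * h⁻¹ = u' := by
    intro u hu hu1 u' hu' hu'1 huu'
    obtain ⟨l, hl, rfl⟩ := d.tr2 u hu hu1
    have h1 : l⁻¹ * u' * l ∈ V2 := cj' d.L2V2 hl hu'
    have e0 : ∀ g, l⁻¹ * u' * l = g → l * g * l⁻¹ = u' := by
      rintro g rfl
      group
    rcases hall _ h1 with h | h | h | h
    · exfalso
      apply hu'1
      have := e0 _ h
      rw [← this]; group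
    · exfalso
      exact huu' (e0 _ h).symm
    · exact ⟨l, d.L2H hl, rfl, e0 _ h⟩
    · refine ⟨l * a, mul_mem (d.L2H hl) haH, ?_, ?_⟩
      · calc l * a * v2 * (l * a)⁻¹ = l * (a * v2 * a⁻¹) * l⁻¹ := by group
          _ = _ := by rw [hav]
      · calc l * a * w * (l * a)⁻¹ = l * (a * w * a⁻¹) * l⁻¹ := by group
          _ = u' := by rw [haw]; exact e0 _ h
  -- the intersections modulo `Z₁`
  have hint : ∀ x, x ∈ Pc K w ⊔ zpowers v1 → x ∈ Pc K w' ⊔ zpowers v1 → x ∈ zpowers v1 := by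
    intro x hx hx'
    by_contra hxZ
    have hZc : ∀ {Q : Subgroup G}, Q ≤ N → ∀ x ∈ Q, ∀ y ∈ zpowers v1, x * y = y * x := fun hQ x hx y hy =>
      d.comm x (mem_sup_right (hQ hx)) y (mem_sup_left (zpowers_le.2 d.v1V hy))
    obtain ⟨n, hn, z, hz, rfl⟩ := mem_sup_comm (hZc (hPN w hwN)) hx
    have hnZ : n ∉ zpowers v1 := fun h => hxZ (mul_mem h hz)
    let I : Subgroup G := (Pc K w ⊔ zpowers v1) ⊓ (Pc K w' ⊔ zpowers v1) ⊓ N
    have hnI : n ∈ I := by
      refine mem_inf.2 ⟨mem_inf.2 ⟨mem_sup_left hn, ?_⟩, hPN w hwN hn⟩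
      have h1 := mul_mem hx' (inv_mem (mem_sup_right (S := Pc K w') hz))
      rwa [mul_inv_cancel_right] at h1
    have hTI : T ≤ normalizer (I : Set G) := by
      refine le_norm fun t ht y hy => ?_
      obtain ⟨⟨hy1, hy2⟩, hy3⟩ := hy
      have h1 := hPcZ t (d.TH ht) w y hy1
      have h2 := hPcZ t (d.TH ht) w' y hy2
      have h3 : t * y * t⁻¹ ∈ N := cj d.HN (d.TH ht) hy3
      rcases hTw' t ht with ⟨e1, e2⟩ | ⟨e1, e2⟩
      · rw [e1] at h1
        rw [e2] at h2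
        exact ⟨⟨h1, h2⟩, h3⟩
      · rw [e1] at h1
        rw [e2] at h2
        exact ⟨⟨h2, h1⟩, h3⟩
    obtain ⟨y, hy, hyZ, hyf⟩ := exists_fix (B := (zpowers v1 : Set G)) d.pT (inf_le_right.trans d.NT) hTI
      (one_mem _) hnI hnZ
    have h1 := d.fix y hy.2 hyf
    have hv2I : v2 ∈ Pc K w ⊔ zpowers v1 := by
      obtain ⟨z', hz', y', hy', e⟩ := mem_sup_comm (P := zpowers v1) (Q := zpowers v2) (fun x hx y hy =>
        (hZc le_rfl y (zpowers_le.2 d.v2N hy) x hx).symm) h1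
      rcases (mem_zp d.v2sq).1 hy' with rfl | rfl
      · exfalso
        rw [mul_one] at e
        exact hyZ (by rw [e]; exact hz')
      · have h2 : z'⁻¹ * y ∈ Pc K w ⊔ zpowers v1 := mul_mem (inv_mem (mem_sup_right hz')) hy.1.1
        rwa [e, inv_mul_cancel_left] at h2
    have h2 : Pc K v2 ≤ Pc K w ⊔ zpowers v1 := Pc_le hv2I (norm_sup Pc_norm (hKH.trans d.HZ))
    apply hL2P
    refine le_norm fun l hl y hy => ?_
    have h3 := hPcZ l (d.L2H hl) v2 y hy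
    by_cases h4 : l * v2 * l⁻¹ = v2
    · rwa [h4] at h3
    · -- `P (l v₂ l⁻¹) ≤ P v₂ Z₁`
      have h5 : l * v2 * l⁻¹ ≠ 1 := by
        intro h6
        apply d.v2ne
        have h7 := congrArg (fun g => l⁻¹ * g * l) h6
        simpa [mul_assoc] using h7
      obtain ⟨h, hh, e1, e2⟩ := htt _ (cj d.L2V2 hl d.v2V) h5 v2 d.v2V d.v2ne (fun h => h4 h.symm)
      have h6 : Pc K (l * v2 * l⁻¹) ⊔ zpowers v1 ≤ Pc K v2 ⊔ zpowers v1 := by
        refine sup_le (Pc_le ?_ (norm_sup Pc_norm (hKH.trans d.HZ))) le_sup_right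
        have h7 := hPcZ h hh w v2 hv2I
        rwa [e1, e2] at h7
      exact h6 h3
  have hint' : Pc K w ⊓ Pc K w' = ⊥ := by
    rw [eq_bot_iff]
    rintro x ⟨hx, hx'⟩
    rw [mem_bot]
    rcases d.memZ.1 (hint x (mem_sup_left hx) (mem_sup_left hx')) with h | h
    · exact h
    · exfalso
      rw [h] at hx
      apply hv1P
      obtain ⟨l, hl, hlw⟩ := d.tr2 w hw hw1
      have h1 := hPc l⁻¹ (inv_mem (d.L2H hl)) w _ hx
      have e1 : l⁻¹ * w * l⁻¹⁻¹ = v2 := by rw [← hlw]; group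
      have e2 : l⁻¹ * v1 * l⁻¹⁻¹ = v1 := by rw [d.Hv1 l⁻¹ (inv_mem (d.L2H hl))]; group
      rwa [e1, e2] at h1
  have hintg : ∀ h ∈ H, Pc K (h * w * h⁻¹) ⊓ Pc K (h * w' * h⁻¹) = ⊥ := by
    intro h hh
    rw [eq_bot_iff]
    rintro x ⟨hx, hx'⟩
    rw [mem_bot]
    have h1 := hPc h⁻¹ (inv_mem hh) _ x hx
    have h2 := hPc h⁻¹ (inv_mem hh) _ x hx'
    have e1 : h⁻¹ * (h * w * h⁻¹) * h⁻¹⁻¹ = w := by group
    have e2 : h⁻¹ * (h * w' * h⁻¹) * h⁻¹⁻¹ = w' := by group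
    rw [e1] at h1
    rw [e2] at h2
    have h3 : h⁻¹ * x * h⁻¹⁻¹ ∈ Pc K w ⊓ Pc K w' := ⟨h1, h2⟩
    rw [hint', mem_bot] at h3
    have h4 := congrArg (fun g => h * g * h⁻¹) h3
    simpa [mul_assoc] using h4
  have hw'v : w' ≠ v2 := by
    intro h
    exact hw1 (mul_left_cancel (h.trans (mul_one v2).symm))
  have h01 : Pc K v2 ⊓ Pc K w = ⊥ := by
    obtain ⟨h, hh, e1, e2⟩ := htt w' hw'V hw'1 v2 d.v2V d.v2ne hw'v.symm
    have e3 : h * w' * h⁻¹ = w := by
      calc h * w' * h⁻¹ = (h * v2 * h⁻¹) * (h * w * h⁻¹) := by rw [hw']; group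
        _ = (v2 * w) * v2 := by rw [e1, e2]
        _ = (w * v2) * v2 := by rw [← hw', hvw]
        _ = w := by rw [mul_assoc, hv22, mul_one]
    have h1 := hintg h hh
    rwa [e2, e3] at h1
  have h02 : Pc K v2 ⊓ Pc K w' = ⊥ := by
    obtain ⟨h, hh, e1, e2⟩ := htt w hw hw1 v2 d.v2V d.v2ne hwv.symm
    have e3 : h * w' * h⁻¹ = w' := by
      calc h * w' * h⁻¹ = (h * v2 * h⁻¹) * (h * w * h⁻¹) := by rw [hw']; group
        _ = w * v2 := by rw [e1, e2]
        _ = w' := by rw [← hvw]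
    have h1 := hintg h hh
    rwa [e2, e3] at h1
  have hYN : Pc K w ⊔ Pc K w' ≤ N := sup_le (hPN w hwN) (hPN w' (d.V2N hw'V))
  have h0Y : Pc K v2 ≤ Pc K w ⊔ Pc K w' := by
    refine Pc_le ?_ (norm_sup Pc_norm Pc_norm)
    have h1 : w * w' = v2 := by
      rw [hvw, ← mul_assoc, hw2, one_mul]
    have h2 : w * w' ∈ Pc K w ⊔ Pc K w' := mul_mem (mem_sup_left Pc_self) (mem_sup_right Pc_self)
    rwa [h1] at h2
  have hten : ∀ x ∈ Pc K v2, x = 1 ∨ x = v2 := by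
    have hPcb : ∀ b ∈ A, ∀ u, b * u = u * b → ∀ x ∈ Pc K u, b * x * b⁻¹ ∈ Pc K u := by
      intro b hb u hbu x hx
      have h1 := hPc b (d.TH (d.AT hb)) u x hx
      have e : b * u * b⁻¹ = u := by rw [hbu]; group
      rwa [e] at h1
    have hbv : ∀ b ∈ A, b * v2 = v2 * b := fun b hb => d.Dv2 b (d.TD (d.AT hb))
    refine ten (A := A) (P1 := Pc K w) (P2 := Pc K w') (Y := Pc K w ⊔ Pc K w') (T := T)
      (v1 := w) (v2 := w') (a := a) d.pT d.AT (hYN.trans d.NT)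
      (fun x hx y hy => d.Nc x (hYN hx) y (hYN hy)) (fun x hx => d.sq x (mem_sup_right (hYN hx))) d.Ac h0Y
      le_sup_left le_sup_right le_rfl h01 h02 hint' Pc_self Pc_self Pc_self hw' d.v2ne hw1 ha ?_ ?_ haw hbv
      (fun b hb h x hx => hPcb b hb w h x hx) ?_ (fun b hb h x hx => hPcb b hb v2 (hbv b hb) x hx) ?_ ?_
    · intro x hx
      have h1 := hPc a haH w x hx
      rwa [haw] at h1
    · intro x hx
      have h1 := hPc a haH w' x hx
      rwa [haw'] at h1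
    · intro b hb h x hx
      refine hPcb b hb w' ?_ x hx
      rw [hw', ← mul_assoc, hbv b hb, mul_assoc, h, mul_assoc]
    · intro b hb
      rcases hTw b (d.AT hb) with h | h
      · exact Or.inl (mul_inv_eq_iff_eq_mul.1 h)
      · exact Or.inr h
    · intro B hB
      exact off_of_max (T := T) (hYN.trans d.NT) (fun x hx y hy => d.Nc x (hYN hx) y (hYN hy))
        (fun x hx => d.sq x (mem_sup_right (hYN hx))) d.AT d.Ac d.As d.Amax hB
  -- `K` centralises `v₂`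
  have hKv : v2 ∈ centralizer (K : Set G) := by
    refine mem_centralizer_iff.2 fun k hk => ?_
    have h1 : k * v2 * k⁻¹ ∈ Pc K v2 := cj Pc_norm hk Pc_self
    rcases hten _ h1 with h | h
    · exfalso
      apply d.v2ne
      have h2 := congrArg (fun g => k⁻¹ * g * k) h
      simpa [mul_assoc] using h2
    · exact mul_inv_eq_iff_eq_mul.1 h
  exact Subgroup.le_centralizer_iff.1 (d.minN _ hKv (norm_cent hKn))

end Dat

/-- **THEOREM G.** -/
theorem thmG [Finite G] {T D H L1 L2 V1 V2 N A : Subgroup G} {v1 v2 : G} (d : Dat T D H L1 L2 V1 V2 N A v1 v2)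
    {KK : Subgroup G} (hK : KK ≤ H) (hKn : H ≤ normalizer (KK : Set G))
    (hKX : ∀ x ∈ V1, ∀ k ∈ KK, k * x * k⁻¹ * x⁻¹ ∈ N ⊔ zpowers v1) :
    KK ≤ centralizer (N : Set G) := by
  have hZV : zpowers v1 ≤ V1 := zpowers_le.2 d.v1V
  -- `KK` normalises `V₁` modulo `Z₁`
  let R : Subgroup G := H ⊓ normalizer ((V1 ⊔ N : Subgroup G) : Set G)
  have hKR : KK ≤ R := by
    refine le_inf hK (le_norm fun k hk y hy => ?_)
    have h1 : V1 ⊔ N ≤ (V1 ⊔ N).comap (MulAut.conj k).toMonoidHom := by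
      refine sup_le (fun x hx => ?_) (fun x hx => ?_)
      · change k * x * k⁻¹ ∈ V1 ⊔ N
        have h2 := hKX x hx k hk
        have h3 : N ⊔ zpowers v1 ≤ V1 ⊔ N := sup_le le_sup_right (hZV.trans le_sup_left)
        have h4 := mul_mem (h3 h2) (mem_sup_left (T := N) hx)
        rwa [inv_mul_cancel_right] at h4
      · exact mem_sup_right (cj d.HN (hK hk) hx)
    exact h1 hy
  have hTR : T ≤ R := le_inf d.TH (norm_sup d.TV1 (d.TH.trans d.HN))
  have hLR : L2 ≤ R := le_inf d.L2H (norm_sup d.L2V1 (d.L2H.trans d.HN))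
  have hKV : ∀ k ∈ KK, ∀ x ∈ V1, k * x * k⁻¹ * x⁻¹ ∈ zpowers v1 := fun k hk x hx =>
    d.normV1 (R := R) inf_le_left hTR hLR inf_le_right (hKR hk) hx
  -- the odd part
  let K : Subgroup G := Subgroup.closure {k | k ∈ KK ∧ Odd (orderOf k)}
  have hKK : K ≤ KK := (closure_le _).2 fun k hk => hk.1
  have hKn' : H ≤ normalizer (K : Set G) := by
    refine le_norm fun h hh x hx => ?_
    have h1 : K ≤ K.comap (MulAut.conj h).toMonoidHom := by
      refine (closure_le _).2 ?_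
      rintro k ⟨hk, hko⟩
      refine subset_closure ⟨cj hKn hh hk, ?_⟩
      have h2 : orderOf ((MulAut.conj h).toMonoidHom k) = orderOf k :=
        orderOf_injective (MulAut.conj h).toMonoidHom (MulAut.conj h).injective k
      rw [h2]
      exact hko
    exact h1 hx
  have hKV' : K ≤ centralizer (V1 : Set G) := by
    refine (closure_le _).2 ?_
    rintro k ⟨hk, hko⟩
    refine mem_centralizer_iff.2 fun x hx => ?_
    have h1 : k ^ 2 * x = x * k ^ 2 := by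
      rcases d.memZ.1 (hKV k hk x hx) with h | h
      · have h2 : k * x = x * k := mul_inv_eq_iff_eq_mul.1 (mul_inv_eq_one.1 h)
        calc k ^ 2 * x = k * (k * x) := by rw [pow_two]; group
          _ = x * k ^ 2 := by rw [h2, ← mul_assoc, h2, pow_two, mul_assoc]
      · have h2 : k * x = v1 * x * k := by
          have h3 := mul_inv_eq_iff_eq_mul.1 h
          exact mul_inv_eq_iff_eq_mul.1 h3
        have h4 : k * v1 = v1 * k := d.Hv1 k (hK hk)
        have hv11 : v1 * v1 = 1 := by rw [← pow_two]; exact d.v1sq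
        calc k ^ 2 * x = k * (k * x) := by rw [pow_two]; group
          _ = (k * v1) * (x * k) := by rw [h2]; group
          _ = v1 * (k * x) * k := by rw [h4]; group
          _ = (v1 * v1) * x * k * k := by rw [h2]; group
          _ = x * k ^ 2 := by rw [hv11, pow_two]; group
    obtain ⟨m, hm⟩ := hko
    have h2 : k = (k ^ 2) ^ (m + 1) := by
      rw [← pow_mul]
      have h3 : 2 * (m + 1) = orderOf k + 1 := by omega
      rw [h3, pow_succ, pow_orderOf_eq_one, one_mul]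
    have h3 : Commute (k ^ 2) x := h1
    have h4 := h3.pow_left (m + 1)
    rw [← h2] at h4
    exact h4.eq.symm
  have hKN := d.K_le (hKK.trans hK) hKn' hKV'
  refine le_centralizer_of_ext d.TH d.odd (fun t ht => d.Dv2 t (d.TD ht)) hK hKn d.v2N d.HN d.minN ?_
  intro k hk
  obtain ⟨e, m, hm, hem⟩ := Nat.exists_eq_two_pow_mul_odd (orderOf_pos k).ne'
  refine ⟨e, hKN (subset_closure ⟨pow_mem hk _, ?_⟩)⟩
  have h1 : orderOf (k ^ 2 ^ e) = m := by
    rw [orderOf_pow, hem, Nat.gcd_eq_right (Dvd.intro _ rfl), Nat.mul_div_cancel_left _ (by positivity)]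
  rw [h1]
  exact hm


end Cfsg.Agent.Omega.OM.PG.ThmG

end

section


/-!
# THEOREM G (TEXT R5 #19750 (2), Lean: OM/PG/ThmG.lean) with a weaker maximality hypothesis

The file is OM/PG/ThmG.lean (same proofs) with `A` of maximal order only among the elementary abelian subgroups of
`A N` (instead of `T`), so that `A ∈ AA(O₂(D))` is allowed.
-/

set_option autoImplicit false
set_option linter.unusedSectionVars false

namespace Cfsg.Agent.Omega.TC.RSix.GO

open Subgroup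
open Cfsg.Agent.Omega.OM.PG.Ten (le_norm cj cj' exists_fix mem_sup_comm ten off_of_max eq_of_card_two)
open Cfsg.Agent.Omega.OM.PG.ThmG (mem_zp out_mul odd_card avg not_dvd_inf norm_cent le_centralizer_of_ext norm_sup br_mul four Pc Pc_self
  Pc_le Pc_conj Pc_norm)

universe u

variable {G : Type u} [Group G]

/-! ### The situation -/

/-- The situation of THEOREM G: `T ≤ D ≤ H`, `H = ⟨D, L₂⟩`, `N = ⟨v₂^H⟩`. -/
structure Dat (T D H L1 L2 V1 V2 N A : Subgroup G) (v1 v2 : G) : Prop where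
  pT : IsPGroup 2 T
  TD : T ≤ D
  DH : D ≤ H
  odd : ¬ 2 ∣ T.relIndex H
  L2H : L2 ≤ H
  HDL : H ≤ D ⊔ L2
  Hv1 : ∀ h ∈ H, h * v1 = v1 * h
  Dv2 : ∀ d ∈ D, d * v2 = v2 * d
  /-- `V₁N` is elementary abelian -/
  comm : ∀ x ∈ V1 ⊔ N, ∀ y ∈ V1 ⊔ N, x * y = y * x
  sq : ∀ x ∈ V1 ⊔ N, x ^ 2 = 1
  v1V : v1 ∈ V1
  v1ne : v1 ≠ 1
  cV1 : Nat.card V1 = 4
  v2V : v2 ∈ V2
  v2ne : v2 ≠ 1
  cV2 : Nat.card V2 = 4
  v12 : v1 ∉ V2
  TV1 : T ≤ normalizer (V1 : Set G)
  TV2 : T ≤ normalizer (V2 : Set G)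
  L2V1 : L2 ≤ normalizer (V1 : Set G)
  L2V2 : L2 ≤ normalizer (V2 : Set G)
  /-- `L₂` is transitive on `V₂#` -/
  tr2 : ∀ u ∈ V2, u ≠ 1 → ∃ l ∈ L2, l * v2 * l⁻¹ = u
  L1V1 : L1 ≤ normalizer (V1 : Set G)
  L1v2 : ∀ l ∈ L1, l * v2 = v2 * l
  /-- `L₁` is transitive on `V₁#` -/
  tr1 : ∀ u ∈ V1, u ≠ 1 → ∃ l ∈ L1, l * v1 * l⁻¹ = u
  CV1 : centralizer (V1 : Set G) ≤ H
  /-- `N` is the closure of the `H`-conjugates of `v₂` -/
  v2N : v2 ∈ N
  HN : H ≤ normalizer (N : Set G)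
  minN : ∀ M : Subgroup G, v2 ∈ M → H ≤ normalizer (M : Set G) → N ≤ M
  NT : N ≤ T
  /-- LEMMA FIX on `N` -/
  fix : ∀ n ∈ N, (∀ t ∈ T, t * n * t⁻¹ * n⁻¹ ∈ zpowers v1) → n ∈ zpowers v1 ⊔ zpowers v2
  V1N : ¬ V1 ≤ N
  /-- nonlocal -/
  L1N : ¬ L1 ≤ normalizer (N : Set G)
  /-- `A ∈ 𝒜(A N)` moves `V₂` -/
  AT : A ≤ T
  Ac : ∀ x ∈ A, ∀ y ∈ A, x * y = y * x
  As : ∀ x ∈ A, x ^ 2 = 1
  Amax : ∀ B : Subgroup G, B ≤ A ⊔ N → (∀ x ∈ B, ∀ y ∈ B, x * y = y * x) → (∀ x ∈ B, x ^ 2 = 1) →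
    Nat.card B ≤ Nat.card A
  AV2 : ∃ a ∈ A, ∃ x ∈ V2, a * x ≠ x * a

namespace Dat

variable {T D H L1 L2 V1 V2 N A : Subgroup G} {v1 v2 : G} (d : Dat T D H L1 L2 V1 V2 N A v1 v2)

include d

theorem TH : T ≤ H := d.TD.trans d.DH

theorem v1sq : v1 ^ 2 = 1 := d.sq v1 (mem_sup_left d.v1V)

theorem v2sq : v2 ^ 2 = 1 := d.sq v2 (mem_sup_right d.v2N)

theorem memZ {x : G} : x ∈ zpowers v1 ↔ x = 1 ∨ x = v1 := mem_zp d.v1sq

theorem HZ : H ≤ normalizer (zpowers v1 : Set G) := by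
  refine le_norm fun h hh x hx => ?_
  have h1 : h * x * h⁻¹ = x := by
    rcases d.memZ.1 hx with rfl | rfl
    · group
    · rw [d.Hv1 h hh]; group
  rwa [h1]

theorem V2N : V2 ≤ N := by
  intro u hu
  by_cases h : u = 1
  · rw [h]; exact one_mem _
  · obtain ⟨l, hl, rfl⟩ := d.tr2 u hu h
    exact cj d.HN (d.L2H hl) d.v2N

theorem Nc : ∀ x ∈ N, ∀ y ∈ N, x * y = y * x := fun x hx y hy =>
  d.comm x (mem_sup_right hx) y (mem_sup_right hy)

theorem Ns : ∀ x ∈ N, x * x = 1 := fun x hx => by rw [← pow_two]; exact d.sq x (mem_sup_right hx)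

/-- a third element -/
theorem exists_w [Finite G] : ∃ w ∈ V2, w ≠ 1 ∧ w ≠ v2 ∧ (∀ x ∈ V2, x = 1 ∨ x = v2 ∨ x = w ∨ x = v2 * w) ∧
    ∃ a ∈ A, a * w * a⁻¹ = v2 * w := by
  obtain ⟨a, ha, w, hw, hne⟩ := d.AV2
  have haT : a ∈ T := d.AT ha
  have hw1 : w ≠ 1 := by
    rintro rfl
    exact hne (by group)
  have hav : a * v2 = v2 * a := d.Dv2 a (d.TD haT)
  have hwv : w ≠ v2 := by
    rintro rfl
    exact hne hav
  have hall := four d.cV2 d.v2V hw d.v2ne hw1 hwv.symm (d.Ns v2 d.v2N)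
  refine ⟨w, hw, hw1, hwv, hall, a, ha, ?_⟩
  rcases hall _ (cj d.TV2 haT hw) with h | h | h | h
  · exfalso
    apply hw1
    have h1 := congrArg (fun g => a⁻¹ * g * a) h
    simpa [mul_assoc] using h1
  · exfalso
    apply hwv
    have h1 : a * w * a⁻¹ = a * v2 * a⁻¹ := by rw [h, hav]; group
    exact mul_left_cancel (mul_right_cancel h1)
  · exfalso
    exact hne (mul_inv_eq_iff_eq_mul.1 h)
  · exact h

/-- `v₁` has no complement containing `v₂`. -/
theorem noCompl [Finite G] {W : Subgroup G} (hWN : W ≤ N) (hDW : D ≤ normalizer (W : Set G)) (hv : v2 ∈ W)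
    (hL : L2 ≤ normalizer ((W ⊔ zpowers v1 : Subgroup G) : Set G)) : N ≤ W := by
  classical
  have hH : H ≤ normalizer ((W ⊔ zpowers v1 : Subgroup G) : Set G) :=
    d.HDL.trans (sup_le (norm_sup hDW (d.DH.trans d.HZ)) hL)
  have hN1 : N ≤ W ⊔ zpowers v1 := d.minN _ (mem_sup_left hv) hH
  by_cases h1 : v1 ∈ W
  · exact hN1.trans (sup_le le_rfl (zpowers_le.2 h1))
  have hv11 : v1 * v1 = 1 := by rw [← pow_two]; exact d.v1sq
  have hdec : ∀ n ∈ N, n ∈ W ∨ n * v1 ∈ W := by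
    intro n hn
    obtain ⟨w, hw, z, hz, rfl⟩ := mem_sup_comm (P := W) (Q := zpowers v1) (fun x hx y hy => by
      refine d.comm x (mem_sup_right (hWN hx)) y (mem_sup_left ?_)
      exact zpowers_le.2 d.v1V hy) (hN1 hn)
    rcases d.memZ.1 hz with rfl | rfl
    · left
      rwa [mul_one]
    · right
      rw [mul_assoc, hv11, mul_one]
      exact hw
  by_cases h2 : v1 ∈ N
  · exfalso
    let χ : G → ZMod 2 := fun x => if x ∈ W then 0 else 1
    have χ0 : ∀ x ∈ W, χ x = 0 := fun x hx => if_pos hx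
    have χ1 : ∀ x, x ∉ W → χ x = 1 := fun x hx => if_neg hx
    have χm : ∀ x ∈ N, ∀ y ∈ N, χ (x * y) = χ x + χ y := by
      intro x hx y hy
      by_cases hxW : x ∈ W
      · by_cases hyW : y ∈ W
        · rw [χ0 x hxW, χ0 y hyW, χ0 _ (mul_mem hxW hyW), add_zero]
        · have h3 : x * y ∉ W := fun h => hyW ((mul_mem_cancel_left hxW).1 h)
          rw [χ0 x hxW, χ1 y hyW, χ1 _ h3, zero_add]
      · by_cases hyW : y ∈ W
        · have h3 : x * y ∉ W := fun h => hxW ((mul_mem_cancel_right hyW).1 h)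
          rw [χ1 x hxW, χ0 y hyW, χ1 _ h3, add_zero]
        · have h3 := (hdec x hx).resolve_left hxW
          have h4 := (hdec y hy).resolve_left hyW
          have h5 : x * y ∈ W := by
            have h6 := mul_mem h3 h4
            have e : x * v1 * (y * v1) = x * y := by
              calc x * v1 * (y * v1) = x * (v1 * y) * v1 := by group
                _ = x * (y * v1) * v1 := by rw [d.Nc v1 h2 y hy]
                _ = x * y * (v1 * v1) := by group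
                _ = x * y := by rw [hv11, mul_one]
            rwa [e] at h6
          rw [χ1 x hxW, χ1 y hyW, χ0 _ h5]
          decide
    have χt : ∀ t ∈ T, ∀ x, χ (t * x * t⁻¹) = χ x := by
      intro t ht x
      have h3 : t * x * t⁻¹ ∈ W ↔ x ∈ W := (mem_normalizer_iff.1 (hDW (d.TD ht)) x).symm
      by_cases hx : x ∈ W
      · rw [χ0 x hx, χ0 _ (h3.2 hx)]
      · rw [χ1 x hx, χ1 _ fun h => hx (h3.1 h)]
    let _ : Fintype (H ⧸ T.subgroupOf H) := Fintype.ofFinite _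
    let F : G → ZMod 2 := fun n => ∑ q : H ⧸ T.subgroupOf H, χ (((q.out : H) : G)⁻¹ * n * (q.out : H))
    have Fm : ∀ x ∈ N, ∀ y ∈ N, F (x * y) = F x + F y := by
      intro x hx y hy
      change (∑ q : H ⧸ T.subgroupOf H, _) = (∑ q : H ⧸ T.subgroupOf H, _) + (∑ q : H ⧸ T.subgroupOf H, _)
      rw [← Finset.sum_add_distrib]
      refine Finset.sum_congr rfl fun q _ => ?_
      rw [← χm _ (cj' d.HN q.out.2 hx) _ (cj' d.HN q.out.2 hy)]
      congr 1
      group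
    have Fh : ∀ h ∈ H, ∀ n, F (h * n * h⁻¹) = F n := by
      intro h hh n
      change (∑ q : H ⧸ T.subgroupOf H, χ (((q.out : H) : G)⁻¹ * (h * n * h⁻¹) * (q.out : H))) =
        ∑ q : H ⧸ T.subgroupOf H, χ (((q.out : H) : G)⁻¹ * n * (q.out : H))
      rw [← Equiv.sum_comp (MulAction.toPerm (⟨h, hh⟩ : H))
        (fun q : H ⧸ T.subgroupOf H => χ (((q.out : H) : G)⁻¹ * (h * n * h⁻¹) * (q.out : H)))]
      refine Finset.sum_congr rfl fun q _ => ?_
      obtain ⟨t, ht, e⟩ := out_mul H T ⟨h, hh⟩ q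
      have e0 : (MulAction.toPerm (⟨h, hh⟩ : H)) q = (⟨h, hh⟩ : H) • q := rfl
      rw [e0]
      set s : G := (((((⟨h, hh⟩ : H) • q).out : H)) : G) with hs
      have e1 : s = h * (q.out : H) * t⁻¹ := by
        have e2 : h * ((q.out : H) : G) = s * t := e
        rw [e2]; group
      have e3 : s⁻¹ * (h * n * h⁻¹) * s = t * (((q.out : H) : G)⁻¹ * n * (q.out : H)) * t⁻¹ := by
        rw [e1]; group
      rw [e3, χt t ht]
    have Fv1 : F v1 = 1 := by
      obtain ⟨m, hm⟩ := odd_card (R := H) (T := T) d.odd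
      change (∑ q : H ⧸ T.subgroupOf H, χ (((q.out : H) : G)⁻¹ * v1 * (q.out : H))) = 1
      have h3 : ∀ q : H ⧸ T.subgroupOf H, χ (((q.out : H) : G)⁻¹ * v1 * (q.out : H)) = 1 := by
        intro q
        have h4 : ((q.out : H) : G)⁻¹ * v1 * (q.out : H) = v1 := by
          rw [mul_assoc, ← d.Hv1 _ q.out.2]; group
        rw [h4]
        exact χ1 _ h1
      rw [Finset.sum_congr rfl fun q _ => h3 q, Finset.sum_const, Finset.card_univ, hm, nsmul_eq_mul, mul_one,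
        Nat.cast_add, Nat.cast_mul]
      have h5 : ((2 : ℕ) : ZMod 2) = 0 := by decide
      rw [h5, zero_mul, zero_add, Nat.cast_one]
    have Fv2 : F v2 = 0 := by
      obtain ⟨w, hw, hw1, hwv, -, -⟩ := d.exists_w
      obtain ⟨l, hl, hlw⟩ := d.tr2 w hw hw1
      have hvw : v2 * w ≠ 1 := by
        intro h
        apply hwv
        exact mul_left_cancel (h.trans (d.Ns v2 d.v2N).symm)
      obtain ⟨l', hl', hlw'⟩ := d.tr2 _ (mul_mem d.v2V hw) hvw
      have h3 : F w = F v2 := by rw [← hlw]; exact Fh l (d.L2H hl) v2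
      have h4 : F (v2 * w) = F v2 := by rw [← hlw']; exact Fh l' (d.L2H hl') v2
      have h5 := Fm v2 d.v2N w (d.V2N hw)
      rw [h4, h3] at h5
      exact left_eq_add.1 h5
    let M : Subgroup G :=
      { carrier := {n | n ∈ N ∧ F n = 0}
        one_mem' := by
          refine ⟨one_mem _, ?_⟩
          have h3 := Fm 1 (one_mem _) 1 (one_mem _)
          rw [mul_one] at h3
          exact left_eq_add.1 h3
        mul_mem' := by
          rintro x y ⟨hx, hx'⟩ ⟨hy, hy'⟩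
          exact ⟨mul_mem hx hy, by rw [Fm x hx y hy, hx', hy', add_zero]⟩
        inv_mem' := by
          rintro x ⟨hx, hx'⟩
          have h3 : x⁻¹ = x := inv_eq_of_mul_eq_one_left (d.Ns x hx)
          rw [h3]
          exact ⟨hx, hx'⟩ }
    have hM : N ≤ M := d.minN M ⟨d.v2N, Fv2⟩ (le_norm fun h hh x hx => ⟨cj d.HN hh hx.1, by
      rw [Fh h hh]
      exact hx.2⟩)
    have h3 : F v1 = 0 := (hM h2).2
    rw [Fv1] at h3
    exact one_ne_zero h3
  · intro n hn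
    rcases hdec n hn with h | h
    · exact h
    · exfalso
      apply h2
      have h3 := mul_mem (inv_mem hn) (hWN h)
      rwa [inv_mul_cancel_left] at h3

/-- A subgroup `R ≥ T, L₂` of `H` normalising `V₁N` normalises `V₁`. -/
theorem normV1 [Finite G] {R : Subgroup G} (hRH : R ≤ H) (hTR : T ≤ R) (hLR : L2 ≤ R)
    (hRn : R ≤ normalizer ((V1 ⊔ N : Subgroup G) : Set G)) {r x : G} (hr : r ∈ R) (hx : x ∈ V1) :
    r * x * r⁻¹ * x⁻¹ ∈ zpowers v1 := by
  have hbz : ∀ r ∈ R, ∀ z ∈ zpowers v1, r * z * r⁻¹ * z⁻¹ = 1 := by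
    intro r hr z hz
    have h1 : r * z = z * r := by
      rcases d.memZ.1 hz with rfl | rfl
      · group
      · exact d.Hv1 r (hRH hr)
    rw [h1]; group
  by_cases hxZ : x ∈ zpowers v1
  · rw [hbz r hr x hxZ]; exact one_mem _
  have hv11 : v1 * v1 = 1 := by rw [← pow_two]; exact d.v1sq
  have hx1 : x ≠ 1 := fun h => hxZ (by rw [h]; exact one_mem _)
  have hxv : v1 ≠ x := fun h => hxZ (by rw [← h]; exact mem_zpowers _)
  have hZV : zpowers v1 ≤ V1 := zpowers_le.2 d.v1V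
  -- `V₁ = Z₁ ∪ xZ₁`
  have hV : ∀ y ∈ V1, y ∈ zpowers v1 ∨ y * x⁻¹ ∈ zpowers v1 := by
    intro y hy
    rcases four d.cV1 d.v1V hx d.v1ne hx1 hxv hv11 y hy with rfl | rfl | rfl | rfl
    · exact Or.inl (one_mem _)
    · exact Or.inl (mem_zpowers _)
    · right
      rw [mul_inv_cancel]
      exact one_mem _
    · right
      rw [mul_inv_cancel_right]
      exact mem_zpowers _
  have hVx : ∀ g, g ∈ H → g ∈ normalizer (V1 : Set G) → g * x * g⁻¹ * x⁻¹ ∈ zpowers v1 := by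
    intro g hg hgV
    rcases hV _ ((mem_normalizer_iff.1 hgV x).1 hx) with h | h
    · exfalso
      apply hxZ
      have h1 := cj' d.HZ hg h
      have e : g⁻¹ * (g * x * g⁻¹) * g = x := by group
      rwa [e] at h1
    · exact h
  have hTx : ∀ t ∈ T, t * x * t⁻¹ * x⁻¹ ∈ zpowers v1 := fun t ht => hVx t (d.TH ht) (d.TV1 ht)
  have hLx : ∀ l ∈ L2, l * x * l⁻¹ * x⁻¹ ∈ zpowers v1 := fun l hl => hVx l (d.L2H hl) (d.L2V1 hl)
  have hVU : V1 ≤ V1 ⊔ N := le_sup_left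
  have hNU : N ≤ V1 ⊔ N := le_sup_right
  -- `V₁N = M ∪ xM`
  have hRM : R ≤ normalizer ((N ⊔ zpowers v1 : Subgroup G) : Set G) :=
    norm_sup (hRH.trans d.HN) (hRH.trans d.HZ)
  have hUM : ∀ y ∈ V1 ⊔ N, y ∈ N ⊔ zpowers v1 ∨ y * x⁻¹ ∈ N ⊔ zpowers v1 := by
    intro y hy
    obtain ⟨u, hu, n, hn, rfl⟩ := mem_sup_comm (P := V1) (Q := N)
      (fun x hx y hy => d.comm x (hVU hx) y (hNU hy)) hy
    rcases hV u hu with h | h
    · exact Or.inl (mul_mem (mem_sup_right h) (mem_sup_left hn))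
    · right
      have e : u * n * x⁻¹ = u * x⁻¹ * n := by
        rw [mul_assoc, mul_assoc, d.comm n (hNU hn) x⁻¹ (inv_mem (hVU hx))]
      rw [e]
      exact mul_mem (mem_sup_right h) (mem_sup_left hn)
  have hRx : ∀ r ∈ R, r * x * r⁻¹ * x⁻¹ ∈ N ⊔ zpowers v1 := by
    intro r hr
    rcases hUM _ (cj hRn hr (hVU hx)) with h | h
    · have h1 := cj' hRM hr h
      have e : r⁻¹ * (r * x * r⁻¹) * r = x := by group
      rw [e] at h1
      exact mul_mem h (inv_mem h1)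
    · exact h
  have hodd : ¬ 2 ∣ T.relIndex R := by
    intro h
    apply d.odd
    rw [← Subgroup.relIndex_mul_relIndex T R H hTR hRH]
    exact h.mul_right _
  obtain ⟨c, hc, hcM, hcR⟩ := avg (U := V1 ⊔ N) (T := T) (R := R) (Z := zpowers v1) (M := N ⊔ zpowers v1)
    d.comm hRn (hRH.trans d.HZ) hodd (hVU hx) (by rw [← pow_two]; exact d.sq x (hVU hx)) hTx hRx
  -- `n := c x⁻¹ = n' z`
  obtain ⟨n', hn', z, hz, hnz⟩ := mem_sup_comm (P := N) (Q := zpowers v1)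
    (fun x hx y hy => d.comm x (hNU hx) y (hVU (hZV hy))) hcM
  have hcx : c = n' * z * x := by rw [← hnz]; group
  have hzU : z ∈ V1 ⊔ N := hVU (hZV hz)
  have hbr : ∀ r ∈ R, r * c * r⁻¹ * c⁻¹ = (r * n' * r⁻¹ * n'⁻¹) * (r * x * r⁻¹ * x⁻¹) := by
    intro r hr
    rw [hcx, br_mul d.comm (hRn hr) (mul_mem (hNU hn') hzU) (hVU hx),
      br_mul d.comm (hRn hr) (hNU hn') hzU, hbz r hr z hz, mul_one]
  have hn'f : ∀ r ∈ R, r * x * r⁻¹ * x⁻¹ ∈ zpowers v1 → r * n' * r⁻¹ * n'⁻¹ ∈ zpowers v1 := by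
    intro r hr h
    have h1 := hcR r hr
    rw [hbr r hr] at h1
    exact (mul_mem_cancel_right h).1 h1
  have hn'Z : n' ∈ zpowers v1 := by
    have h1 := d.fix n' hn' fun t ht => hn'f t (hTR ht) (hTx t ht)
    obtain ⟨z', hz', y, hy, rfl⟩ := mem_sup_comm (P := zpowers v1) (Q := zpowers v2) (fun x hx y hy =>
      d.comm x (hVU (hZV hx)) y (hNU (zpowers_le.2 d.v2N hy))) h1
    rcases (mem_zp d.v2sq).1 hy with rfl | rfl
    · rwa [mul_one]
    · exfalso
      obtain ⟨w, hw, hw1, hwv, -, -⟩ := d.exists_w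
      obtain ⟨l, hl, hlw⟩ := d.tr2 w hw hw1
      have h2 := hn'f l (hLR hl) (hLx l hl)
      rw [br_mul d.comm (hRn (hLR hl)) (hVU (hZV hz')) (hNU d.v2N), hbz l (hLR hl) z' hz', one_mul, hlw] at h2
      rcases d.memZ.1 h2 with h3 | h3
      · exact hwv (mul_inv_eq_one.1 h3)
      · apply d.v12
        rw [← h3]
        exact mul_mem hw (inv_mem d.v2V)
  have h1 := hcR r hr
  rw [hbr r hr, hbz r hr n' hn'Z, one_mul] at h1
  exact h1

/-- the normal closure of `u` under `K` -/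
theorem K_le [Finite G] {K : Subgroup G} (hKH : K ≤ H) (hKn : H ≤ normalizer (K : Set G))
    (hKV : K ≤ centralizer (V1 : Set G)) : K ≤ centralizer (N : Set G) := by
  classical
  obtain ⟨w, hw, hw1, hwv, hall, a, ha, haw⟩ := d.exists_w
  have hv22 : v2 * v2 = 1 := d.Ns v2 d.v2N
  have hwN : w ∈ N := d.V2N hw
  have hw2 : w * w = 1 := d.Ns w hwN
  have hvw : v2 * w = w * v2 := d.Nc v2 d.v2N w hwN
  set w' : G := v2 * w with hw'
  have hw'V : w' ∈ V2 := mul_mem d.v2V hw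
  have hw'1 : w' ≠ 1 := fun h => hwv (mul_left_cancel (h.trans hv22.symm))
  have hww' : w ≠ w' := fun h => d.v2ne (mul_right_cancel ((one_mul w).trans h)).symm
  have haT : a ∈ T := d.AT ha
  have haH : a ∈ H := d.TH haT
  have hav : a * v2 * a⁻¹ = v2 := by rw [d.Dv2 a (d.TD haT)]; group
  have haw' : a * w' * a⁻¹ = w := by
    calc a * w' * a⁻¹ = (a * v2 * a⁻¹) * (a * w * a⁻¹) := by rw [hw']; group
      _ = v2 * (v2 * w) := by rw [hav, haw]
      _ = v2 * v2 * w := by group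
      _ = w := by rw [hv22, one_mul]
  -- `T` on `{w, w'}`
  have hTw : ∀ t ∈ T, t * w * t⁻¹ = w ∨ t * w * t⁻¹ = w' := by
    intro t ht
    rcases hall _ (cj d.TV2 ht hw) with h | h | h | h
    · exfalso
      apply hw1
      have h1 := congrArg (fun g => t⁻¹ * g * t) h
      simpa [mul_assoc] using h1
    · exfalso
      apply hwv
      have h1 : t * w * t⁻¹ = t * v2 * t⁻¹ := by rw [h, d.Dv2 t (d.TD ht)]; group
      exact mul_left_cancel (mul_right_cancel h1)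
    · exact Or.inl h
    · exact Or.inr h
  have hTv : ∀ t ∈ T, t * v2 * t⁻¹ = v2 := by
    intro t ht
    rw [d.Dv2 t (d.TD ht)]; group
  have hTw' : ∀ t ∈ T, (t * w * t⁻¹ = w ∧ t * w' * t⁻¹ = w') ∨ (t * w * t⁻¹ = w' ∧ t * w' * t⁻¹ = w) := by
    intro t ht
    have h1 : t * w' * t⁻¹ = v2 * (t * w * t⁻¹) := by
      calc t * w' * t⁻¹ = (t * v2 * t⁻¹) * (t * w * t⁻¹) := by rw [hw']; group
        _ = _ := by rw [hTv t ht]
    rcases hTw t ht with h | h
    · left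
      exact ⟨h, by rw [h1, h]⟩
    · right
      refine ⟨h, ?_⟩
      rw [h1, h, hw', ← mul_assoc, hv22, one_mul]
  -- `P u`
  have hPN : ∀ u ∈ N, Pc K u ≤ N := fun u hu => Pc_le hu (hKH.trans d.HN)
  have hPc : ∀ h ∈ H, ∀ u x, x ∈ Pc K u → h * x * h⁻¹ ∈ Pc K (h * u * h⁻¹) := fun h hh u x hx =>
    Pc_conj (hKn hh) hx
  have hPcZ : ∀ h ∈ H, ∀ u x, x ∈ Pc K u ⊔ zpowers v1 → h * x * h⁻¹ ∈ Pc K (h * u * h⁻¹) ⊔ zpowers v1 := by
    intro h hh u x hx
    have h1 : Pc K u ⊔ zpowers v1 ≤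
        (Pc K (h * u * h⁻¹) ⊔ zpowers v1 : Subgroup G).comap (MulAut.conj h).toMonoidHom := by
      refine sup_le (fun y hy => ?_) (fun y hy => ?_)
      · exact mem_sup_left (hPc h hh u y hy)
      · exact mem_sup_right (cj d.HZ hh hy)
    exact h1 hx
  -- `N^V`
  set NV : Subgroup G := Pc (centralizer (V1 : Set G)) v2 with hNV
  have hNVN : NV ≤ N := Pc_le d.v2N (d.CV1.trans d.HN)
  have hPNV : Pc K v2 ≤ NV := Pc_le Pc_self (hKV.trans Pc_norm)
  have hL1NV : L1 ≤ normalizer (NV : Set G) := by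
    refine le_norm fun l hl x hx => ?_
    have h1 := Pc_conj (norm_cent d.L1V1 hl) hx
    have h2 : l * v2 * l⁻¹ = v2 := by rw [d.L1v2 l hl]; group
    rwa [h2] at h1
  have hNNV : ¬ N ≤ NV := by
    intro h
    have h1 : NV = N := le_antisymm hNVN h
    rw [h1] at hL1NV
    exact d.L1N hL1NV
  have hV1NV : v1 ∉ NV := by
    intro h
    apply d.V1N
    intro x hx
    by_cases hx1 : x = 1
    · rw [hx1]; exact one_mem _
    · obtain ⟨l, hl, rfl⟩ := d.tr1 x hx hx1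
      exact hNVN (cj hL1NV hl h)
  have hv1P : v1 ∉ Pc K v2 := fun h => hV1NV (hPNV h)
  have hDP : D ≤ normalizer (Pc K v2 : Set G) := by
    refine le_norm fun g hg x hx => ?_
    have h1 := hPc g (d.DH hg) v2 x hx
    have h2 : g * v2 * g⁻¹ = v2 := by rw [d.Dv2 g hg]; group
    rwa [h2] at h1
  have hL2P : ¬ L2 ≤ normalizer ((Pc K v2 ⊔ zpowers v1 : Subgroup G) : Set G) := by
    intro h
    exact hNNV ((d.noCompl (hPN v2 d.v2N) hDP Pc_self h).trans hPNV)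
  -- two-transitivity
  have htt : ∀ u ∈ V2, u ≠ 1 → ∀ u' ∈ V2, u' ≠ 1 → u' ≠ u → ∃ h ∈ H, h * v2 * h⁻¹ = u ∧ h * w * h⁻¹ = u' := by
    intro u hu hu1 u' hu' hu'1 huu'
    obtain ⟨l, hl, rfl⟩ := d.tr2 u hu hu1
    have h1 : l⁻¹ * u' * l ∈ V2 := cj' d.L2V2 hl hu'
    have e0 : ∀ g, l⁻¹ * u' * l = g → l * g * l⁻¹ = u' := by
      rintro g rfl
      group
    rcases hall _ h1 with h | h | h | h
    · exfalso
      apply hu'1
      have := e0 _ h
      rw [← this]; group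
    · exfalso
      exact huu' (e0 _ h).symm
    · exact ⟨l, d.L2H hl, rfl, e0 _ h⟩
    · refine ⟨l * a, mul_mem (d.L2H hl) haH, ?_, ?_⟩
      · calc l * a * v2 * (l * a)⁻¹ = l * (a * v2 * a⁻¹) * l⁻¹ := by group
          _ = _ := by rw [hav]
      · calc l * a * w * (l * a)⁻¹ = l * (a * w * a⁻¹) * l⁻¹ := by group
          _ = u' := by rw [haw]; exact e0 _ h
  -- the intersections modulo `Z₁`
  have hint : ∀ x, x ∈ Pc K w ⊔ zpowers v1 → x ∈ Pc K w' ⊔ zpowers v1 → x ∈ zpowers v1 := by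
    intro x hx hx'
    by_contra hxZ
    have hZc : ∀ {Q : Subgroup G}, Q ≤ N → ∀ x ∈ Q, ∀ y ∈ zpowers v1, x * y = y * x := fun hQ x hx y hy =>
      d.comm x (mem_sup_right (hQ hx)) y (mem_sup_left (zpowers_le.2 d.v1V hy))
    obtain ⟨n, hn, z, hz, rfl⟩ := mem_sup_comm (hZc (hPN w hwN)) hx
    have hnZ : n ∉ zpowers v1 := fun h => hxZ (mul_mem h hz)
    let I : Subgroup G := (Pc K w ⊔ zpowers v1) ⊓ (Pc K w' ⊔ zpowers v1) ⊓ N
    have hnI : n ∈ I := by
      refine mem_inf.2 ⟨mem_inf.2 ⟨mem_sup_left hn, ?_⟩, hPN w hwN hn⟩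
      have h1 := mul_mem hx' (inv_mem (mem_sup_right (S := Pc K w') hz))
      rwa [mul_inv_cancel_right] at h1
    have hTI : T ≤ normalizer (I : Set G) := by
      refine le_norm fun t ht y hy => ?_
      obtain ⟨⟨hy1, hy2⟩, hy3⟩ := hy
      have h1 := hPcZ t (d.TH ht) w y hy1
      have h2 := hPcZ t (d.TH ht) w' y hy2
      have h3 : t * y * t⁻¹ ∈ N := cj d.HN (d.TH ht) hy3
      rcases hTw' t ht with ⟨e1, e2⟩ | ⟨e1, e2⟩
      · rw [e1] at h1
        rw [e2] at h2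
        exact ⟨⟨h1, h2⟩, h3⟩
      · rw [e1] at h1
        rw [e2] at h2
        exact ⟨⟨h2, h1⟩, h3⟩
    obtain ⟨y, hy, hyZ, hyf⟩ := exists_fix (B := (zpowers v1 : Set G)) d.pT (inf_le_right.trans d.NT) hTI
      (one_mem _) hnI hnZ
    have h1 := d.fix y hy.2 hyf
    have hv2I : v2 ∈ Pc K w ⊔ zpowers v1 := by
      obtain ⟨z', hz', y', hy', e⟩ := mem_sup_comm (P := zpowers v1) (Q := zpowers v2) (fun x hx y hy =>
        (hZc le_rfl y (zpowers_le.2 d.v2N hy) x hx).symm) h1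
      rcases (mem_zp d.v2sq).1 hy' with rfl | rfl
      · exfalso
        rw [mul_one] at e
        exact hyZ (by rw [e]; exact hz')
      · have h2 : z'⁻¹ * y ∈ Pc K w ⊔ zpowers v1 := mul_mem (inv_mem (mem_sup_right hz')) hy.1.1
        rwa [e, inv_mul_cancel_left] at h2
    have h2 : Pc K v2 ≤ Pc K w ⊔ zpowers v1 := Pc_le hv2I (norm_sup Pc_norm (hKH.trans d.HZ))
    apply hL2P
    refine le_norm fun l hl y hy => ?_
    have h3 := hPcZ l (d.L2H hl) v2 y hy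
    by_cases h4 : l * v2 * l⁻¹ = v2
    · rwa [h4] at h3
    · -- `P (l v₂ l⁻¹) ≤ P v₂ Z₁`
      have h5 : l * v2 * l⁻¹ ≠ 1 := by
        intro h6
        apply d.v2ne
        have h7 := congrArg (fun g => l⁻¹ * g * l) h6
        simpa [mul_assoc] using h7
      obtain ⟨h, hh, e1, e2⟩ := htt _ (cj d.L2V2 hl d.v2V) h5 v2 d.v2V d.v2ne (fun h => h4 h.symm)
      have h6 : Pc K (l * v2 * l⁻¹) ⊔ zpowers v1 ≤ Pc K v2 ⊔ zpowers v1 := by
        refine sup_le (Pc_le ?_ (norm_sup Pc_norm (hKH.trans d.HZ))) le_sup_right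
        have h7 := hPcZ h hh w v2 hv2I
        rwa [e1, e2] at h7
      exact h6 h3
  have hint' : Pc K w ⊓ Pc K w' = ⊥ := by
    rw [eq_bot_iff]
    rintro x ⟨hx, hx'⟩
    rw [mem_bot]
    rcases d.memZ.1 (hint x (mem_sup_left hx) (mem_sup_left hx')) with h | h
    · exact h
    · exfalso
      rw [h] at hx
      apply hv1P
      obtain ⟨l, hl, hlw⟩ := d.tr2 w hw hw1
      have h1 := hPc l⁻¹ (inv_mem (d.L2H hl)) w _ hx
      have e1 : l⁻¹ * w * l⁻¹⁻¹ = v2 := by rw [← hlw]; group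
      have e2 : l⁻¹ * v1 * l⁻¹⁻¹ = v1 := by rw [d.Hv1 l⁻¹ (inv_mem (d.L2H hl))]; group
      rwa [e1, e2] at h1
  have hintg : ∀ h ∈ H, Pc K (h * w * h⁻¹) ⊓ Pc K (h * w' * h⁻¹) = ⊥ := by
    intro h hh
    rw [eq_bot_iff]
    rintro x ⟨hx, hx'⟩
    rw [mem_bot]
    have h1 := hPc h⁻¹ (inv_mem hh) _ x hx
    have h2 := hPc h⁻¹ (inv_mem hh) _ x hx'
    have e1 : h⁻¹ * (h * w * h⁻¹) * h⁻¹⁻¹ = w := by group
    have e2 : h⁻¹ * (h * w' * h⁻¹) * h⁻¹⁻¹ = w' := by group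
    rw [e1] at h1
    rw [e2] at h2
    have h3 : h⁻¹ * x * h⁻¹⁻¹ ∈ Pc K w ⊓ Pc K w' := ⟨h1, h2⟩
    rw [hint', mem_bot] at h3
    have h4 := congrArg (fun g => h * g * h⁻¹) h3
    simpa [mul_assoc] using h4
  have hw'v : w' ≠ v2 := by
    intro h
    exact hw1 (mul_left_cancel (h.trans (mul_one v2).symm))
  have h01 : Pc K v2 ⊓ Pc K w = ⊥ := by
    obtain ⟨h, hh, e1, e2⟩ := htt w' hw'V hw'1 v2 d.v2V d.v2ne hw'v.symm
    have e3 : h * w' * h⁻¹ = w := by
      calc h * w' * h⁻¹ = (h * v2 * h⁻¹) * (h * w * h⁻¹) := by rw [hw']; group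
        _ = (v2 * w) * v2 := by rw [e1, e2]
        _ = (w * v2) * v2 := by rw [← hw', hvw]
        _ = w := by rw [mul_assoc, hv22, mul_one]
    have h1 := hintg h hh
    rwa [e2, e3] at h1
  have h02 : Pc K v2 ⊓ Pc K w' = ⊥ := by
    obtain ⟨h, hh, e1, e2⟩ := htt w hw hw1 v2 d.v2V d.v2ne hwv.symm
    have e3 : h * w' * h⁻¹ = w' := by
      calc h * w' * h⁻¹ = (h * v2 * h⁻¹) * (h * w * h⁻¹) := by rw [hw']; group
        _ = w * v2 := by rw [e1, e2]
        _ = w' := by rw [← hvw]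
    have h1 := hintg h hh
    rwa [e2, e3] at h1
  have hYN : Pc K w ⊔ Pc K w' ≤ N := sup_le (hPN w hwN) (hPN w' (d.V2N hw'V))
  have h0Y : Pc K v2 ≤ Pc K w ⊔ Pc K w' := by
    refine Pc_le ?_ (norm_sup Pc_norm Pc_norm)
    have h1 : w * w' = v2 := by
      rw [hvw, ← mul_assoc, hw2, one_mul]
    have h2 : w * w' ∈ Pc K w ⊔ Pc K w' := mul_mem (mem_sup_left Pc_self) (mem_sup_right Pc_self)
    rwa [h1] at h2
  have hten : ∀ x ∈ Pc K v2, x = 1 ∨ x = v2 := by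
    have hPcb : ∀ b ∈ A, ∀ u, b * u = u * b → ∀ x ∈ Pc K u, b * x * b⁻¹ ∈ Pc K u := by
      intro b hb u hbu x hx
      have h1 := hPc b (d.TH (d.AT hb)) u x hx
      have e : b * u * b⁻¹ = u := by rw [hbu]; group
      rwa [e] at h1
    have hbv : ∀ b ∈ A, b * v2 = v2 * b := fun b hb => d.Dv2 b (d.TD (d.AT hb))
    refine ten (A := A) (P1 := Pc K w) (P2 := Pc K w') (Y := Pc K w ⊔ Pc K w') (T := T)
      (v1 := w) (v2 := w') (a := a) d.pT d.AT (hYN.trans d.NT)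
      (fun x hx y hy => d.Nc x (hYN hx) y (hYN hy)) (fun x hx => d.sq x (mem_sup_right (hYN hx))) d.Ac h0Y
      le_sup_left le_sup_right le_rfl h01 h02 hint' Pc_self Pc_self Pc_self hw' d.v2ne hw1 ha ?_ ?_ haw hbv
      (fun b hb h x hx => hPcb b hb w h x hx) ?_ (fun b hb h x hx => hPcb b hb v2 (hbv b hb) x hx) ?_ ?_
    · intro x hx
      have h1 := hPc a haH w x hx
      rwa [haw] at h1
    · intro x hx
      have h1 := hPc a haH w' x hx
      rwa [haw'] at h1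
    · intro b hb h x hx
      refine hPcb b hb w' ?_ x hx
      rw [hw', ← mul_assoc, hbv b hb, mul_assoc, h, mul_assoc]
    · intro b hb
      rcases hTw b (d.AT hb) with h | h
      · exact Or.inl (mul_inv_eq_iff_eq_mul.1 h)
      · exact Or.inr h
    · intro B hB
      exact off_of_max (T := A ⊔ N) (hYN.trans le_sup_right) (fun x hx y hy => d.Nc x (hYN hx) y (hYN hy))
        (fun x hx => d.sq x (mem_sup_right (hYN hx))) le_sup_left d.Ac d.As d.Amax hB
  -- `K` centralises `v₂`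
  have hKv : v2 ∈ centralizer (K : Set G) := by
    refine mem_centralizer_iff.2 fun k hk => ?_
    have h1 : k * v2 * k⁻¹ ∈ Pc K v2 := cj Pc_norm hk Pc_self
    rcases hten _ h1 with h | h
    · exfalso
      apply d.v2ne
      have h2 := congrArg (fun g => k⁻¹ * g * k) h
      simpa [mul_assoc] using h2
    · exact mul_inv_eq_iff_eq_mul.1 h
  exact Subgroup.le_centralizer_iff.1 (d.minN _ hKv (norm_cent hKn))

end Dat

/-- **THEOREM G.** -/
theorem thmG [Finite G] {T D H L1 L2 V1 V2 N A : Subgroup G} {v1 v2 : G} (d : Dat T D H L1 L2 V1 V2 N A v1 v2)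
    {KK : Subgroup G} (hK : KK ≤ H) (hKn : H ≤ normalizer (KK : Set G))
    (hKX : ∀ x ∈ V1, ∀ k ∈ KK, k * x * k⁻¹ * x⁻¹ ∈ N ⊔ zpowers v1) :
    KK ≤ centralizer (N : Set G) := by
  have hZV : zpowers v1 ≤ V1 := zpowers_le.2 d.v1V
  -- `KK` normalises `V₁` modulo `Z₁`
  let R : Subgroup G := H ⊓ normalizer ((V1 ⊔ N : Subgroup G) : Set G)
  have hKR : KK ≤ R := by
    refine le_inf hK (le_norm fun k hk y hy => ?_)
    have h1 : V1 ⊔ N ≤ (V1 ⊔ N).comap (MulAut.conj k).toMonoidHom := by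
      refine sup_le (fun x hx => ?_) (fun x hx => ?_)
      · change k * x * k⁻¹ ∈ V1 ⊔ N
        have h2 := hKX x hx k hk
        have h3 : N ⊔ zpowers v1 ≤ V1 ⊔ N := sup_le le_sup_right (hZV.trans le_sup_left)
        have h4 := mul_mem (h3 h2) (mem_sup_left (T := N) hx)
        rwa [inv_mul_cancel_right] at h4
      · exact mem_sup_right (cj d.HN (hK hk) hx)
    exact h1 hy
  have hTR : T ≤ R := le_inf d.TH (norm_sup d.TV1 (d.TH.trans d.HN))
  have hLR : L2 ≤ R := le_inf d.L2H (norm_sup d.L2V1 (d.L2H.trans d.HN))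
  have hKV : ∀ k ∈ KK, ∀ x ∈ V1, k * x * k⁻¹ * x⁻¹ ∈ zpowers v1 := fun k hk x hx =>
    d.normV1 (R := R) inf_le_left hTR hLR inf_le_right (hKR hk) hx
  -- the odd part
  let K : Subgroup G := Subgroup.closure {k | k ∈ KK ∧ Odd (orderOf k)}
  have hKK : K ≤ KK := (closure_le _).2 fun k hk => hk.1
  have hKn' : H ≤ normalizer (K : Set G) := by
    refine le_norm fun h hh x hx => ?_
    have h1 : K ≤ K.comap (MulAut.conj h).toMonoidHom := by
      refine (closure_le _).2 ?_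
      rintro k ⟨hk, hko⟩
      refine subset_closure ⟨cj hKn hh hk, ?_⟩
      have h2 : orderOf ((MulAut.conj h).toMonoidHom k) = orderOf k :=
        orderOf_injective (MulAut.conj h).toMonoidHom (MulAut.conj h).injective k
      rw [h2]
      exact hko
    exact h1 hx
  have hKV' : K ≤ centralizer (V1 : Set G) := by
    refine (closure_le _).2 ?_
    rintro k ⟨hk, hko⟩
    refine mem_centralizer_iff.2 fun x hx => ?_
    have h1 : k ^ 2 * x = x * k ^ 2 := by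
      rcases d.memZ.1 (hKV k hk x hx) with h | h
      · have h2 : k * x = x * k := mul_inv_eq_iff_eq_mul.1 (mul_inv_eq_one.1 h)
        calc k ^ 2 * x = k * (k * x) := by rw [pow_two]; group
          _ = x * k ^ 2 := by rw [h2, ← mul_assoc, h2, pow_two, mul_assoc]
      · have h2 : k * x = v1 * x * k := by
          have h3 := mul_inv_eq_iff_eq_mul.1 h
          exact mul_inv_eq_iff_eq_mul.1 h3
        have h4 : k * v1 = v1 * k := d.Hv1 k (hK hk)
        have hv11 : v1 * v1 = 1 := by rw [← pow_two]; exact d.v1sq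
        calc k ^ 2 * x = k * (k * x) := by rw [pow_two]; group
          _ = (k * v1) * (x * k) := by rw [h2]; group
          _ = v1 * (k * x) * k := by rw [h4]; group
          _ = (v1 * v1) * x * k * k := by rw [h2]; group
          _ = x * k ^ 2 := by rw [hv11, pow_two]; group
    obtain ⟨m, hm⟩ := hko
    have h2 : k = (k ^ 2) ^ (m + 1) := by
      rw [← pow_mul]
      have h3 : 2 * (m + 1) = orderOf k + 1 := by omega
      rw [h3, pow_succ, pow_orderOf_eq_one, one_mul]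
    have h3 : Commute (k ^ 2) x := h1
    have h4 := h3.pow_left (m + 1)
    rw [← h2] at h4
    exact h4.eq.symm
  have hKN := d.K_le (hKK.trans hK) hKn' hKV'
  refine le_centralizer_of_ext d.TH d.odd (fun t ht => d.Dv2 t (d.TD ht)) hK hKn d.v2N d.HN d.minN ?_
  intro k hk
  obtain ⟨e, m, hm, hem⟩ := Nat.exists_eq_two_pow_mul_odd (orderOf_pos k).ne'
  refine ⟨e, hKN (subset_closure ⟨pow_mem hk _, ?_⟩)⟩
  have h1 : orderOf (k ^ 2 ^ e) = m := by
    rw [orderOf_pow, hem, Nat.gcd_eq_right (Dvd.intro _ rfl), Nat.mul_div_cancel_left _ (by positivity)]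
  rw [h1]
  exact hm


end Cfsg.Agent.Omega.TC.RSix.GO

end
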