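import Cfsg.Agent.Mrg.Omega.NO3L.LemP
import Cfsg.Agent.Mrg.Omega.VP
import Mathlib

section


/-!
# Partner points and lines (helper609, TEXT R2 #16177, TEXT R3 #16982)

Points are the conjugates of a subgroup `Z 0`, lines the conjugates of `U 0`; `(Z 0, U 0)` and `(Z 1, U 1)` are
exchanged by an element of `G`; the points of `U 0` are adjacent to the points of `U 1`.

* `Adj Z a u`: `(a, u)` is conjugate to `(Z 0, Z 1)`; `NN Z a = ⟨u : u ~ a⟩`, `HH a = N_G(a)`, `QQ a = O₂(N_G(a))`,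
  `FF Z a = C_{N_G(a)}(N_a)`; `LnIn Z U a l`: `l` is a line of `N_a`; `LnOn Z U a l`: `l` is a line on `a`;
* `PP Z U` : the axioms; `PP.f3` : `a ~ u`, `E ≤ Q_u`, `[E, N_a] = 1` give `E ≤ Q_a`;
* `PP.lemP` : LEMMA P; `PP.exists_crit` : a noncommuting pair `(N_a, N_b)` at least distance if
  `⟨N_G(Z 0), N_G(Z 1)⟩` is nonlocal.
-/

set_option autoImplicit false
set_option linter.unusedSectionVars false

namespace Cfsg.Agent.Omega.OM.PG

open Subgroup Cfsg Cfsg.Agent.ZN Cfsg.Agent.Omega.MinPar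
open Cfsg.Agent.Omega.NoFF.Basic (conj_conj mem_conj conj_le_iff conj_le_centralizer comm_symm comm_mono)
open Cfsg.Agent.Omega.NOThreeL.Pair (conj_eq_of_mem)
open Cfsg.Agent.MinSimple.VModule (le_normalizer_o2 le_o2 o2_le o2_isPGroup)
open scoped Pointwise

universe u

variable {G : Type u} [Group G]

/-- `a` is a point. -/
def IsPt (Z : Fin 2 → Subgroup G) (a : Subgroup G) : Prop := ∃ k : G, a = MulAut.conj k • Z 0

/-- `a ~ u` -/
def Adj (Z : Fin 2 → Subgroup G) (a u : Subgroup G) : Prop :=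
  ∃ k : G, a = MulAut.conj k • Z 0 ∧ u = MulAut.conj k • Z 1

/-- `l` is a line on the point `a`. -/
def LnOn (Z U : Fin 2 → Subgroup G) (a l : Subgroup G) : Prop :=
  ∃ k : G, a = MulAut.conj k • Z 0 ∧ l = MulAut.conj k • U 0

/-- `l` is a line of `N_a`. -/
def LnIn (Z U : Fin 2 → Subgroup G) (a l : Subgroup G) : Prop :=
  ∃ k : G, a = MulAut.conj k • Z 0 ∧ l = MulAut.conj k • U 1

/-- `N_a = ⟨u : u ~ a⟩` -/
def NN (Z : Fin 2 → Subgroup G) (a : Subgroup G) : Subgroup G := sSup {u | Adj Z a u}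

/-- `H_a = N_G(a)` -/
abbrev HH (a : Subgroup G) : Subgroup G := normalizer (a : Set G)

/-- `Q_a = O₂(N_G(a))` -/
abbrev QQ (a : Subgroup G) : Subgroup G := o2 (HH a)

/-- `F_a = C_{N_G(a)}(N_a)` -/
abbrev FF (Z : Fin 2 → Subgroup G) (a : Subgroup G) : Subgroup G := HH a ⊓ centralizer (NN Z a : Set G)

/-- `N_a` and `N_b` commute. -/
abbrev Com (Z : Fin 2 → Subgroup G) (a b : Subgroup G) : Prop := NN Z a ≤ centralizer (NN Z b : Set G)

section conj

variable {Z U : Fin 2 → Subgroup G} {a u l : Subgroup G}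

theorem Com.symm {a b : Subgroup G} (h : Com Z a b) : Com Z b a := comm_symm h

theorem IsPt.conj (h : IsPt Z a) (g : G) : IsPt Z (MulAut.conj g • a) := by
  obtain ⟨k, rfl⟩ := h
  exact ⟨g * k, conj_conj _ _ _⟩

theorem Adj.conj (h : Adj Z a u) (g : G) : Adj Z (MulAut.conj g • a) (MulAut.conj g • u) := by
  obtain ⟨k, rfl, rfl⟩ := h
  exact ⟨g * k, conj_conj _ _ _, conj_conj _ _ _⟩

theorem LnOn.conj (h : LnOn Z U a l) (g : G) : LnOn Z U (MulAut.conj g • a) (MulAut.conj g • l) := by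
  obtain ⟨k, rfl, rfl⟩ := h
  exact ⟨g * k, conj_conj _ _ _, conj_conj _ _ _⟩

theorem LnIn.conj (h : LnIn Z U a l) (g : G) : LnIn Z U (MulAut.conj g • a) (MulAut.conj g • l) := by
  obtain ⟨k, rfl, rfl⟩ := h
  exact ⟨g * k, conj_conj _ _ _, conj_conj _ _ _⟩

theorem conj_inv_conj (g : G) (a : Subgroup G) : MulAut.conj g • (MulAut.conj g⁻¹ • a) = a := by
  rw [conj_conj, mul_inv_cancel, map_one, one_smul]

theorem inv_conj_conj (g : G) (a : Subgroup G) : MulAut.conj g⁻¹ • (MulAut.conj g • a) = a := by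
  rw [conj_conj, inv_mul_cancel, map_one, one_smul]

theorem Adj.pt (h : Adj Z a u) : IsPt Z a := by
  obtain ⟨k, rfl, -⟩ := h
  exact ⟨k, rfl⟩

theorem Adj.le_NN (h : Adj Z a u) : u ≤ NN Z a := le_sSup h

theorem NN_conj (g : G) (a : Subgroup G) : NN Z (MulAut.conj g • a) = MulAut.conj g • NN Z a := by
  have key : ∀ (g : G) (a : Subgroup G), MulAut.conj g • NN Z a ≤ NN Z (MulAut.conj g • a) := by
    intro g a
    have h1 : NN Z a ≤ MulAut.conj g⁻¹ • NN Z (MulAut.conj g • a) := by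
      refine sSup_le fun u hu => ?_
      have h2 := (Adj.conj hu g).le_NN
      have h3 := conj_le_iff (g := g⁻¹) |>.2 h2
      rwa [inv_conj_conj] at h3
    have h3 := conj_le_iff (g := g) |>.2 h1
    rwa [conj_inv_conj] at h3
  refine le_antisymm ?_ (key g a)
  have h1 := key g⁻¹ (MulAut.conj g • a)
  rw [inv_conj_conj] at h1
  have h3 := conj_le_iff (g := g) |>.2 h1
  rwa [conj_inv_conj] at h3

theorem HH_conj (g : G) (a : Subgroup G) : HH (MulAut.conj g • a) = MulAut.conj g • HH a :=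
  Cfsg.Agent.MinSimple.CosetFam.normalizer_conj g a

theorem QQ_conj (g : G) (a : Subgroup G) : QQ (MulAut.conj g • a) = MulAut.conj g • QQ a := by
  change o2 (HH (MulAut.conj g • a)) = _
  rw [HH_conj, Cfsg.Agent.MinSimple.CosetFam.o2_conj]

end conj

/-! ### The axioms -/

/-- **Partner points and partner lines.** -/
structure PP (Z U : Fin 2 → Subgroup G) : Prop where
  swap : ∃ s : G, MulAut.conj s • Z 0 = Z 1 ∧ MulAut.conj s • Z 1 = Z 0 ∧
    MulAut.conj s • U 0 = U 1 ∧ MulAut.conj s • U 1 = U 0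
  ZU : Z 0 ≤ U 0
  sq : ∀ x ∈ Z 0, x ^ 2 = 1
  ne : Z 0 ≠ ⊥
  /-- a group normalising `Z 1`, `U 0`, `U 1` is transitive on the points of `U 0` -/
  tr : ∀ k : G, MulAut.conj k • Z 0 ≤ U 0 → ∃ l : G, MulAut.conj l • Z 0 = MulAut.conj k • Z 0 ∧
    MulAut.conj l • Z 1 = Z 1 ∧ MulAut.conj l • U 0 = U 0 ∧ MulAut.conj l • U 1 = U 1
  N_le_Q : NN Z (Z 0) ≤ QQ (Z 0)
  Q_le_cent : QQ (Z 0) ≤ centralizer (NN Z (Z 0) : Set G)
  UQ : ∀ x ∈ U 0, ∀ y ∈ QQ (Z 0), x * y * x⁻¹ * y⁻¹ ∈ Z 0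
  nonLoc : NonLoc (HH (Z 0)) (HH (Z 1))

/-- Paths of length `n`. -/
inductive Pth (Z : Fin 2 → Subgroup G) : ℕ → Subgroup G → Subgroup G → Prop
  | zero {a : Subgroup G} (h : IsPt Z a) : Pth Z 0 a a
  | succ {n : ℕ} {a b c : Subgroup G} (h : Pth Z n a b) (h' : Adj Z b c) : Pth Z (n + 1) a c

namespace PP

variable {Z U : Fin 2 → Subgroup G} (P : PP Z U)

include P

theorem adj_symm {a u : Subgroup G} (h : Adj Z a u) : Adj Z u a := by
  obtain ⟨k, rfl, rfl⟩ := h
  obtain ⟨s, h0, h1, -, -⟩ := P.swap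
  exact ⟨k * s, by rw [← conj_conj, h0], by rw [← conj_conj, h1]⟩

theorem adj_pt {a u : Subgroup G} (h : Adj Z a u) : IsPt Z u := (P.adj_symm h).pt

theorem NN_le_QQ {a : Subgroup G} (h : IsPt Z a) : NN Z a ≤ QQ a := by
  obtain ⟨k, rfl⟩ := h
  rw [NN_conj, QQ_conj]
  exact conj_le_iff.2 P.N_le_Q

theorem QQ_le_cent {a : Subgroup G} (h : IsPt Z a) : QQ a ≤ centralizer (NN Z a : Set G) := by
  obtain ⟨k, rfl⟩ := h
  rw [NN_conj, QQ_conj]
  exact conj_le_centralizer P.Q_le_cent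

theorem NN_comm {a : Subgroup G} (h : IsPt Z a) : Com Z a a := (P.NN_le_QQ h).trans (P.QQ_le_cent h)

/-- `a ~ u`: `Q_u` centralises `a`. -/
theorem QQ_le_cent_of_adj {a u : Subgroup G} (h : Adj Z a u) : QQ u ≤ centralizer (a : Set G) :=
  (P.QQ_le_cent (P.adj_pt h)).trans (centralizer_le (P.adj_symm h).le_NN)

omit P in
theorem cent_le_HH (a : Subgroup G) : centralizer (a : Set G) ≤ HH a := centralizer_le_normalizer _

theorem QQ_le_HH {a u : Subgroup G} (h : Adj Z a u) : QQ u ≤ HH a :=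
  (P.QQ_le_cent_of_adj h).trans (cent_le_HH a)

theorem FF_le_HH {a u : Subgroup G} (h : Adj Z a u) : FF Z a ≤ HH u :=
  inf_le_right.trans ((centralizer_le h.le_NN).trans (cent_le_HH u))

omit P in
theorem HH_le_NN (a : Subgroup G) : HH a ≤ normalizer (NN Z a : Set G) := by
  intro g hg
  have h0 : MulAut.conj g • a = a := conj_eq_of_mem hg
  refine ChoiceBase.mem_normalizer_iff_cj.2 ?_
  change MulAut.conj g • NN Z a = NN Z a
  rw [← NN_conj, h0]

omit P in
theorem HH_le_FF (a : Subgroup G) : HH a ≤ normalizer (FF Z a : Set G) :=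
  NO3L.LemP.le_normalizer_inf le_normalizer
    ((HH_le_NN a).trans (NO3L.LemP.normalizer_le_normalizer_cent (NN Z a)))

/-- **(f3)** -/
theorem f3 {a u E : Subgroup G} (h : Adj Z a u) (hE : E ≤ QQ u) (hc : E ≤ centralizer (NN Z a : Set G)) :
    E ≤ QQ a := by
  have h1 : E ≤ QQ u ⊓ FF Z a := le_inf hE (le_inf (hE.trans (P.QQ_le_HH h)) hc)
  have h2 : QQ u ⊓ FF Z a ≤ o2 (FF Z a) := by
    refine le_o2 inf_le_right ((o2_isPGroup _).to_le inf_le_left) ?_
    refine NO3L.LemP.le_normalizer_inf ?_ le_normalizer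
    exact (P.FF_le_HH h).trans (le_normalizer_o2 _)
  have h3 : o2 (FF Z a) ≤ QQ a := by
    refine le_o2 ((o2_le _).trans inf_le_left) (o2_isPGroup _) ?_
    exact (HH_le_FF a).trans (Cfsg.Agent.Omega.normalizer_le_normalizer_o2' _)
  exact h1.trans (h2.trans h3)

/-! ### Paths -/

omit P in
theorem pth_pt {n : ℕ} {a b : Subgroup G} (h : Pth Z n a b) : IsPt Z a := by
  induction h with
  | zero h => exact h
  | succ _ _ ih => exact ih

theorem pth_pt' {n : ℕ} {a b : Subgroup G} (h : Pth Z n a b) : IsPt Z b := by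
  cases h with
  | zero h => exact h
  | succ _ h' => exact P.adj_pt h'

omit P in
theorem pth_cons {n : ℕ} {a b c : Subgroup G} (h : Adj Z a b) (h' : Pth Z n b c) : Pth Z (n + 1) a c := by
  induction h' with
  | zero _ => exact Pth.succ (Pth.zero h.pt) h
  | succ _ h1 ih => exact Pth.succ (ih h) h1

theorem pth_symm {n : ℕ} {a b : Subgroup G} (h : Pth Z n a b) : Pth Z n b a := by
  induction h with
  | zero h => exact Pth.zero h
  | succ _ h1 ih => exact pth_cons (P.adj_symm h1) ih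

omit P in
theorem pth_trans {m n : ℕ} {a b c : Subgroup G} (h : Pth Z m a b) (h' : Pth Z n b c) : Pth Z (m + n) a c := by
  induction h' with
  | zero _ => exact h
  | succ _ h1 ih => exact Pth.succ (ih h) h1

omit P in
theorem pth_one {a b : Subgroup G} (h : Adj Z a b) : Pth Z 1 a b := Pth.succ (Pth.zero h.pt) h

omit P in
theorem pth_conj {n : ℕ} {a b : Subgroup G} (h : Pth Z n a b) (g : G) :
    Pth Z n (MulAut.conj g • a) (MulAut.conj g • b) := by
  induction h with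
  | zero h => exact Pth.zero (h.conj g)
  | succ _ h1 ih => exact Pth.succ ih (h1.conj g)

/-- **LEMMA P.** -/
theorem lemP {n : ℕ} (h : ∀ m ≤ n, ∀ a b, Pth Z m a b → Com Z a b) :
    ∀ m ≤ n, ∀ x c, Pth Z m x c → NN Z x ≤ QQ c := by
  intro m
  induction m with
  | zero =>
    intro _ x c hx
    cases hx with
    | zero h0 => exact P.NN_le_QQ h0
  | succ m ih =>
    intro hm x c hx
    have h1 := h _ hm x c hx
    cases hx with
    | succ h2 h3 => exact P.f3 (P.adj_symm h3) (ih (by omega) _ _ h2) h1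

theorem ZsqConj {a : Subgroup G} (h : IsPt Z a) : ∀ x ∈ a, x ^ 2 = 1 := by
  obtain ⟨k, rfl⟩ := h
  exact NoFF.Lines.Geo.conj_sq P.sq k

variable [Finite G]

/-- There is a noncommuting pair at least distance. -/
theorem exists_crit : ∃ d a b, Pth Z (d + 1) a b ∧ ¬ Com Z a b ∧ ∀ m ≤ d, ∀ a b, Pth Z m a b → Com Z a b := by
  classical
  have hex : ∃ n a b, Pth Z n a b ∧ ¬ Com Z a b := by
    by_contra hcon
    push Not at hcon
    -- the component of `Z 0`
    let X : Set (Subgroup G) := {a | ∃ n, Pth Z n (Z 0) a}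
    have h0 : IsPt Z (Z 0) := ⟨1, by rw [map_one, one_smul]⟩
    have h01 : Adj Z (Z 0) (Z 1) := ⟨1, by rw [map_one, one_smul], by rw [map_one, one_smul]⟩
    have hX0 : Z 0 ∈ X := ⟨0, Pth.zero h0⟩
    have hX1 : Z 1 ∈ X := ⟨1, pth_one h01⟩
    have hXc : ∀ a ∈ X, ∀ b ∈ X, Com Z a b := by
      rintro a ⟨m, hm⟩ b ⟨n, hn⟩
      exact hcon _ _ _ (pth_trans (P.pth_symm hm) hn)
    let A : Subgroup G := ⨆ a : X, NN Z (a : Subgroup G)
    have hAA : A ≤ centralizer (A : Set G) := by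
      refine iSup_le fun a => comm_symm (iSup_le fun b => ?_)
      exact hXc b b.2 a a.2
    have hNle : ∀ a ∈ X, NN Z a ≤ A := fun a ha => le_iSup (fun a : X => NN Z (a : Subgroup G)) ⟨a, ha⟩
    have hle : ∀ a ∈ X, a ≤ A := by
      rintro a ⟨n, hn⟩
      have ha : IsPt Z a := P.pth_pt' hn
      obtain ⟨k, rfl⟩ := ha
      have h1 : Adj Z (MulAut.conj k • Z 0) (MulAut.conj k • Z 1) := h01.conj k
      exact (P.adj_symm h1).le_NN.trans (hNle _ ⟨n + 1, Pth.succ hn h1⟩)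
    have hsq : ∀ x ∈ A, x ^ 2 = 1 := by
      refine NoFF.Lines.Geo.sq_of_comm hAA (ι := X) (B := fun a => (a : Subgroup G)) (fun a => hle _ a.2) ?_
        fun a => P.ZsqConj (by obtain ⟨n, hn⟩ := a.2; exact P.pth_pt' hn)
      refine iSup_le fun a => sSup_le fun u hu => ?_
      obtain ⟨n, hn⟩ := a.2
      exact le_iSup (fun a : X => (a : Subgroup G)) ⟨u, ⟨n + 1, Pth.succ hn hu⟩⟩
    have hp : IsPGroup 2 A := fun x => ⟨1, Subtype.ext (hsq x x.2)⟩
    have hnorm : ∀ c ∈ X, HH c ≤ normalizer (A : Set G) := by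
      intro c hc
      have key : ∀ g ∈ HH c, MulAut.conj g • A ≤ A := by
        intro g hg
        have h0 : MulAut.conj g • c = c := conj_eq_of_mem hg
        have hXg : ∀ a ∈ X, MulAut.conj g • a ∈ X := by
          rintro a ⟨m, hm⟩
          obtain ⟨n, hn⟩ := hc
          have h1 := pth_conj (pth_trans (P.pth_symm hn) hm) g
          rw [h0] at h1
          exact ⟨_, pth_trans hn h1⟩
        have h1 : A ≤ MulAut.conj g⁻¹ • A := by
          refine iSup_le fun a => ?_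
          have h2 := conj_le_iff (g := g⁻¹) |>.2 (hNle _ (hXg _ a.2))
          rwa [NN_conj, inv_conj_conj] at h2
        have h2 := conj_le_iff (g := g) |>.2 h1
        rwa [conj_inv_conj] at h2
      intro g hg
      refine ChoiceBase.mem_normalizer_iff_cj.2 (le_antisymm (key g hg) ?_)
      change A ≤ MulAut.conj g • A
      have h2 := conj_le_iff (g := g) |>.2 (key g⁻¹ (inv_mem hg))
      rwa [conj_inv_conj] at h2
    have hbot := P.nonLoc A hp (hnorm _ hX0) (hnorm _ hX1)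
    apply P.ne
    rw [eq_bot_iff, ← hbot]
    exact hle _ hX0
  obtain ⟨n, ⟨a, b, hab, hne⟩, hmin⟩ : ∃ n, (∃ a b, Pth Z n a b ∧ ¬ Com Z a b) ∧
      ∀ m < n, ¬ ∃ a b, Pth Z m a b ∧ ¬ Com Z a b :=
    ⟨Nat.find hex, Nat.find_spec hex, fun m hm => Nat.find_min hex hm⟩
  have hn : n ≠ 0 := by
    rintro rfl
    cases hab with
    | zero h => exact hne (P.NN_comm h)
  obtain ⟨d, rfl⟩ := Nat.exists_eq_succ_of_ne_zero hn
  refine ⟨d, a, b, hab, hne, fun m hm a b h => ?_⟩
  by_contra h1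
  exact hmin m (by omega) ⟨a, b, h, h1⟩

end PP

end Cfsg.Agent.Omega.OM.PG

end

section


/-!
# Two centres, `d = 1`, `[N₁, N₂] = 1` : the module part (helper609, TEXT R4 #19278 (5), (a)-(e))
-/

set_option autoImplicit false
set_option linter.unusedSectionVars false

namespace Cfsg.Agent.Omega.OM.PG.DOne

open Module

theorem z2 (c : ZMod 2) : c = 0 ∨ c = 1 := by revert c; decide

theorem z2n {c : ZMod 2} (h : c ≠ 0) : c = 1 := (z2 c).resolve_left h

section basic

variable {H M : Type*} [Group H] [AddCommGroup M] [Module (ZMod 2) M] [DistribMulAction H M]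

theorem smulc (h : H) (c : ZMod 2) (m : M) : h • (c • m) = c • (h • m) := by
  rcases z2 c with rfl | rfl <;> simp

/-- the action of an element as a linear map -/
def lact (g : H) : M →ₗ[ZMod 2] M where
  toFun m := g • m
  map_add' := smul_add g
  map_smul' c m := smulc g c m

@[simp] theorem lact_apply (g : H) (m : M) : lact g m = g • m := rfl

/-- `φ` is the functional of a transvection with centre `u` in the image of `H`, or `0`. -/
def Ph (H : Type*) {M : Type*} [Group H] [AddCommGroup M] [Module (ZMod 2) M] [DistribMulAction H M] (u : M)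
    (φ : Dual (ZMod 2) M) : Prop := φ u = 0 ∧ ∃ h : H, ∀ m, h • m = m + φ m • u

theorem add_self' (m : M) : m + m = 0 := ZModModule.add_self m

theorem Ph.zero (u : M) : Ph H u 0 := ⟨rfl, 1, fun m => by simp⟩

theorem Ph.add {u : M} {φ ψ : Dual (ZMod 2) M} (h1 : Ph H u φ) (h2 : Ph H u ψ) : Ph H u (φ + ψ) := by
  obtain ⟨e1, a, ha⟩ := h1
  obtain ⟨e2, b, hb⟩ := h2
  refine ⟨by simp [e1, e2], b * a, fun m => ?_⟩
  rw [mul_smul, ha, smul_add, smulc, hb m, hb u, e2, zero_smul, add_zero, LinearMap.add_apply, add_smul]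
  abel

theorem Ph.conj {u : M} {φ : Dual (ZMod 2) M} (h : Ph H u φ) (g : H) : Ph H (g • u) (φ.comp (lact g⁻¹)) := by
  obtain ⟨e, a, ha⟩ := h
  refine ⟨by simp [e], g * a * g⁻¹, fun m => ?_⟩
  rw [mul_smul, mul_smul, ha, smul_add, smul_inv_smul, smulc]
  rfl

/-- `w` is perpendicular to `u`. -/
def Pp (H : Type*) {M : Type*} [Group H] [AddCommGroup M] [Module (ZMod 2) M] [DistribMulAction H M] (u w : M) :
    Prop := ∀ φ, Ph H u φ → φ w = 0

theorem Pp.self (u : M) : Pp H u u := fun _ h => h.1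

theorem Pp.zero (u : M) : Pp H u 0 := fun _ _ => map_zero _

theorem Pp.add {u w w' : M} (h1 : Pp H u w) (h2 : Pp H u w') : Pp H u (w + w') := fun φ h => by
  rw [map_add, h1 φ h, h2 φ h, add_zero]

theorem Pp.conj {u w : M} (h : Pp H u w) (g : H) : Pp H (g • u) (g • w) := fun φ hφ => by
  have h1 := hφ.conj g⁻¹
  rw [inv_smul_smul] at h1
  have h2 := h _ h1
  simpa using h2

theorem Pp.conj_iff {u w : M} (g : H) : Pp H (g • u) (g • w) ↔ Pp H u w :=
  ⟨fun h => by simpa using h.conj g⁻¹, fun h => h.conj g⟩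

theorem inv_tv {u : M} {φ : Dual (ZMod 2) M} (h1 : φ u = 0) {a : H} (ha : ∀ m, a • m = m + φ m • u) (m : M) :
    a⁻¹ • m = m + φ m • u := by
  rw [inv_smul_eq_iff, smul_add, smulc, ha m, ha u, h1, zero_smul, add_zero, add_assoc, add_self', add_zero]

theorem Ph.cancel {u w : M} {φ ψ : Dual (ZMod 2) M} (h1 : Ph H u φ) (h2 : φ w = 1) (h3 : Ph H w ψ) (h4 : ψ u = 0) :
    Ph H u ψ := by
  obtain ⟨e1, a, ha⟩ := h1
  obtain ⟨e2, b, hb⟩ := h3
  refine ⟨h4, b * (a * b * a⁻¹), fun m => ?_⟩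
  have h5 : (a * b * a⁻¹) • m = m + ψ m • (w + u) := by
    rw [mul_smul, mul_smul, inv_tv e1 ha, smul_add, smulc, hb m, hb u, h4, zero_smul, add_zero, smul_add, smul_add,
      smulc, smulc, ha m, ha w, ha u, e1, h2, zero_smul, add_zero, one_smul]
    have : φ m • u + φ m • u = 0 := add_self' _
    calc m + φ m • u + ψ m • (w + u) + φ m • u = m + ψ m • (w + u) + (φ m • u + φ m • u) := by abel
      _ = _ := by rw [this, add_zero]
  rw [mul_smul, h5, smul_add, smulc, smul_add, hb m, hb w, hb u, e2, h4, zero_smul, add_zero, add_zero,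
    smul_add]
  have : ψ m • w + ψ m • w = 0 := add_self' _
  calc m + ψ m • w + (ψ m • w + ψ m • u) = m + (ψ m • w + ψ m • w) + ψ m • u := by abel
    _ = _ := by rw [this, add_zero]

variable [Finite M]

theorem fin_dual : Finite (Dual (ZMod 2) M) := DFunLike.finite _

theorem ncard_conj (u : M) (g : H) : {φ | Ph H (g • u) φ}.ncard = {φ | Ph H u φ}.ncard := by
  have h1 : ∀ (u : M) (g : H), {φ | Ph H (g • u) φ}.ncard ≤ {φ | Ph H u φ}.ncard := by
    intro u g
    have := fin_dual (M := M)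
    refine Set.ncard_le_ncard_of_injOn (fun φ => φ.comp (lact g)) ?_ ?_ (Set.toFinite _)
    · intro φ hφ
      have := hφ.conj g⁻¹
      rwa [inv_smul_smul, inv_inv] at this
    · intro φ _ ψ _ h
      ext m
      have := LinearMap.congr_fun h (g⁻¹ • m)
      simpa using this
  refine le_antisymm (h1 u g) ?_
  have := h1 (g • u) g⁻¹
  rwa [inv_smul_smul] at this

theorem Pp.symm {v u w : M} (hu : u ∈ MulAction.orbit H v) (hw : w ∈ MulAction.orbit H v) (h : Pp H w u) :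
    Pp H u w := by
  intro φ hφ
  by_contra h1
  have h1 := z2n h1
  have h2 : {ψ | Ph H w ψ} ⊆ {ψ | Ph H u ψ} := fun ψ hψ => hφ.cancel h1 hψ (h ψ hψ)
  obtain ⟨g, rfl⟩ := hu
  obtain ⟨k, rfl⟩ := hw
  have h3 : {ψ | Ph H (k • v) ψ} = {ψ | Ph H (g • v) ψ} := by
    have := fin_dual (M := M)
    refine Set.eq_of_subset_of_ncard_le h2 ?_ (Set.toFinite _)
    rw [ncard_conj, ncard_conj]
  have h4 : Ph H (k • v) φ := by
    have : φ ∈ {ψ | Ph H (g • v) ψ} := hφ
    rw [← h3] at this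
    exact this
  rw [h4.1] at h1
  exact absurd h1 (by decide)

/-- `Φ_u ∩ ann w = Φ_w ∩ ann u` if `u`, `w` are not perpendicular. -/
theorem Ph.swap {v u w : M} (hu : u ∈ MulAction.orbit H v) (hw : w ∈ MulAction.orbit H v) (h : ¬ Pp H u w)
    {φ : Dual (ZMod 2) M} (h1 : Ph H u φ) (h2 : φ w = 0) : Ph H w φ := by
  have h3 : ¬ Pp H w u := fun h4 => h (h4.symm hu hw)
  unfold Pp at h3
  push Not at h3
  obtain ⟨ψ, h5, h6⟩ := h3
  exact h5.cancel (z2n h6) h1 h2

theorem Ph.add_centre {u w : M} {φ : Dual (ZMod 2) M} (h1 : Ph H u φ) (h2 : Ph H w φ) : Ph H (u + w) φ := by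
  obtain ⟨e1, a, ha⟩ := h1
  obtain ⟨e2, b, hb⟩ := h2
  refine ⟨by rw [map_add, e1, e2, add_zero], a * b, fun m => ?_⟩
  rw [mul_smul, hb, smul_add, smulc, ha m, ha w, e2, zero_smul, add_zero, smul_add, add_assoc]

theorem add_mem_orbit {v u w : M} (hw : w ∈ MulAction.orbit H v) (h : ¬ Pp H u w) : u + w ∈ MulAction.orbit H v := by
  unfold Pp at h
  push Not at h
  obtain ⟨φ, ⟨-, a, ha⟩, h2⟩ := h
  obtain ⟨g, rfl⟩ := hw
  refine ⟨a * g, ?_⟩
  simp only [mul_smul]
  rw [ha, z2n h2, one_smul, add_comm]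

end basic

/-- The data of (5) on `M = N₁` (no radical) or `M = N₁Z₁/Z₁` (radical). `v` is a point, `V` the `T`-line on `v`,
`D = C_H(v)`. -/
structure Dat {H M : Type*} [Group H] [AddCommGroup M] [DistribMulAction H M] (v : M) (V : AddSubgroup M)
    (T L : Subgroup H) : Prop where
  v0 : v ≠ 0
  vV : v ∈ V
  card : Nat.card V = 4
  pT : IsPGroup 2 T
  Tv : ∀ t ∈ T, t • v = v
  fix : ∀ m : M, (∀ t ∈ T, t • m = m) → m = 0 ∨ m = v
  TV : ∀ t ∈ T, ∀ m ∈ V, t • m ∈ V
  LV : ∀ l ∈ L, ∀ m ∈ V, l • m ∈ V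
  tr : ∀ m ∈ V, m ≠ 0 → ∃ l ∈ L, l • v = m
  span : AddSubgroup.closure (MulAction.orbit H v) = ⊤
  gen : MulAction.stabilizer H v ⊔ L = ⊤
  /-- the `D`-span of `V` is proper -/
  ncl : ∃ U : AddSubgroup M, U ≠ ⊤ ∧ ∀ d : H, d • v = v → ∀ m ∈ V, d • m ∈ U

namespace Dat

variable {H M : Type*} [Group H] [AddCommGroup M] [Module (ZMod 2) M] [DistribMulAction H M] [Finite H] [Finite M]
  {v : M} {V : AddSubgroup M} {T L : Subgroup H} (d : Dat v V T L)

include d

theorem four' {a b : M} (ha : a ∈ V) (hb : b ∈ V) (ha0 : a ≠ 0) (hb0 : b ≠ 0) (hab : b ≠ a) :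
    ∀ m ∈ V, m = 0 ∨ m = a ∨ m = b ∨ m = a + b := by
  classical
  have h4 : ({0, a, b, a + b} : Set M) ⊆ V := by
    rintro m (rfl | rfl | rfl | rfl)
    · exact V.zero_mem
    · exact ha
    · exact hb
    · exact V.add_mem ha hb
  have h5 : a + b ≠ 0 := fun h => hab (by rw [← add_self' a] at h; exact add_left_cancel h)
  have h6 : a + b ≠ a := fun h => hb0 (by simpa using h)
  have h7 : a + b ≠ b := fun h => ha0 (by simpa using h)
  have h8 : ({0, a, b, a + b} : Set M).ncard = 4 := by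
    rw [Set.ncard_eq_toFinset_card']
    simp [h5.symm, h6.symm, h7.symm, ha0.symm, hb0.symm, hab.symm]
  have h9 : ({0, a, b, a + b} : Set M) = V := by
    refine Set.eq_of_subset_of_ncard_le h4 ?_ (Set.toFinite _)
    rw [h8]
    exact d.card.le
  intro m hm
  have : m ∈ (V : Set M) := hm
  rw [← h9] at this
  simpa using this

theorem four : ∃ v' ∈ V, v' ≠ 0 ∧ v' ≠ v ∧ ∀ m ∈ V, m = 0 ∨ m = v ∨ m = v' ∨ m = v + v' := by
  have h1 : ∃ v' ∈ V, v' ≠ 0 ∧ v' ≠ v := by
    by_contra h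
    push Not at h
    have h2 : (V : Set M) ⊆ {0, v} := by
      intro m hm
      by_cases h0 : m = 0
      · exact Or.inl h0
      · exact Or.inr (h m hm h0)
    have h3 : Nat.card V ≤ 2 := by
      have := Set.ncard_le_ncard h2 (Set.toFinite _)
      have h4 : ({0, v} : Set M).ncard ≤ 2 := Set.ncard_insert_le _ _ |>.trans (by simp)
      exact this.trans h4
    have := d.card
    omega
  obtain ⟨v', h1, h2, h3⟩ := h1
  exact ⟨v', h1, h2, h3, d.four' d.vV h1 d.v0 h2 h3⟩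

theorem mem_orbit {m : M} (hm : m ∈ V) (h0 : m ≠ 0) : m ∈ MulAction.orbit H v := by
  obtain ⟨l, -, h⟩ := d.tr m hm h0
  exact ⟨l, h⟩

theorem v_mem : v ∈ MulAction.orbit H v := MulAction.mem_orbit_self v

theorem ne_zero {u : M} (hu : u ∈ MulAction.orbit H v) : u ≠ 0 := by
  obtain ⟨g, rfl⟩ := hu
  intro h
  have h1 : g • v = g • (0 : M) := by rw [smul_zero]; exact h
  exact d.v0 (smul_left_cancel g h1)

/-- a `T`-invariant subgroup not containing `v` is trivial -/
theorem eq_bot (U : AddSubgroup M) (hU : ∀ t ∈ T, ∀ m ∈ U, t • m ∈ U) (hv : v ∉ U) : U = ⊥ := by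
  by_contra hne
  let act : MulAction T U :=
    { smul := fun t m => ⟨(t : H) • (m : M), hU t t.2 m m.2⟩
      one_smul := fun m => Subtype.ext (one_smul H (m : M))
      mul_smul := fun s t m => Subtype.ext (mul_smul (s : H) (t : H) (m : M)) }
  have : Fact (Nat.Prime 2) := ⟨Nat.prime_two⟩
  have h2 : 2 ∣ Nat.card U := by
    obtain ⟨m, hm, h0⟩ := (AddSubgroup.ne_bot_iff_exists_ne_zero (H := U)).1 hne |>.elim fun a ha =>
      (⟨a.1, a.2, fun h => ha (Subtype.ext h)⟩ : ∃ m ∈ U, m ≠ 0)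
    have h3 : addOrderOf (⟨m, hm⟩ : U) = 2 := by
      refine addOrderOf_eq_prime ?_ ?_
      · rw [two_nsmul]
        exact Subtype.ext (add_self' m)
      · intro h
        exact h0 (congrArg Subtype.val h)
    rw [← h3]
    exact addOrderOf_dvd_natCard _
  obtain ⟨b, hb, hb0⟩ := d.pT.exists_fixed_point_of_prime_dvd_card_of_fixed_point U h2
    (a := 0) (fun t => Subtype.ext (smul_zero (t : H)))
  rcases d.fix b.1 (fun t ht => congrArg Subtype.val (hb ⟨t, ht⟩)) with h | h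
  · exact hb0 (Subtype.ext h.symm)
  · exact hv (h ▸ b.2)

/-- (a), first half: if `v` is not perpendicular to `V`, the annihilator of `Φ_v` is `⟨v⟩`. -/
theorem ann {v' : M} (h1 : v' ∈ V) (h2 : v' ≠ 0) (h3 : v' ≠ v)
    (h4 : ∀ m ∈ V, m = 0 ∨ m = v ∨ m = v' ∨ m = v + v') (hn : ¬ Pp H v v') {m : M} (hm : Pp H v m) :
    m = 0 ∨ m = v := by
  have hv := d.v_mem
  have hv' := d.mem_orbit h1 h2
  let U : AddSubgroup M :=
    { carrier := {m | ∀ p ∈ V, p ≠ 0 → Pp H p m}
      zero_mem' := fun p _ _ => Pp.zero p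
      add_mem' := fun ha hb p hp h0 => (ha p hp h0).add (hb p hp h0)
      neg_mem' := fun ha p hp h0 => by
        have := ha p hp h0
        intro φ hφ
        rw [map_neg, this φ hφ, neg_zero] }
  have hU : U = ⊥ := by
    refine d.eq_bot U ?_ ?_
    · intro t ht m hm p hp h0
      have h5 := hm (t⁻¹ • p) (d.TV _ (inv_mem ht) p hp) (fun h => h0 (by
        rw [inv_smul_eq_iff, smul_zero] at h
        exact h))
      have := h5.conj t
      rwa [smul_inv_smul] at this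
    · intro h
      exact hn ((h v' h1 h2).symm hv hv')
  have hn' : ¬ Pp H v' v := fun h => hn (h.symm hv hv')
  have hn0 := hn
  unfold Pp at hn hn'
  push Not at hn hn'
  obtain ⟨φ₀, f1, f2⟩ := hn
  obtain ⟨φ₁, g1, g2⟩ := hn'
  have f2 := z2n f2
  have g2 := z2n g2
  -- `φ₂ = φ₀ + φ₁ ∈ Φ_{v+v'}`
  have k1 : Ph H (v + v') (φ₀ + φ₁) := by
    obtain ⟨e1, a, ha⟩ := id f1
    have h5 := g1.conj a
    rw [ha v', f2, one_smul, add_comm v' v] at h5
    convert h5 using 1
    ext m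
    simp only [LinearMap.add_apply, LinearMap.comp_apply, lact_apply]
    rw [inv_tv e1 ha, map_add, map_smul, g2, smul_eq_mul, mul_one, add_comm]
  have k2 : (φ₀ + φ₁) v = 1 := by rw [LinearMap.add_apply, f1.1, g2, zero_add]
  have hv'' : v + v' ∈ MulAction.orbit H v := add_mem_orbit hv' hn0
  -- the corrected vector
  obtain ⟨m', h6, h7, h8⟩ : ∃ m', Pp H v m' ∧ φ₁ m' = 0 ∧ (m = m' ∨ m = m' + v) := by
    rcases z2 (φ₁ m) with h | h
    · exact ⟨m, hm, h, Or.inl rfl⟩
    · refine ⟨m + v, hm.add (Pp.self v), by rw [map_add, h, g2]; decide, Or.inr ?_⟩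
      rw [add_assoc, add_self', add_zero]
  have h9 : m' ∈ U := by
    intro p hp h0 ψ hψ
    rcases h4 p hp with rfl | rfl | rfl | rfl
    · exact absurd rfl h0
    · exact h6 ψ hψ
    · have key : ∀ ψ, Ph H p ψ → ψ v = 0 → ψ m' = 0 := fun ψ hψ h =>
        h6 ψ (hψ.swap hv' hv (fun h => hn0 (h.symm hv hv')) h)
      rcases z2 (ψ v) with h | h
      · exact key ψ hψ h
      · have := key _ (hψ.add g1) (by rw [LinearMap.add_apply, h, g2]; decide)
        rw [LinearMap.add_apply, h7, add_zero] at this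
        exact this
    · have hn2 : ¬ Pp H (v + v') v := fun h => by
        have := h _ k1
        rw [k2] at this
        exact absurd this (by decide)
      have key : ∀ ψ, Ph H (v + v') ψ → ψ v = 0 → ψ m' = 0 := fun ψ hψ h =>
        h6 ψ (hψ.swap hv'' hv hn2 h)
      rcases z2 (ψ v) with h | h
      · exact key ψ hψ h
      · have := key _ (hψ.add k1) (by rw [LinearMap.add_apply, h, k2]; decide)
        rw [LinearMap.add_apply, LinearMap.add_apply, h7, add_zero, h6 _ f1, add_zero] at this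
        exact this
  rw [hU, AddSubgroup.mem_bot] at h9
  rcases h8 with rfl | rfl
  · exact Or.inl h9
  · right
    rw [h9, zero_add]

/-- (a): every functional which kills `v` lies in `Φ_v`. -/
theorem full {v' : M} (h1 : v' ∈ V) (h2 : v' ≠ 0) (h3 : v' ≠ v)
    (h4 : ∀ m ∈ V, m = 0 ∨ m = v ∨ m = v' ∨ m = v + v') (hn : ¬ Pp H v v') {φ : Dual (ZMod 2) M} (hφ : φ v = 0) :
    Ph H v φ := by
  let E : Submodule (ZMod 2) (Dual (ZMod 2) M) :=
    { carrier := {φ | Ph H v φ}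
      zero_mem' := Ph.zero v
      add_mem' := fun h1 h2 => h1.add h2
      smul_mem' := fun c x hx => by
        rcases z2 c with rfl | rfl
        · rw [zero_smul]
          exact Ph.zero v
        · rwa [one_smul] }
  have := fin_dual (M := M)
  have h5 : φ ∈ E.dualCoannihilator.dualAnnihilator := by
    rw [Submodule.mem_dualAnnihilator]
    intro m hm
    rw [Submodule.mem_dualCoannihilator] at hm
    rcases d.ann h1 h2 h3 h4 hn (m := m) hm with rfl | rfl
    · exact map_zero _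
    · exact hφ
  rw [Subspace.dualCoannihilator_dualAnnihilator_eq] at h5
  exact h5

theorem full' {v' : M} (h1 : v' ∈ V) (h2 : v' ≠ 0) (h3 : v' ≠ v)
    (h4 : ∀ m ∈ V, m = 0 ∨ m = v ∨ m = v' ∨ m = v + v') (hn : ¬ Pp H v v') {u : M} (hu : u ∈ MulAction.orbit H v)
    {φ : Dual (ZMod 2) M} (hφ : φ u = 0) : Ph H u φ := by
  obtain ⟨g, rfl⟩ := hu
  have h5 : Ph H v (φ.comp (lact g)) := d.full h1 h2 h3 h4 hn hφ
  have h6 := h5.conj g
  convert h6 using 1
  ext m
  simp

theorem exists_functional {p : Submodule (ZMod 2) M} {x : M} (hx : x ∉ p) :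
    ∃ φ : Dual (ZMod 2) M, φ x = 1 ∧ ∀ m ∈ p, φ m = 0 := by
  obtain ⟨f, hf, hp⟩ := Submodule.exists_le_ker_of_notMem hx
  exact ⟨f, z2n hf, fun m hm => hp hm⟩

/-- (a): `V` is totally perpendicular -/
theorem pV {m : M} (hm : m ∈ V) : Pp H v m := by
  obtain ⟨v', h1, h2, h3, h4⟩ := d.four
  by_contra hm0
  have hn : ¬ Pp H v v' := by
    intro h
    apply hm0
    rcases h4 m hm with rfl | rfl | rfl | rfl
    · exact Pp.zero v
    · exact Pp.self _
    · exact h
    · exact (Pp.self v).add h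
  have hpt : ∀ m : M, m ≠ 0 → m ∈ MulAction.orbit H v := by
    let U : AddSubgroup M :=
      { carrier := {m | m = 0 ∨ m ∈ MulAction.orbit H v}
        zero_mem' := Or.inl rfl
        add_mem' := by
          rintro a b (rfl | ha) (rfl | hb)
          · exact Or.inl (add_zero 0)
          · rw [zero_add]
            exact Or.inr hb
          · rw [add_zero]
            exact Or.inr ha
          · by_cases hab : a = b
            · left
              rw [hab]
              exact add_self' b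
            · right
              refine add_mem_orbit hb (fun h => ?_)
              have hb' : b ∉ Submodule.span (ZMod 2) {a} := by
                rw [Submodule.mem_span_singleton]
                rintro ⟨c, hc⟩
                rcases z2 c with rfl | rfl
                · rw [zero_smul] at hc
                  exact d.ne_zero hb hc.symm
                · rw [one_smul] at hc
                  exact hab hc
              obtain ⟨φ, k1, k2⟩ := d.exists_functional hb'
              have := h φ (d.full' h1 h2 h3 h4 hn ha (k2 a (Submodule.mem_span_singleton_self a)))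
              rw [k1] at this
              exact absurd this (by decide)
        neg_mem' := by
          rintro a ha
          have : -a = a := by
            rw [neg_eq_iff_add_eq_zero]
            exact add_self' a
          rw [this]
          exact ha }
    have hU : AddSubgroup.closure (MulAction.orbit H v) ≤ U :=
      (AddSubgroup.closure_le U).2 (fun m hm => Or.inr hm)
    rw [d.span] at hU
    intro m h0
    exact (hU (AddSubgroup.mem_top m)).resolve_left h0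
  obtain ⟨U, hU, hD⟩ := d.ncl
  apply hU
  rw [eq_top_iff]
  intro m _
  by_cases hmV : m ∈ V
  · have := hD 1 (one_smul H v) m hmV
    rwa [one_smul] at this
  · have hm0 : m ≠ 0 := fun h => hmV (h ▸ V.zero_mem)
    have hmv : m ≠ v := fun h => hmV (h ▸ d.vV)
    have hmv' : m ≠ v' := fun h => hmV (h ▸ h1)
    have hu0 : m + v' ≠ 0 := fun h => hmv' (by
      rw [← add_self' v'] at h
      exact add_right_cancel h)
    have hx : v' ∉ Submodule.span (ZMod 2) {m + v', v} := by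
      rw [Submodule.mem_span_pair]
      rintro ⟨a, b, hab⟩
      rcases z2 a with rfl | rfl <;> rcases z2 b with rfl | rfl
      · simp only [zero_smul, add_zero] at hab
        exact h2 hab.symm
      · simp only [zero_smul, one_smul, zero_add] at hab
        exact h3 hab.symm
      · simp only [zero_smul, one_smul, add_zero] at hab
        exact hm0 (by simpa using hab)
      · simp only [one_smul] at hab
        have h5 : m + v = 0 := by
          have h6 : m + v + v' = 0 + v' := by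
            rw [zero_add, add_right_comm]
            exact hab
          exact add_right_cancel h6
        exact hmv (by
          rw [← add_self' v] at h5
          exact add_right_cancel h5)
    obtain ⟨φ, k1, k2⟩ := d.exists_functional hx
    obtain ⟨-, a, ha⟩ := d.full' h1 h2 h3 h4 hn (hpt _ hu0) (k2 _ (Submodule.subset_span (by simp)))
    have h5 : a • v = v := by
      rw [ha, k2 v (Submodule.subset_span (by simp)), zero_smul, add_zero]
    have h6 : a • v' = m := by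
      rw [ha, k1, one_smul, add_comm m v', ← add_assoc, add_self', zero_add]
    rw [← h6]
    exact hD a h5 v' h1

theorem pVV {p m : M} (hp : p ∈ V) (h0 : p ≠ 0) (hm : m ∈ V) : Pp H p m := by
  obtain ⟨l, hl, rfl⟩ := d.tr p hp h0
  have h1 := (d.pV (m := l⁻¹ • m) (d.LV _ (inv_mem hl) m hm)).conj l
  rwa [smul_inv_smul] at h1

theorem conn (S : Set H) (g₀ : H) (h0 : g₀ ∈ S) (hD : ∀ g ∈ S, ∀ x : H, x • v = v → g * x ∈ S)
    (hL : ∀ g ∈ S, ∀ l ∈ L, g * l ∈ S) (g : H) : g ∈ S := by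
  let K : Subgroup H :=
    { carrier := {k | ∀ g, g ∈ S ↔ g * k ∈ S}
      one_mem' := fun g => by rw [mul_one]
      mul_mem' := fun {a b} ha hb g => by rw [← mul_assoc, ← hb (g * a), ← ha g]
      inv_mem' := fun {a} ha g => by rw [ha (g * a⁻¹), inv_mul_cancel_right] }
  have h1 : MulAction.stabilizer H v ≤ K := by
    intro x hx g
    have hx : x • v = v := hx
    refine ⟨fun h => hD g h x hx, fun h => ?_⟩
    have := hD _ h x⁻¹ (by rw [inv_smul_eq_iff, hx])
    rwa [mul_inv_cancel_right] at this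
  have h2 : L ≤ K := by
    intro x hx g
    refine ⟨fun h => hL g h x hx, fun h => ?_⟩
    have := hL _ h x⁻¹ (inv_mem hx)
    rwa [mul_inv_cancel_right] at this
  have h3 : K = ⊤ := by
    rw [eq_top_iff, ← d.gen]
    exact sup_le h1 h2
  have h4 : g₀⁻¹ * g ∈ K := by
    rw [h3]
    exact Subgroup.mem_top _
  have := (h4 g₀).1 h0
  rwa [mul_inv_cancel_left] at this

theorem meet {w : M} (hw : w ∈ MulAction.orbit H v) (g : H) : ∃ q ∈ V, q ≠ 0 ∧ Pp H w (g • q) := by
  obtain ⟨v', h1, h2, h3, h4⟩ := d.four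
  have key : ∀ w ∈ MulAction.orbit H v, ∃ q ∈ V, q ≠ 0 ∧ Pp H w q := by
    intro w hw
    by_cases h : ∀ m ∈ V, Pp H w m
    · exact ⟨v, d.vV, d.v0, h v d.vV⟩
    · push Not at h
      obtain ⟨m, hm, h⟩ := h
      unfold Pp at h
      push Not at h
      obtain ⟨ψ, k1, k2⟩ := h
      obtain ⟨q, hq, hq0, hq1⟩ : ∃ q ∈ V, q ≠ 0 ∧ ψ q = 0 := by
        rcases z2 (ψ v) with h5 | h5
        · exact ⟨v, d.vV, d.v0, h5⟩
        · rcases z2 (ψ v') with h6 | h6
          · exact ⟨v', h1, h2, h6⟩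
          · refine ⟨v + v', V.add_mem d.vV h1, ?_, by rw [map_add, h5, h6]; decide⟩
            intro h
            rw [← add_self' v] at h
            exact h3 (add_left_cancel h)
      refine ⟨q, hq, hq0, ?_⟩
      by_contra hc
      exact k2 (d.pVV hq hq0 hm ψ (k1.swap hw (d.mem_orbit hq hq0) hc hq1))
  obtain ⟨k, rfl⟩ := hw
  obtain ⟨q, hq, hq0, h⟩ := key ((g⁻¹ * k) • v) ⟨_, rfl⟩
  refine ⟨q, hq, hq0, ?_⟩
  have := h.conj g
  rwa [← mul_smul, mul_inv_cancel_left] at this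

theorem ext_orbit {φ : Dual (ZMod 2) M} (h : ∀ u ∈ MulAction.orbit H v, φ u = 0) : φ = 0 := by
  have h1 : AddSubgroup.closure (MulAction.orbit H v) ≤ φ.toAddMonoidHom.ker :=
    (AddSubgroup.closure_le _).2 (fun u hu => h u hu)
  rw [d.span] at h1
  ext m
  exact h1 (AddSubgroup.mem_top m)

theorem ext_orbit' {φ ψ : Dual (ZMod 2) M} (h : ∀ u ∈ MulAction.orbit H v, φ u = ψ u) : φ = ψ := by
  rw [← sub_eq_zero]
  exact d.ext_orbit (fun u hu => by rw [LinearMap.sub_apply, h u hu, sub_self])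

/-- (b): `|Φ_v| = 2` -/
theorem uniq {φ ψ : Dual (ZMod 2) M} (h1 : Ph H v φ) (h2 : Ph H v ψ) (h3 : φ ≠ 0) (h4 : ψ ≠ 0) : φ = ψ := by
  by_contra hne
  -- every `Φ_p` has another element
  have more : ∀ p ∈ MulAction.orbit H v, ∀ φ', ∃ ψ', Ph H p ψ' ∧ ψ' ≠ 0 ∧ ψ' ≠ φ' := by
    rintro _ ⟨g, rfl⟩ φ'
    have inj : ∀ ψ₁ ψ₂ : Dual (ZMod 2) M, ψ₁.comp (lact g⁻¹) = ψ₂.comp (lact g⁻¹) → ψ₁ = ψ₂ := by
      intro ψ₁ ψ₂ h
      ext m
      have := LinearMap.congr_fun h (g • m)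
      simpa using this
    by_cases h : φ.comp (lact g⁻¹) = φ'
    · refine ⟨_, h2.conj g, fun h0 => h4 (inj _ _ (by rw [h0, LinearMap.zero_comp])), fun h5 => hne (inj _ _ ?_)⟩
      rw [h, h5]
    · exact ⟨_, h1.conj g, fun h0 => h3 (inj _ _ (by rw [h0, LinearMap.zero_comp])), h⟩
  -- (ii)
  have two : ∀ p ∈ MulAction.orbit H v, Ph H p φ → ∃ p' ∈ MulAction.orbit H v, ¬ Pp H p p' ∧ φ p' = 0 := by
    intro p hp hφ
    by_contra hc
    push Not at hc
    obtain ⟨ψ', k1, k2, k3⟩ := more p hp φ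
    have hz : ∀ p' ∈ MulAction.orbit H v, φ p' = 0 → ψ' p' = 0 := by
      intro p' hp' h0
      by_contra h5
      exact hc p' hp' (fun h => h5 (h ψ' k1)) h0
    obtain ⟨w₁, hw₁, a1, a2⟩ : ∃ w ∈ MulAction.orbit H v, φ w = 1 ∧ ψ' w = 0 := by
      by_contra hno
      push Not at hno
      refine k3 (d.ext_orbit' (fun u hu => ?_))
      rcases z2 (φ u) with h | h
      · rw [h, hz u hu h]
      · rw [h, z2n (hno u hu h)]
    obtain ⟨w₂, hw₂, b1, b2⟩ : ∃ w ∈ MulAction.orbit H v, φ w = 1 ∧ ψ' w = 1 := by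
      by_contra hno
      push Not at hno
      refine k2 (d.ext_orbit (fun u hu => ?_))
      rcases z2 (φ u) with h | h
      · exact hz u hu h
      · exact (z2 _).resolve_right (hno u hu h)
    have c1 : ¬ Pp H p w₁ := fun h => by
      have := h φ hφ
      rw [a1] at this
      exact absurd this (by decide)
    have c2 : Ph H w₁ ψ' := k1.swap hp hw₁ c1 a2
    have c3 : ¬ Pp H w₁ w₂ := fun h => by
      have := h ψ' c2
      rw [b2] at this
      exact absurd this (by decide)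
    have c4 := hz _ (add_mem_orbit hw₂ c3) (by rw [map_add, a1, b1]; decide)
    rw [map_add, a2, b2, zero_add] at c4
    exact absurd c4 (by decide)
  -- (iii)
  have three : ∀ g : H, ∀ p ∈ V, p ≠ 0 → Ph H (g • p) φ → ∀ x ∈ V, x ≠ 0 → Ph H (g • x) φ := by
    intro g p hp hp0 hφ x hx hx0
    have hpo : g • p ∈ MulAction.orbit H v := by
      obtain ⟨l, -, rfl⟩ := d.tr p hp hp0
      exact ⟨g * l, by simp only [mul_smul]⟩
    obtain ⟨p', hp', k1, k2⟩ := two _ hpo hφ
    have k3 : Ph H p' φ := hφ.swap hpo hp' k1 k2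
    have k1' : ¬ Pp H p' (g • p) := fun h => k1 (h.symm hpo hp')
    obtain ⟨q, hq, hq0, k4⟩ := d.meet hp' g
    have hqp : q ≠ p := by
      rintro rfl
      exact k1' k4
    have hr : p + q ∈ V := V.add_mem hp hq
    have hr0 : p + q ≠ 0 := fun h => hqp (by
      rw [← add_self' p] at h
      exact add_left_cancel h)
    have hro : g • (p + q) ∈ MulAction.orbit H v := by
      obtain ⟨l, -, h⟩ := d.tr _ hr hr0
      exact ⟨g * l, by simp only [mul_smul, h]⟩
    have k5 : ¬ Pp H p' (g • (p + q)) := by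
      intro h
      have := h.add k4
      rw [smul_add, add_assoc, add_self', add_zero] at this
      exact k1' this
    have k6 : φ (g • (p + q)) = 0 := ((d.pVV hp hp0 hr).conj g) φ hφ
    have k7 : Ph H (g • (p + q)) φ := k3.swap hp' hro k5 k6
    have k8 : Ph H (g • q) φ := by
      have := hφ.add_centre k7
      rwa [smul_add, ← add_assoc, add_self', zero_add] at this
    rcases d.four' hp hq hp0 hq0 hqp x hx with rfl | rfl | rfl | rfl
    · exact absurd rfl hx0
    · exact hφ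
    · exact k8
    · exact k7
  have all : ∀ g : H, Ph H (g • v) φ := by
    intro g
    refine d.conn {g | Ph H (g • v) φ} 1 (by simpa using h1) ?_ ?_ g
    · intro g hg x hx
      change Ph H ((g * x) • v) φ
      rw [mul_smul, hx]
      exact hg
    · intro g hg l hl
      change Ph H ((g * l) • v) φ
      rw [mul_smul]
      refine three g v d.vV d.v0 hg _ (d.LV l hl v d.vV) ?_
      exact d.ne_zero ⟨l, rfl⟩
  exact h3 (d.ext_orbit (by
    rintro _ ⟨g, rfl⟩
    exact (all g).1))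

end Dat

/-- the functional of an element acting as a transvection -/
theorem exists_fun {H K : Type*} [Group H] [AddCommGroup K] [Module (ZMod 2) K] [DistribMulAction H K] {n : K}
    (hn : n ≠ 0) {x : H} (h : ∀ q : K, x • q = q ∨ x • q = q + n) :
    ∃ κ : Dual (ZMod 2) K, κ n = 0 ∧ ∀ q, x • q = q + κ q • n := by
  classical
  let f : K → ZMod 2 := fun q => if x • q = q then 0 else 1
  have hf : ∀ q, x • q = q + f q • n := by
    intro q
    by_cases h1 : x • q = q
    · simp [f, h1]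
    · rcases h q with h2 | h2
      · exact absurd h2 h1
      · simp only [f, h1, if_false, one_smul]
        exact h2
  have hinj : ∀ a b : ZMod 2, a • n = b • n → a = b := by
    intro a b hab
    rcases z2 a with rfl | rfl <;> rcases z2 b with rfl | rfl
    · rfl
    · rw [zero_smul, one_smul] at hab
      exact absurd hab.symm hn
    · rw [zero_smul, one_smul] at hab
      exact absurd hab hn
    · rfl
  have hadd : ∀ a b, f (a + b) = f a + f b := by
    intro a b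
    apply hinj
    have h1 := hf (a + b)
    rw [smul_add, hf a, hf b] at h1
    rw [add_smul]
    have h2 : a + b + f (a + b) • n = a + b + (f a • n + f b • n) := by
      rw [← h1]
      abel
    exact add_left_cancel h2
  let κ₀ : K →+ ZMod 2 := { toFun := f, map_zero' := by simp [f], map_add' := hadd }
  refine ⟨κ₀.toZModLinearMap 2, ?_, hf⟩
  change f n = 0
  rcases z2 (f n) with h1 | h1
  · exact h1
  · exfalso
    have := hf n
    rw [h1, one_smul, add_self', ← smul_zero x] at this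
    exact hn (smul_left_cancel x this)

namespace Dat

variable {H M : Type*} [Group H] [AddCommGroup M] [Module (ZMod 2) M] [DistribMulAction H M] [Finite H] [Finite M]
  {v : M} {V : AddSubgroup M} {T L : Subgroup H} (d : Dat v V T L)

include d

/-- **(b)**: two elements inducing transvections with centre `v` act equally. -/
theorem two {x y : H} (hx : ∀ m : M, x • m = m ∨ x • m = m + v) (hy : ∀ m : M, y • m = m ∨ y • m = m + v)
    (hx0 : ∃ m : M, x • m ≠ m) (hy0 : ∃ m : M, y • m ≠ m) (m : M) : x • m = y • m := by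
  obtain ⟨φ, h1, h2⟩ := exists_fun d.v0 hx
  obtain ⟨ψ, h3, h4⟩ := exists_fun d.v0 hy
  have h5 : φ = ψ := by
    refine d.uniq ⟨h1, x, h2⟩ ⟨h3, y, h4⟩ ?_ ?_
    · rintro rfl
      obtain ⟨m, hm⟩ := hx0
      exact hm (by rw [h2, LinearMap.zero_apply, zero_smul, add_zero])
    · rintro rfl
      obtain ⟨m, hm⟩ := hy0
      exact hm (by rw [h4, LinearMap.zero_apply, zero_smul, add_zero])
  rw [h2, h4, h5]

variable {φ₀ : Dual (ZMod 2) M} (h₀ : Ph H v φ₀) (h₀' : φ₀ ≠ 0)

include h₀ h₀'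

theorem comp_eq {g k : H} (h : g • v = k • v) : φ₀.comp (lact g⁻¹) = φ₀.comp (lact k⁻¹) := by
  have h1 := h₀.conj (k⁻¹ * g)
  have h2 : (k⁻¹ * g) • v = v := by rw [mul_smul, h, inv_smul_smul]
  rw [h2] at h1
  have h3 : φ₀.comp (lact (k⁻¹ * g)⁻¹) = φ₀ := by
    refine d.uniq h1 h₀ ?_ h₀'
    intro h0
    apply h₀'
    ext m
    have := LinearMap.congr_fun h0 ((k⁻¹ * g) • m)
    rwa [LinearMap.comp_apply, lact_apply, inv_smul_smul] at this
  ext m
  have := LinearMap.congr_fun h3 (k⁻¹ • m)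
  simpa [mul_smul] using this

theorem pp_iff (g k : H) : Pp H (g • v) (k • v) ↔ φ₀ (g⁻¹ • k • v) = 0 := by
  constructor
  · intro h
    exact h _ (h₀.conj g)
  · intro h φ hφ
    by_cases h0 : φ = 0
    · rw [h0, LinearMap.zero_apply]
    · have h1 : φ.comp (lact g) = φ₀ := by
        refine d.uniq ?_ h₀ ?_ h₀'
        · have := hφ.conj g⁻¹
          rwa [inv_smul_smul, inv_inv] at this
        · intro h2
          apply h0
          ext m
          have := LinearMap.congr_fun h2 (g⁻¹ • m)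
          simpa using this
      have := LinearMap.congr_fun h1 (g⁻¹ • k • v)
      rw [h] at this
      simpa using this

theorem form_symm (g k : H) : φ₀ (g⁻¹ • k • v) = φ₀ (k⁻¹ • g • v) := by
  have h1 := d.pp_iff h₀ h₀' g k
  have h2 := d.pp_iff h₀ h₀' k g
  have h3 : Pp H (g • v) (k • v) ↔ Pp H (k • v) (g • v) :=
    ⟨fun h => h.symm (v := v) ⟨k, rfl⟩ ⟨g, rfl⟩, fun h => h.symm (v := v) ⟨g, rfl⟩ ⟨k, rfl⟩⟩
  rcases z2 (φ₀ (g⁻¹ • k • v)) with a | a <;> rcases z2 (φ₀ (k⁻¹ • g • v)) with b | b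
  · rw [a, b]
  · have := h2.1 (h3.1 (h1.2 a))
    rw [b] at this
    exact absurd this (by decide)
  · have := h1.1 (h3.2 (h2.2 b))
    rw [a] at this
    exact absurd this (by decide)
  · rw [a, b]

theorem ker_all {m : M} (h : ∀ g : H, φ₀ (g⁻¹ • m) = 0) : m = 0 := by
  let U : AddSubgroup M :=
    { carrier := {m | ∀ g : H, φ₀ (g⁻¹ • m) = 0}
      zero_mem' := fun g => by rw [smul_zero, map_zero]
      add_mem' := fun {a b} ha hb g => by rw [smul_add, map_add, ha g, hb g, add_zero]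
      neg_mem' := fun {a} ha g => by rw [smul_neg, map_neg, ha g, neg_zero] }
  have hU : U = ⊥ := by
    refine d.eq_bot U ?_ ?_
    · intro t _ m hm g
      have := hm (t⁻¹ * g)
      rwa [mul_inv_rev, inv_inv, mul_smul] at this
    · intro hv
      refine h₀' (d.ext_orbit ?_)
      rintro _ ⟨g, rfl⟩
      have := hv g
      rw [← one_smul H v, d.form_symm h₀ h₀' g 1] at this
      simpa using this
  have h1 : m ∈ U := h
  rwa [hU, AddSubgroup.mem_bot] at h1

/-- **(c)**: a functional fixed by `T` is `0` or `φ_v`. -/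
theorem fixT {f : Dual (ZMod 2) M} (hf : ∀ t ∈ T, ∀ m, f (t • m) = f m) : f = 0 ∨ f = φ₀ := by
  obtain ⟨m₀, hm⟩ : ∃ m₀ : M, ∀ g : H, f (g • v) = φ₀ (g⁻¹ • m₀) := by
    let E : Submodule (ZMod 2) (Dual (ZMod 2) M) :=
      { carrier := {f | ∃ m₀ : M, ∀ g : H, f (g • v) = φ₀ (g⁻¹ • m₀)}
        zero_mem' := ⟨0, fun g => by simp⟩
        add_mem' := by
          rintro a b ⟨m, hm⟩ ⟨m', hm'⟩
          exact ⟨m + m', fun g => by rw [LinearMap.add_apply, hm, hm', smul_add, map_add]⟩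
        smul_mem' := by
          rintro c a ⟨m, hm⟩
          exact ⟨c • m, fun g => by rw [LinearMap.smul_apply, hm, smulc, LinearMap.map_smul]⟩ }
    have := fin_dual (M := M)
    have h5 : f ∈ E.dualCoannihilator.dualAnnihilator := by
      rw [Submodule.mem_dualAnnihilator]
      intro m hm
      rw [Submodule.mem_dualCoannihilator] at hm
      have : m = 0 := by
        refine d.ker_all h₀ h₀' (fun g => ?_)
        refine hm (φ₀.comp (lact g⁻¹)) ⟨g • v, fun k => ?_⟩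
        rw [LinearMap.comp_apply, lact_apply]
        exact d.form_symm h₀ h₀' g k
      rw [this, map_zero]
    rw [Subspace.dualCoannihilator_dualAnnihilator_eq] at h5
    exact h5
  have h1 : ∀ t ∈ T, t • m₀ = m₀ := by
    intro t ht
    rw [← sub_eq_zero]
    refine d.ker_all h₀ h₀' (fun g => ?_)
    have h2 : φ₀ (g⁻¹ • t • m₀) = φ₀ (g⁻¹ • m₀) := by
      rw [← hm g, ← hf t⁻¹ (inv_mem ht) (g • v), ← mul_smul t⁻¹ g v, hm, mul_inv_rev, inv_inv, mul_smul]
    rw [smul_sub, map_sub, h2, sub_self]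
  rcases d.fix m₀ h1 with rfl | rfl
  · left
    refine d.ext_orbit ?_
    rintro _ ⟨g, rfl⟩
    change f (g • v) = 0
    rw [hm, smul_zero, map_zero]
  · right
    refine d.ext_orbit' ?_
    rintro _ ⟨g, rfl⟩
    change f (g • m₀) = φ₀ (g • m₀)
    rw [hm]
    have := d.form_symm h₀ h₀' g 1
    simpa using this

theorem fixTL {f : Dual (ZMod 2) M} (hf : ∀ t ∈ T, ∀ m, f (t • m) = f m) (hl : ∀ l ∈ L, ∀ m, f (l • m) = f m) :
    f = 0 := by
  rcases d.fixT h₀ h₀' hf with h | rfl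
  · exact h
  · exfalso
    obtain ⟨w, hw, h1⟩ : ∃ w ∈ MulAction.orbit H v, f w = 1 := by
      by_contra hno
      push Not at hno
      exact h₀' (d.ext_orbit fun u hu => (z2 _).resolve_right (hno u hu))
    obtain ⟨q, hq, hq0, h2⟩ := d.meet hw 1
    rw [one_smul] at h2
    obtain ⟨l, hl', rfl⟩ := d.tr q hq hq0
    have h3 := (h2.symm (v := v) ⟨l, rfl⟩ hw) _ (h₀.conj l)
    rw [LinearMap.comp_apply, lact_apply, hl _ (inv_mem hl'), h1] at h3
    exact absurd h3 (by decide)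

end Dat

/-- The second half of the data: `K = Q₁/C_{Q₁}(W₁)`, `n` the image of `N₂`, `X` the image of `X₂` (on `M` and on `K`),
`α` the pairing with an element of `V₁ - Z₁`. -/
structure Dat2 {H M K : Type*} [Group H] [AddCommGroup M] [DistribMulAction H M] [AddCommGroup K] [DistribMulAction H K]
    (v : M) (n : K) (T L X : Subgroup H) (α : K →+ ZMod 2) : Prop where
  idx : ¬ 2 ∣ T.index
  tv : ∀ x ∈ X, ∀ m : M, x • m = m ∨ x • m = m + v
  nt : ∃ x ∈ X, ∃ m : M, x • m ≠ m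
  XD : ∀ g : H, g • v = v → ∀ x ∈ X, g * x * g⁻¹ ∈ X
  Dn : ∀ g : H, g • v = v → g • n = n
  tn : ∀ x ∈ X, ∀ q : K, x • q = q ∨ x • q = q + n
  tr : ∀ x ∈ X, (∀ m : M, x • m = m) → ∀ q : K, x • q = q
  αT : ∀ t ∈ T, ∀ q, α (t • q) = α q
  αL : ∀ l ∈ L, ∀ q, α (l • q) = α q
  αn : α n = 0
  αne : ∃ h : H, α (h • n) ≠ 0

namespace Dat2

variable {H M K : Type*} [Group H] [AddCommGroup M] [Module (ZMod 2) M] [DistribMulAction H M] [Finite H] [Finite M]
  [AddCommGroup K] [Module (ZMod 2) K] [DistribMulAction H K]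
  {v : M} {V : AddSubgroup M} {n : K} {T L X : Subgroup H} {α : K →+ ZMod 2}

theorem n0 (e : Dat2 v n T L X α) : n ≠ 0 := by
  rintro rfl
  obtain ⟨h, h1⟩ := e.αne
  exact h1 (by rw [smul_zero, map_zero])

theorem Dnk (e : Dat2 v n T L X α) {g k : H} (h : g • v = k • v) : g • n = k • n := by
  have := e.Dn (k⁻¹ * g) (by rw [mul_smul, h, inv_smul_smul])
  rwa [mul_smul, inv_smul_eq_iff] at this

/-- the frame: `x₀ ∈ X` with its two functionals -/
structure Fr (H : Type*) {M K : Type*} [Group H] [AddCommGroup M] [Module (ZMod 2) M] [DistribMulAction H M]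
    [AddCommGroup K] [Module (ZMod 2) K] [DistribMulAction H K] (v : M) (n : K) (x₀ : H) (φ₀ : Dual (ZMod 2) M)
    (κ : Dual (ZMod 2) K) : Prop where
  φv : φ₀ v = 0
  φ0 : φ₀ ≠ 0
  κn : κ n = 0
  xM : ∀ m : M, x₀ • m = m + φ₀ m • v
  xK : ∀ q : K, x₀ • q = q + κ q • n

theorem exists_fr (e : Dat2 v n T L X α) (v0 : v ≠ 0) : ∃ x₀ ∈ X, ∃ φ₀ κ, Fr H v n x₀ φ₀ κ := by
  obtain ⟨x, hx, hm⟩ := e.nt
  obtain ⟨φ, h1, h2⟩ := exists_fun v0 (e.tv x hx)
  obtain ⟨κ, h3, h4⟩ := exists_fun e.n0 (e.tn x hx)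
  refine ⟨x, hx, φ, κ, h1, ?_, h3, h2, h4⟩
  rintro rfl
  obtain ⟨m, hm⟩ := hm
  exact hm (by rw [h2, LinearMap.zero_apply, zero_smul, add_zero])

variable {x₀ : H} {φ₀ : Dual (ZMod 2) M} {κ : Dual (ZMod 2) K}

theorem Fr.ph (f : Fr H v n x₀ φ₀ κ) : Ph H v φ₀ := ⟨f.φv, x₀, f.xM⟩

theorem Fr.conjM (f : Fr H v n x₀ φ₀ κ) (g : H) (m : M) : (g * x₀ * g⁻¹) • m = m + φ₀ (g⁻¹ • m) • g • v := by
  rw [mul_smul, mul_smul, f.xM, smul_add, smul_inv_smul, smulc]

theorem Fr.conjK (f : Fr H v n x₀ φ₀ κ) (g : H) (q : K) : (g * x₀ * g⁻¹) • q = q + κ (g⁻¹ • q) • g • n := by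
  rw [mul_smul, mul_smul, f.xK, smul_add, smul_inv_smul, smulc]

theorem smul_inj {n : K} (hn : n ≠ 0) {a b : ZMod 2} (h : a • n = b • n) : a = b := by
  rcases z2 a with rfl | rfl <;> rcases z2 b with rfl | rfl
  · rfl
  · rw [zero_smul, one_smul] at h
    exact absurd h.symm hn
  · rw [zero_smul, one_smul] at h
    exact absurd h hn
  · rfl

variable (d : Dat v V T L) (e : Dat2 v n T L X α) (hx₀ : x₀ ∈ X) (f : Fr H v n x₀ φ₀ κ)

include d e hx₀ f

theorem κ_congr {g k : H} (h : g • v = k • v) (q : K) : κ (g⁻¹ • q) = κ (k⁻¹ • q) := by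
  -- first the case of the stabiliser
  have key : ∀ a : H, a • v = v → ∀ q, κ (a⁻¹ • q) = κ q := by
    intro a ha q
    have h1 := e.XD a ha x₀ hx₀
    have h2 : ∀ m : M, (a * x₀ * a⁻¹) • m = x₀ • m := by
      intro m
      refine d.two (e.tv _ h1) (e.tv _ hx₀) ?_ ?_ m
      · by_contra hno
        push Not at hno
        apply f.φ0
        ext m
        have h3 := hno (a • m)
        rw [f.conjM, inv_smul_smul, ha] at h3
        rcases z2 (φ₀ m) with h4 | h4
        · rw [h4, LinearMap.zero_apply]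
        · rw [h4, one_smul] at h3
          exact absurd (by simpa using h3) d.v0
      · by_contra hno
        push Not at hno
        apply f.φ0
        ext m
        have h3 := hno m
        rw [f.xM] at h3
        rcases z2 (φ₀ m) with h4 | h4
        · rw [h4, LinearMap.zero_apply]
        · rw [h4, one_smul] at h3
          exact absurd (by simpa using h3) d.v0
    have h3 : (a * x₀ * a⁻¹) * x₀⁻¹ ∈ X := mul_mem h1 (inv_mem hx₀)
    have h4 := e.tr _ h3 (fun m => by rw [mul_smul, h2, smul_inv_smul]) (x₀ • q)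
    rw [mul_smul, inv_smul_smul, f.conjK, f.xK, e.Dn a ha] at h4
    exact smul_inj e.n0 (add_left_cancel h4)
  have h1 := key (k⁻¹ * g) (by rw [mul_smul, h, inv_smul_smul]) (k⁻¹ • q)
  rwa [mul_inv_rev, inv_inv, mul_smul, smul_inv_smul] at h1

/-- collinear points have different `n` -/
theorem ne_line {l : H} (hl : l ∈ L) (h1 : l • v ≠ v) : l • n ≠ n := by
  intro h2
  have hlV : l • v ∈ V := d.LV l hl v d.vV
  have hl0 : l • v ≠ 0 := d.ne_zero ⟨l, rfl⟩
  have four := d.four' d.vV hlV d.v0 hl0 h1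
  -- all three are equal
  have all : ∀ k ∈ L, k • n = n := by
    have third : ∀ k ∈ L, k • v = v + l • v → k • n = n := by
      intro k hk h3
      -- `k • l • v ≠ k • v`
      have h4 : k • l • v = v ∨ k • l • v = l • v := by
        rcases four (k • l • v) (d.LV k hk _ hlV) with h | h | h | h
        · exact absurd h (d.ne_zero ⟨k * l, by simp only [mul_smul]⟩)
        · exact Or.inl h
        · exact Or.inr h
        · rw [← h3] at h
          exact absurd (smul_left_cancel k h) h1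
      have h5 : k • l • n = k • n := by rw [h2]
      rw [← h5]
      rcases h4 with h | h
      · have := e.Dn (k * l) (by rw [mul_smul, h])
        rwa [mul_smul] at this
      · have := e.Dnk (g := k * l) (k := l) (by rw [mul_smul, h])
        rw [mul_smul] at this
        rw [this, h2]
    intro k hk
    rcases four (k • v) (d.LV k hk v d.vV) with h | h | h | h
    · exact absurd h (d.ne_zero ⟨k, rfl⟩)
    · exact e.Dn k h
    · rw [e.Dnk h, h2]
    · exact third k hk h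
  have h3 : ∀ g : H, g • n = n := by
    intro g
    refine d.conn {g | g • n = n} 1 (one_smul _ _) ?_ ?_ g
    · intro g hg x hx
      change (g * x) • n = n
      rw [mul_smul, e.Dn x hx]
      exact hg
    · intro g hg x hx
      change (g * x) • n = n
      rw [mul_smul, all x hx]
      exact hg
  obtain ⟨g, hg⟩ := e.αne
  rw [h3 g, e.αn] at hg
  exact hg rfl

/-- the dichotomy -/
theorem dich {g k : H} (h : φ₀ (g⁻¹ • k • v) = 1) :
    (κ (g⁻¹ • k • n) = 1) ∨ (κ (g⁻¹ • k • n) = 0 ∧ κ (k⁻¹ • g • n) = 0 ∧ k • n = g • n) := by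
  have h' : φ₀ (k⁻¹ • g • v) = 1 := by rw [← d.form_symm f.ph f.φ0, h]
  have h1 : ((g * x₀ * g⁻¹) * k) • v = ((k * x₀ * k⁻¹) * g) • v := by
    rw [mul_smul (g * x₀ * g⁻¹) k, mul_smul (k * x₀ * k⁻¹) g, f.conjM, f.conjM, h, h', one_smul, one_smul, add_comm]
  have h2 := e.Dnk h1
  rw [mul_smul (g * x₀ * g⁻¹) k, mul_smul (k * x₀ * k⁻¹) g, f.conjK, f.conjK] at h2
  have hn := e.n0
  have hk0 : k • n ≠ 0 := fun h => hn (smul_left_cancel k (by rw [h, smul_zero]))
  have hg0 : g • n ≠ 0 := fun h => hn (smul_left_cancel g (by rw [h, smul_zero]))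
  rcases z2 (κ (g⁻¹ • k • n)) with a | a <;> rcases z2 (κ (k⁻¹ • g • n)) with b | b
  · rw [a, b, zero_smul, zero_smul, add_zero, add_zero] at h2
    exact Or.inr ⟨a, b, h2⟩
  · rw [a, b, zero_smul, one_smul, add_zero] at h2
    exact absurd (by simpa using h2) hg0
  · exact Or.inl a
  · exact Or.inl a

/-- (d): `n_{u+w} = n_u + n_w` if `u`, `w` are not perpendicular -/
theorem κ_one {g k : H} (h : φ₀ (g⁻¹ • k • v) = 1) : κ (g⁻¹ • k • n) = 1 := by
  rcases dich d e hx₀ f h with h1 | ⟨h1, h2, h3⟩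
  · exact h1
  · exfalso
    have h' : φ₀ (k⁻¹ • g • v) = 1 := by rw [← d.form_symm f.ph f.φ0, h]
    have e1 : ((g * x₀ * g⁻¹) * k) • v = ((k * x₀ * k⁻¹) * g) • v := by
      rw [mul_smul (g * x₀ * g⁻¹) k, mul_smul (k * x₀ * k⁻¹) g, f.conjM, f.conjM, h, h', one_smul, one_smul, add_comm]
    -- `κ_u = κ_w`
    have conjInv : ∀ (g : H) (q : K), (g * x₀ * g⁻¹)⁻¹ • q = q + κ (g⁻¹ • q) • g • n := by
      intro g q
      rw [inv_smul_eq_iff, smul_add, smulc, f.conjK, f.conjK, inv_smul_smul, f.κn, zero_smul, add_zero, add_assoc,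
        add_self', add_zero]
    have k1 : ∀ q : K, κ (g⁻¹ • q) = κ (k⁻¹ • q) := by
      intro q
      have h4 := κ_congr d e hx₀ f e1 q
      rw [mul_inv_rev (g * x₀ * g⁻¹) k, mul_inv_rev (k * x₀ * k⁻¹) g, mul_smul k⁻¹, mul_smul g⁻¹, conjInv, conjInv, smul_add, smul_add, smulc, smulc, map_add,
        map_add, LinearMap.map_smul, LinearMap.map_smul, h1, h2, smul_zero, smul_zero, add_zero, add_zero] at h4
      exact h4.symm
    -- the line on `u`
    obtain ⟨q, hq, hq0, h4⟩ := d.meet (w := k • v) ⟨k, rfl⟩ g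
    have hqv : q ≠ v := by
      rintro rfl
      have := (d.pp_iff f.ph f.φ0 k g).1 h4
      rw [h'] at this
      exact absurd this (by decide)
    have hr : v + q ∈ V := V.add_mem d.vV hq
    have hr0 : v + q ≠ 0 := fun h => hqv (by
      rw [← add_self' v] at h
      exact add_left_cancel h)
    obtain ⟨l, hl, hlr⟩ := d.tr _ hr hr0
    have hlv : l • v ≠ v := by
      rw [hlr]
      intro h
      exact hq0 (by simpa using h)
    have h5 : φ₀ (k⁻¹ • (g * l) • v) = 1 := by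
      rw [mul_smul, hlr]
      obtain ⟨l', hl', rfl⟩ := d.tr q hq hq0
      have h6 : φ₀ (k⁻¹ • g • l' • v) = 0 := by
        have := (d.pp_iff f.ph f.φ0 k (g * l')).1 (by rwa [mul_smul])
        rwa [mul_smul] at this
      rw [smul_add, smul_add, map_add, h', h6, add_zero]
    have h6 : κ (k⁻¹ • (g * l) • n) = 1 := by
      rcases dich d e hx₀ f h5 with h7 | ⟨-, -, h7⟩
      · exact h7
      · exfalso
        rw [h3, mul_smul] at h7
        exact ne_line d e hx₀ f hl hlv (smul_left_cancel g h7)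
    rw [← k1, mul_smul, inv_smul_smul] at h6
    -- but `x₀` fixes `l • v`
    have h7 : (x₀ * l) • v = l • v := by
      rw [mul_smul, f.xM, hlr]
      rw [(d.pV hr) φ₀ f.ph, zero_smul, add_zero]
    have h8 := e.Dnk h7
    rw [mul_smul, f.xK, h6, one_smul] at h8
    exact e.n0 (by simpa using h8)

theorem κ_eq (h : H) : κ (h • n) = φ₀ (h • v) := by
  rcases z2 (φ₀ (h • v)) with h1 | h1
  · rw [h1]
    have h2 : (x₀ * h) • v = h • v := by rw [mul_smul, f.xM, h1, zero_smul, add_zero]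
    have h3 := e.Dnk h2
    rw [mul_smul, f.xK] at h3
    rcases z2 (κ (h • n)) with h4 | h4
    · exact h4
    · rw [h4, one_smul] at h3
      exact absurd (by simpa using h3) e.n0
  · rw [h1]
    have := κ_one d e hx₀ f (g := 1) (k := h) (by simpa using h1)
    simpa using this

/-- the functions on `K` whose restriction to the `n_u` is linear in `u` -/
def Lin (H : Type*) {M K : Type*} [Group H] [AddCommGroup M] [Module (ZMod 2) M] [DistribMulAction H M]
    [AddCommGroup K] [DistribMulAction H K] (v : M) (n : K) : AddSubgroup (K → ZMod 2) where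
  carrier := {β | ∃ ψ : Dual (ZMod 2) M, ∀ g : H, β (g • n) = ψ (g • v)}
  zero_mem' := ⟨0, fun _ => rfl⟩
  add_mem' := by
    rintro a b ⟨ψ, h⟩ ⟨ψ', h'⟩
    exact ⟨ψ + ψ', fun g => by rw [Pi.add_apply, h, h', LinearMap.add_apply]⟩
  neg_mem' := by
    rintro a ⟨ψ, h⟩
    exact ⟨-ψ, fun g => by rw [Pi.neg_apply, h, LinearMap.neg_apply]⟩

omit [Module (ZMod 2) K] [Finite H] [Finite M] d e hx₀ f in
theorem Lin.comp {β : K → ZMod 2} (h : β ∈ Lin H v n) (g : H) : (fun q => β (g • q)) ∈ Lin H v n := by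
  obtain ⟨ψ, h⟩ := h
  refine ⟨ψ.comp (lact g), fun k => ?_⟩
  change β (g • k • n) = _
  rw [LinearMap.comp_apply, lact_apply, ← mul_smul, ← mul_smul]
  exact h (g * k)

/-- the stabiliser of the coset `α + Lin` -/
def R₀ (v : M) (n : K) (α : K →+ ZMod 2) : Subgroup H where
  carrier := {r | (fun q => α (r • q) + α q) ∈ Lin H v n}
  one_mem' := by
    change (fun q => α ((1 : H) • q) + α q) ∈ Lin H v n
    have : (fun q => α ((1 : H) • q) + α q) = 0 := by
      funext q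
      rw [one_smul, CharTwo.add_self_eq_zero]
      rfl
    rw [this]
    exact zero_mem _
  mul_mem' := by
    intro a b ha hb
    change (fun q => α ((a * b) • q) + α q) ∈ Lin H v n
    have : (fun q => α ((a * b) • q) + α q)
        = (fun q => (fun q => α (a • q) + α q) (b • q)) + fun q => α (b • q) + α q := by
      funext q
      simp only [Pi.add_apply, mul_smul]
      have := CharTwo.add_self_eq_zero (α (b • q))
      calc α (a • b • q) + α q = α (a • b • q) + (α (b • q) + α (b • q)) + α q := by rw [this, add_zero]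
        _ = _ := by ring
    rw [this]
    have h1 := Lin.comp (β := fun q => α (a • q) + α q) ha b
    exact add_mem h1 hb
  inv_mem' := by
    intro a ha
    change (fun q => α (a⁻¹ • q) + α q) ∈ Lin H v n
    have : (fun q => α (a⁻¹ • q) + α q) = fun q => (fun q => α (a • q) + α q) (a⁻¹ • q) := by
      funext q
      simp only [smul_inv_smul]
      exact add_comm _ _
    rw [this]
    exact Lin.comp (β := fun q => α (a • q) + α q) ha a⁻¹

omit [Module (ZMod 2) K] [Finite H] [Finite M] d e hx₀ f in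
theorem mem_R₀ {r : H} : r ∈ R₀ v n α ↔ (fun q => α (r • q) + α q) ∈ Lin H v n := Iff.rfl

/-- **(e)** -/
theorem false_core : False := by
  classical
  -- `T` and the transvections lie in `R₀`
  have hT : T ≤ R₀ v n α := by
    intro t ht
    rw [mem_R₀]
    have : (fun q => α (t • q) + α q) = 0 := by
      funext q
      rw [e.αT t ht, CharTwo.add_self_eq_zero]
      rfl
    rw [this]
    exact zero_mem _
  have hX : ∀ g : H, g * x₀ * g⁻¹ ∈ R₀ v n α := by
    intro g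
    rw [mem_R₀]
    refine ⟨(α (g • n)) • φ₀.comp (lact g⁻¹), fun k => ?_⟩
    change α ((g * x₀ * g⁻¹) • k • n) + α (k • n) = _
    rw [f.conjK, map_add, LinearMap.smul_apply, LinearMap.comp_apply, lact_apply, smul_eq_mul]
    have h1 : κ (g⁻¹ • k • n) = φ₀ (g⁻¹ • k • v) := by
      rw [← mul_smul, ← mul_smul]
      exact κ_eq d e hx₀ f _
    rw [h1]
    rcases z2 (φ₀ (g⁻¹ • k • v)) with h | h
    · rw [h, zero_smul, map_zero, add_zero, CharTwo.add_self_eq_zero, mul_zero]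
    · rw [h, one_smul, mul_one]
      have := CharTwo.add_self_eq_zero (α (k • n))
      calc α (k • n) + α (g • n) + α (k • n) = α (g • n) + (α (k • n) + α (k • n)) := by ring
        _ = _ := by rw [this, add_zero]
  -- the orbit of `α`
  let R : Subgroup H := R₀ v n α
  have hodd : ¬ 2 ∣ T.relIndex R := fun h => e.idx (h.trans (Subgroup.relIndex_dvd_index_of_le hT))
  let act : MulAction R (K → ZMod 2) := arrowAction
  have hact : ∀ (r : R) (β : K → ZMod 2) (q : K), (r • β) q = β (((r⁻¹ : R) : H) • q) := fun _ _ _ => rfl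
  let α' : K → ZMod 2 := fun q => α q
  let O : Set (K → ZMod 2) := MulAction.orbit R α'
  have hOcard : ¬ 2 ∣ O.ncard := by
    rw [← MulAction.index_stabilizer]
    intro h
    apply hodd
    refine h.trans ?_
    refine Subgroup.index_dvd_of_le ?_
    intro t ht
    rw [MulAction.mem_stabilizer_iff]
    funext q
    rw [hact]
    exact e.αT _ (by
      have : ((t⁻¹ : R) : H) ∈ T := by
        rw [Subgroup.mem_subgroupOf] at ht
        rw [Subgroup.coe_inv]
        exact inv_mem ht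
      exact this) q
  have hOfin : O.Finite := Set.finite_range _
  let S : Finset (K → ZMod 2) := hOfin.toFinset
  have hS : ∀ β, β ∈ S ↔ β ∈ O := fun β => hOfin.mem_toFinset
  have hScard : ¬ 2 ∣ S.card := by
    rwa [← Set.ncard_eq_toFinset_card O hOfin]
  let A : K → ZMod 2 := ∑ β ∈ S, β
  -- (1) `A` is `R`-invariant
  have hA1 : ∀ r ∈ R, ∀ q, A (r • q) = A q := by
    intro r hr q
    change (∑ β ∈ S, β) (r • q) = (∑ β ∈ S, β) q
    rw [Finset.sum_apply, Finset.sum_apply]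
    refine Finset.sum_bij (fun β _ => (⟨r, hr⟩⁻¹ : R) • β) ?_ ?_ ?_ ?_
    · intro β hβ
      rw [hS] at hβ ⊢
      exact MulAction.mem_orbit_of_mem_orbit _ hβ
    · intro a _ b _ h
      exact smul_left_cancel _ h
    · intro b hb
      refine ⟨(⟨r, hr⟩ : R) • b, ?_, by rw [inv_smul_smul]⟩
      rw [hS] at hb ⊢
      exact MulAction.mem_orbit_of_mem_orbit _ hb
    · intro β _
      rw [hact]
      rw [inv_inv]
  -- (2) `A` is additive
  have hA2 : ∀ a b, A (a + b) = A a + A b := by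
    intro a b
    change (∑ β ∈ S, β) (a + b) = (∑ β ∈ S, β) a + (∑ β ∈ S, β) b
    rw [Finset.sum_apply, Finset.sum_apply, Finset.sum_apply, ← Finset.sum_add_distrib]
    refine Finset.sum_congr rfl (fun β hβ => ?_)
    rw [hS] at hβ
    obtain ⟨r, rfl⟩ := hβ
    change α _ = α _ + α _
    rw [smul_add, map_add]
  -- (3) `A + α ∈ Lin`
  have hA3 : A + α' ∈ Lin H v n := by
    have h1 : A + α' = ∑ β ∈ S, (β + α') := by
      rw [Finset.sum_add_distrib, Finset.sum_const]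
      congr 1
      obtain ⟨m, hm⟩ : ∃ m, S.card = 2 * m + 1 := by
        rcases Nat.even_or_odd' S.card with ⟨m, h | h⟩
        · exact absurd ⟨m, h⟩ hScard
        · exact ⟨m, h⟩
      rw [hm, add_nsmul, one_nsmul, mul_comm, mul_nsmul]
      funext q
      simp only [Pi.add_apply, two_nsmul, CharTwo.add_self_eq_zero, Pi.zero_apply, zero_add]
    rw [h1]
    refine AddSubgroup.sum_mem _ (fun β hβ => ?_)
    rw [hS] at hβ
    obtain ⟨r, rfl⟩ := hβ
    exact (r⁻¹).2
  -- (4) `A` kills all `n_u`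
  have hA4 : ∀ g : H, A (g • n) = 0 := by
    intro g
    obtain ⟨w, hw⟩ : ∃ w : H, φ₀ (w • v) = 1 := by
      by_contra hno
      push Not at hno
      apply f.φ0
      refine d.ext_orbit ?_
      rintro _ ⟨g, rfl⟩
      exact (z2 _).resolve_right (hno g)
    have h2 := hA1 _ (hX g) ((g * w) • n)
    rw [f.conjK, ← mul_smul g⁻¹, inv_mul_cancel_left, κ_eq d e hx₀ f w, hw, one_smul, hA2] at h2
    simpa using h2
  obtain ⟨ψ, hψ⟩ := hA3
  have hα : ∀ g : H, α (g • n) = ψ (g • v) := by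
    intro g
    rw [← hψ g, Pi.add_apply, hA4, zero_add]
  have h0 : ψ = 0 := by
    refine d.fixTL f.ph f.φ0 ?_ ?_
    · intro t ht m
      have : ψ.comp (lact t) = ψ := d.ext_orbit' (by
        rintro _ ⟨g, rfl⟩
        change ψ (t • g • v) = ψ (g • v)
        rw [← mul_smul, ← hα, ← hα, mul_smul, e.αT t ht])
      exact LinearMap.congr_fun this m
    · intro t ht m
      have : ψ.comp (lact t) = ψ := d.ext_orbit' (by
        rintro _ ⟨g, rfl⟩
        change ψ (t • g • v) = ψ (g • v)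
        rw [← mul_smul, ← hα, ← hα, mul_smul, e.αL t ht])
      exact LinearMap.congr_fun this m
  obtain ⟨h, h1⟩ := e.αne
  apply h1
  rw [hα, h0, LinearMap.zero_apply]

end Dat2

/-- **(5)** of helper609's TEXT R4: the two halves of the data contradict each other. -/
theorem Dat.false {H M K : Type*} [Group H] [AddCommGroup M] [DistribMulAction H M] [Finite H] [Finite M]
    [AddCommGroup K] [DistribMulAction H K] {v : M} {V : AddSubgroup M} {n : K} {T L X : Subgroup H}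
    {α : K →+ ZMod 2} (hM : ∀ m : M, m + m = 0) (hK : ∀ q : K, q + q = 0) (d : Dat v V T L)
    (e : Dat2 v n T L X α) : False := by
  let : Module (ZMod 2) M := AddCommGroup.zmodModule (n := 2) (fun m => by rw [two_nsmul, hM])
  let : Module (ZMod 2) K := AddCommGroup.zmodModule (n := 2) (fun q => by rw [two_nsmul, hK])
  obtain ⟨x₀, hx₀, φ₀, κ, f⟩ := e.exists_fr d.v0
  exact Dat2.false_core d e hx₀ f

/-- **(b)**: two elements of `H` inducing transvections with centre `v` act equally. -/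
theorem Dat.two_eq {H M : Type*} [Group H] [AddCommGroup M] [DistribMulAction H M] [Finite H] [Finite M]
    {v : M} {V : AddSubgroup M} {T L : Subgroup H} (hM : ∀ m : M, m + m = 0) (d : Dat v V T L) {x y : H}
    (hx : ∀ m : M, x • m = m ∨ x • m = m + v) (hy : ∀ m : M, y • m = m ∨ y • m = m + v)
    (hx0 : ∃ m : M, x • m ≠ m) (hy0 : ∃ m : M, y • m ≠ m) (m : M) : x • m = y • m := by
  let : Module (ZMod 2) M := AddCommGroup.zmodModule (n := 2) (fun m => by rw [two_nsmul, hM])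
  exact d.two hx hy hx0 hy0 m

end Cfsg.Agent.Omega.OM.PG.DOne

end

section


/-!
# NO-3S, case (E), distance 1, `[N_0, N_1] ≤ Z_0Z_1`, `|N_0 : C(N_1)| = q`: group level facts

`TQ0 Z U` : `PG.PP` with TI, fusion in `Z_0Z_1` ((0.2)), `1 ≠ [N_0,N_1] ≤ Z_0Z_1`, the lines; `TQ Z U` : the index
is `q = |Z_0|` (this follows from `TQ0`: `TIdx.lean`).

* `TQ.cen_one` : `w ~ a` not centralised by `N_u`: `C_w(N_u) = 1`; `TQ.dec` : `N_a = w C_{N_a}(N_u)`;
* `TQ.nonsing` : `[n, t] ∉ a` for `n ∈ N_a - C(N_u)`, `t ∈ N_u - C(N_a)`; `TQ.sur`;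
* `TQ.perp_symm` : `[w, N_u] = 1` implies `[u, N_w] = 1`.
-/

set_option autoImplicit false
set_option linter.unusedSectionVars false

namespace Cfsg.Agent.Omega.NO3S.EThree

open Subgroup Cfsg Cfsg.Agent.ZN Cfsg.Agent.Omega.MinPar
open Cfsg.Agent.Omega.NoFF.Basic (conj_conj mem_conj conj_le_iff conj_le_centralizer comm_symm comm_mono)
open Cfsg.Agent.Omega.NOThreeL.Pair (conj_eq_of_mem)
open Cfsg.Agent.Omega.OM.PG
open scoped Pointwise

universe u

variable {G : Type u} [Group G]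

/-- `PG.PP` with TI, fusion in `Z_0Z_1` ((0.2)), `1 ≠ [N_0,N_1] ≤ Z_0Z_1`, and the facts on the lines. -/
structure TQ0 (Z U : Fin 2 → Subgroup G) : Prop extends PP Z U where
  ti : ∀ a b, IsPt Z a → IsPt Z b → ∀ x ∈ a, x ∈ b → x ≠ 1 → a = b
  fus : ∀ a, IsPt Z a → ∀ x ∈ a, x ∈ Z 0 ⊔ Z 1 → x ≠ 1 → a = Z 0 ∨ a = Z 1
  self : NN Z (Z 0) ≤ centralizer (Z 0 : Set G)
  com : ∀ n ∈ NN Z (Z 0), ∀ t ∈ NN Z (Z 1), n * t * n⁻¹ * t⁻¹ ∈ Z 0 ⊔ Z 1
  nc : ¬ NN Z (Z 0) ≤ centralizer (NN Z (Z 1) : Set G)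
  pts : ∀ x ∈ U 0, x ≠ 1 → ∃ w, IsPt Z w ∧ w ≤ U 0 ∧ x ∈ w
  cardU : Nat.card (U 0) = Nat.card (Z 0) ^ 2
  UQ' : U 0 ≤ QQ (Z 0)

/-- The transvection case. -/
structure TQ (Z U : Fin 2 → Subgroup G) : Prop extends TQ0 Z U where
  idx : (centralizer (NN Z (Z 1) : Set G)).relIndex (NN Z (Z 0)) = Nat.card (Z 0)

theorem conj_sup' (k : G) (A B : Subgroup G) :
    MulAut.conj k • (A ⊔ B) = MulAut.conj k • A ⊔ MulAut.conj k • B := by
  rw [Subgroup.smul_sup]

theorem conj_centralizer (k : G) (A : Subgroup G) :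
    MulAut.conj k • centralizer (A : Set G) = centralizer ((MulAut.conj k • A : Subgroup G) : Set G) := by
  refine le_antisymm (conj_le_centralizer le_rfl) ?_
  have h1 : MulAut.conj k⁻¹ • centralizer ((MulAut.conj k • A : Subgroup G) : Set G) ≤ centralizer (A : Set G) := by
    have := conj_le_centralizer (g := k⁻¹) (A := centralizer ((MulAut.conj k • A : Subgroup G) : Set G))
      (B := MulAut.conj k • A) le_rfl
    rwa [inv_conj_conj] at this
  have h2 := conj_le_iff (g := k) |>.2 h1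
  rwa [conj_inv_conj] at h2

theorem relIndex_conj (k : G) (A B : Subgroup G) :
    (MulAut.conj k • A).relIndex (MulAut.conj k • B) = A.relIndex B := Subgroup.relIndex_pointwise_smul _ _ _

theorem mem_sup_of_comm {A B : Subgroup G} (h : B ≤ centralizer (A : Set G)) {g : G} (hg : g ∈ A ⊔ B) :
    ∃ α ∈ A, ∃ β ∈ B, g = α * β := by
  have h1 : g ∈ ((A ⊔ B : Subgroup G) : Set G) := hg
  rw [Subgroup.coe_mul_of_right_le_normalizer_left A B (h.trans (centralizer_le_normalizer _)), Set.mem_mul] at h1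
  obtain ⟨α, hα, β, hβ, e⟩ := h1
  exact ⟨α, hα, β, hβ, e.symm⟩

namespace TQ0

variable [Finite G] {Z U : Fin 2 → Subgroup G} (P : TQ0 Z U)
include P

theorem card_pt {a : Subgroup G} (h : IsPt Z a) : Nat.card a = Nat.card (Z 0) := by
  obtain ⟨k, rfl⟩ := h
  exact (Nat.card_congr (Subgroup.equivSMul (MulAut.conj k) (Z 0)).toEquiv).symm

theorem exists_ne {a : Subgroup G} (h : IsPt Z a) : ∃ x ∈ a, x ≠ 1 := by
  by_contra hcon
  push Not at hcon
  have h1 : a = ⊥ := (eq_bot_iff_forall _).2 hcon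
  have h2 := P.card_pt h
  rw [h1, card_bot] at h2
  exact P.ne (Subgroup.card_eq_one.1 h2.symm)

theorem fus' {a u w : Subgroup G} (h : Adj Z a u) (hw : IsPt Z w) {x : G} (hx : x ∈ w) (hx' : x ∈ a ⊔ u)
    (hx1 : x ≠ 1) : w = a ∨ w = u := by
  obtain ⟨k, rfl, rfl⟩ := h
  rw [← conj_sup', mem_conj] at hx'
  have h1 : k⁻¹ * x * k ∈ MulAut.conj k⁻¹ • w := by
    rw [mem_conj]
    have : k⁻¹⁻¹ * (k⁻¹ * x * k) * k⁻¹ = x := by group
    rwa [this]
  have h2 : k⁻¹ * x * k ≠ 1 := by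
    intro e
    apply hx1
    have : x = k * (k⁻¹ * x * k) * k⁻¹ := by group
    rw [this, e]; group
  rcases P.fus _ (hw.conj k⁻¹) _ h1 hx' h2 with h3 | h3
  · left; rw [← h3, conj_inv_conj]
  · right; rw [← h3, conj_inv_conj]

theorem self' {a : Subgroup G} (h : IsPt Z a) : NN Z a ≤ centralizer (a : Set G) := by
  obtain ⟨k, rfl⟩ := h
  rw [NN_conj]
  exact conj_le_centralizer P.self

theorem self_le {a : Subgroup G} (h : IsPt Z a) : a ≤ centralizer (NN Z a : Set G) := comm_symm (P.self' h)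

/-- `N_u` centralises `a ~ u`. -/
theorem NN_le_cent {a u : Subgroup G} (h : Adj Z a u) : NN Z u ≤ centralizer (a : Set G) :=
  (P.NN_le_QQ (P.adj_pt h)).trans (P.QQ_le_cent_of_adj h)

theorem com' {a u : Subgroup G} (h : Adj Z a u) {n t : G} (hn : n ∈ NN Z a) (ht : t ∈ NN Z u) :
    n * t * n⁻¹ * t⁻¹ ∈ a ⊔ u := by
  obtain ⟨k, rfl, rfl⟩ := h
  rw [NN_conj, mem_conj] at hn ht
  rw [← conj_sup', mem_conj]
  have := P.com _ hn _ ht
  have e : k⁻¹ * n * k * (k⁻¹ * t * k) * (k⁻¹ * n * k)⁻¹ * (k⁻¹ * t * k)⁻¹ = k⁻¹ * (n * t * n⁻¹ * t⁻¹) * k := by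
    group
  rwa [e] at this

theorem one_lt : 1 < Nat.card (Z 0) := by
  have h1 : Nat.card (Z 0) ≠ 1 := fun e => P.ne (Subgroup.card_eq_one.1 e)
  have h2 : 0 < Nat.card (Z 0) := Nat.card_pos
  omega

theorem not_com {a u : Subgroup G} (h : Adj Z a u) : ¬ NN Z a ≤ centralizer (NN Z u : Set G) := by
  intro h1
  obtain ⟨k, rfl, rfl⟩ := h
  apply P.nc
  rw [NN_conj, NN_conj, ← conj_centralizer] at h1
  exact conj_le_iff.1 h1

theorem adj_ne {a u : Subgroup G} (h : Adj Z a u) : a ≠ u := by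
  rintro rfl
  exact P.not_com h (P.NN_comm h.pt)

theorem pt_le_NN {a u : Subgroup G} (h : Adj Z a u) : u ≤ NN Z a := h.le_NN

/-- if `t` centralises an element `≠ 1` of the point `w` (or maps it into `w`), it normalises `w` -/
theorem norm_of {w : Subgroup G} (hw : IsPt Z w) {x t : G} (hx : x ∈ w) (hx1 : x ≠ 1) (h : t * x * t⁻¹ ∈ w) :
    MulAut.conj t • w = w := by
  refine P.ti _ _ (hw.conj t) hw (t * x * t⁻¹) ?_ h ?_
  · rw [mem_conj]
    have : t⁻¹ * (t * x * t⁻¹) * t = x := by group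
    rwa [this]
  · intro e
    exact hx1 (conj_eq_one_iff.1 e)

/-- `t ∈ N_u` normalising a point `w ~ a`, `w ≠ u`, centralises it -/
theorem cent_of_norm {a u w : Subgroup G} (h : Adj Z a u) (hw : Adj Z a w) (hwu : w ≠ u) {t : G}
    (ht : t ∈ NN Z u) (hn : MulAut.conj t • w = w) {y : G} (hy : y ∈ w) : y * t = t * y := by
  by_contra hne
  have h1 : t * y⁻¹ * t⁻¹ ∈ w := by
    rw [← hn, mem_conj]
    have : t⁻¹ * (t * y⁻¹ * t⁻¹) * t = y⁻¹ := by group
    rw [this]
    exact inv_mem hy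
  have h2 : y * t * y⁻¹ * t⁻¹ ∈ w := by
    have : y * t * y⁻¹ * t⁻¹ = y * (t * y⁻¹ * t⁻¹) := by group
    rw [this]
    exact mul_mem hy h1
  have h3 : y * t * y⁻¹ * t⁻¹ ≠ 1 := by
    intro e
    apply hne
    have : y * t = y * t * y⁻¹ * t⁻¹ * (t * y) := by group
    rw [this, e, one_mul]
  rcases P.fus' h (P.adj_pt hw) h2 (P.com' h (hw.le_NN hy) ht) h3 with e | e
  · exact P.adj_ne hw e.symm
  · exact hwu e

theorem ne_of_moved {u w : Subgroup G} (hu : IsPt Z u) (hw : ¬ w ≤ centralizer (NN Z u : Set G)) : w ≠ u := by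
  rintro rfl
  exact hw (P.self_le hu)

/-- `w ~ a` not centralised by `N_u`: `C_w(N_u) = 1` -/
theorem cen_one {a u w : Subgroup G} (h : Adj Z a u) (hw : Adj Z a w) (hwu : ¬ w ≤ centralizer (NN Z u : Set G))
    {x : G} (hx : x ∈ w) (hxc : x ∈ centralizer (NN Z u : Set G)) : x = 1 := by
  by_contra hx1
  apply hwu
  intro y hy
  refine mem_centralizer_iff.2 fun t ht => ?_
  have h1 : MulAut.conj t • w = w := by
    refine P.norm_of (P.adj_pt hw) hx hx1 ?_
    have := mem_centralizer_iff.1 hxc t ht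
    rwa [this, mul_inv_cancel_right]
  exact (P.cent_of_norm h hw (P.ne_of_moved (P.adj_pt h) hwu) ht h1 hy).symm

theorem exists_moved {a u : Subgroup G} (h : Adj Z a u) : ∃ w, Adj Z a w ∧ ¬ w ≤ centralizer (NN Z u : Set G) := by
  by_contra hcon
  push Not at hcon
  exact P.not_com h (sSup_le fun w hw => hcon w hw)

theorem mem_au {a u : Subgroup G} (h : Adj Z a u) {g : G} (hg : g ∈ a ⊔ u) : ∃ α ∈ a, ∃ υ ∈ u, g = α * υ :=
  mem_sup_of_comm (h.le_NN.trans (P.self' h.pt)) hg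

theorem comm_cent {a u : Subgroup G} (h : Adj Z a u) : a ⊔ u ≤ centralizer (NN Z u : Set G) :=
  sup_le (comm_symm (P.NN_le_cent h)) (P.self_le (P.adj_pt h))

/-- elements of `N_u` normalise `N_a` -/
theorem conj_NN {a u : Subgroup G} (h : Adj Z a u) {t : G} (ht : t ∈ NN Z u) : MulAut.conj t • NN Z a = NN Z a := by
  rw [← NN_conj]
  congr 1
  exact conj_eq_of_mem (centralizer_le_normalizer _ (P.NN_le_cent h ht))

theorem conj_pt {a u : Subgroup G} (h : Adj Z a u) {t : G} (ht : t ∈ NN Z u) : MulAut.conj t • a = a :=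
  conj_eq_of_mem (centralizer_le_normalizer _ (P.NN_le_cent h ht))

theorem abN {a : Subgroup G} (h : IsPt Z a) {x y : G} (hx : x ∈ NN Z a) (hy : y ∈ NN Z a) : x * y = y * x :=
  (mem_centralizer_iff.1 (P.NN_comm h hx) y hy).symm

/-- `a` commutes with `N_a` -/
theorem aN {a : Subgroup G} (h : IsPt Z a) {x y : G} (hx : x ∈ a) (hy : y ∈ NN Z a) : x * y = y * x :=
  mem_centralizer_iff.1 (P.self' h hy) x hx

theorem sqN {a : Subgroup G} (h : IsPt Z a) {x y : G} (hx : x ∈ a) (hy : y ∈ a) : x * y = y * x := by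
  obtain ⟨k, rfl⟩ := h
  rw [mem_conj] at hx hy
  have h0 : ∀ x ∈ Z 0, x * x = 1 := fun x hx => by rw [← sq, P.sq x hx]
  have key : ∀ x ∈ Z 0, ∀ y ∈ Z 0, x * y = y * x := by
    intro x hx y hy
    have h1 := h0 _ (mul_mem hx hy)
    have h2 : x⁻¹ = x := inv_eq_of_mul_eq_one_left (h0 x hx)
    have h3 : y⁻¹ = y := inv_eq_of_mul_eq_one_left (h0 y hy)
    calc x * y = (x * y)⁻¹ := (inv_eq_of_mul_eq_one_left h1).symm
      _ = y⁻¹ * x⁻¹ := mul_inv_rev _ _
      _ = y * x := by rw [h2, h3]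
  have := key _ hx _ hy
  have e1 : x * y = k * (k⁻¹ * x * k * (k⁻¹ * y * k)) * k⁻¹ := by group
  have e2 : y * x = k * (k⁻¹ * y * k * (k⁻¹ * x * k)) * k⁻¹ := by group
  rw [e1, this, e2]

end TQ0

namespace TQ

variable [Finite G] {Z U : Fin 2 → Subgroup G} (P : TQ Z U)
include P

theorem idx' {a u : Subgroup G} (h : Adj Z a u) :
    (centralizer (NN Z u : Set G)).relIndex (NN Z a) = Nat.card (Z 0) := by
  obtain ⟨k, rfl, rfl⟩ := h
  rw [NN_conj, NN_conj, ← conj_centralizer, relIndex_conj]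
  exact P.idx

/-- `N_a = w C_{N_a}(N_u)` -/
theorem dec {a u w : Subgroup G} (h : Adj Z a u) (hw : Adj Z a w) (hwu : ¬ w ≤ centralizer (NN Z u : Set G))
    {n : G} (hn : n ∈ NN Z a) : ∃ x ∈ w, x⁻¹ * n ∈ centralizer (NN Z u : Set G) := by
  let C : Subgroup G := centralizer (NN Z u : Set G)
  let f : w → NN Z a ⧸ C.subgroupOf (NN Z a) := fun y => (⟨y, hw.le_NN y.2⟩ : NN Z a)
  have hf : Function.Injective f := by
    intro y z hyz
    have h1 : (⟨y, hw.le_NN y.2⟩ : NN Z a)⁻¹ * ⟨z, hw.le_NN z.2⟩ ∈ C.subgroupOf (NN Z a) := QuotientGroup.eq.1 hyz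
    have h2 : (y : G)⁻¹ * z ∈ C := h1
    have h3 := P.cen_one h hw hwu (mul_mem (inv_mem y.2) z.2) h2
    exact Subtype.ext (inv_mul_eq_one.1 h3)
  have hc : Nat.card (NN Z a ⧸ C.subgroupOf (NN Z a)) ≤ Nat.card w := by
    rw [P.card_pt (P.adj_pt hw), ← P.idx' h]
    exact le_rfl
  obtain ⟨y, hy⟩ := (hf.bijective_of_nat_card_le hc).2 (⟨n, hn⟩ : NN Z a)
  have h1 : (⟨y, hw.le_NN y.2⟩ : NN Z a)⁻¹ * ⟨n, hn⟩ ∈ C.subgroupOf (NN Z a) := QuotientGroup.eq.1 hy
  exact ⟨y, y.2, h1⟩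

/-- **nonsingularity** -/
theorem nonsing {a u : Subgroup G} (h : Adj Z a u) {n t : G} (hn : n ∈ NN Z a)
    (hnc : n ∉ centralizer (NN Z u : Set G)) (ht : t ∈ NN Z u) (htc : t ∉ centralizer (NN Z a : Set G)) :
    n * t * n⁻¹ * t⁻¹ ∉ a := by
  intro hα
  have hsym := P.adj_symm h
  obtain ⟨w, hw, hwu⟩ := P.exists_moved h
  obtain ⟨x, hx, hc⟩ := P.dec h hw hwu hn
  have hx1 : x ≠ 1 := by
    rintro rfl
    rw [inv_one, one_mul] at hc
    exact hnc hc
  set c : G := x⁻¹ * n with hcdef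
  have hnx : n = x * c := by rw [hcdef]; group
  have hct : t * c = c * t := mem_centralizer_iff.1 hc t ht
  have e1 : n * t * n⁻¹ * t⁻¹ = x * t * x⁻¹ * t⁻¹ := by
    rw [hnx]
    calc x * c * t * (x * c)⁻¹ * t⁻¹ = x * (c * t) * c⁻¹ * x⁻¹ * t⁻¹ := by group
      _ = x * (t * c) * c⁻¹ * x⁻¹ * t⁻¹ := by rw [hct]
      _ = x * t * x⁻¹ * t⁻¹ := by group
  rw [e1] at hα
  -- `t` normalises `w`
  have h2 : MulAut.conj t • w = w := by
    have h3 : t * x * t⁻¹ ∈ MulAut.conj t • w := by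
      rw [mem_conj]
      have : t⁻¹ * (t * x * t⁻¹) * t = x := by group
      rwa [this]
    have h4 : t * x * t⁻¹ ∈ a ⊔ w := by
      have : t * x * t⁻¹ = (x * t * x⁻¹ * t⁻¹)⁻¹ * x := by group
      rw [this]
      exact mul_mem (inv_mem (mem_sup_left hα)) (mem_sup_right hx)
    rcases P.fus' hw ((P.adj_pt hw).conj t) h3 h4 (fun e => hx1 (conj_eq_one_iff.1 e)) with e | e
    · exfalso
      have h5 : MulAut.conj t • a = a := by
        refine conj_eq_of_mem (centralizer_le_normalizer _ (P.NN_le_cent h ht))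
      have h6 : w = a := by
        have := congrArg (fun A => MulAut.conj t⁻¹ • A) (e.trans h5.symm)
        simpa only [inv_conj_conj] using this
      exact P.adj_ne hw h6.symm
    · exact e
  have hwt : ∀ y ∈ w, y * t = t * y := fun y hy => P.cent_of_norm h hw (P.ne_of_moved (P.adj_pt h) hwu) ht h2 hy
  -- the other side
  obtain ⟨y, hy, hya⟩ := P.exists_moved hsym
  obtain ⟨y', hy', hc'⟩ := P.dec hsym hy hya ht
  have hy1 : y' ≠ 1 := by
    rintro rfl
    rw [inv_one, one_mul] at hc'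
    exact htc hc'
  have hxa : x ∈ NN Z a := hw.le_NN hx
  have h3 : x * y' = y' * x := by
    have e2 : x * (y'⁻¹ * t) = y'⁻¹ * t * x := mem_centralizer_iff.1 hc' x hxa
    have e3 : y' = t * (y'⁻¹ * t)⁻¹ := by group
    rw [e3]
    calc x * (t * (y'⁻¹ * t)⁻¹) = (x * t) * (y'⁻¹ * t)⁻¹ := by group
      _ = (t * x) * (y'⁻¹ * t)⁻¹ := by rw [hwt x hx]
      _ = t * ((y'⁻¹ * t)⁻¹ * (y'⁻¹ * t * x) * (y'⁻¹ * t)⁻¹) := by group
      _ = t * ((y'⁻¹ * t)⁻¹ * (x * (y'⁻¹ * t)) * (y'⁻¹ * t)⁻¹) := by rw [e2]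
      _ = t * (y'⁻¹ * t)⁻¹ * x := by group
  have h4 : MulAut.conj x • y = y := by
    refine P.norm_of (P.adj_pt hy) hy' hy1 ?_
    rwa [h3, mul_inv_cancel_right]
  have h5 : ∀ z ∈ y, z * x = x * z := fun z hz =>
    P.cent_of_norm hsym hy (P.ne_of_moved h.pt hya) hxa h4 hz
  refine hx1 (P.cen_one h hw hwu hx (mem_centralizer_iff.2 fun t' ht' => ?_))
  obtain ⟨z, hz, hc''⟩ := P.dec hsym hy hya ht'
  have e4 : x * (z⁻¹ * t') = z⁻¹ * t' * x := mem_centralizer_iff.1 hc'' x hxa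
  have e5 : t' = z * (z⁻¹ * t') := by group
  rw [e5]
  calc z * (z⁻¹ * t') * x = z * (z⁻¹ * t' * x) := by group
    _ = z * (x * (z⁻¹ * t')) := by rw [e4]
    _ = z * x * (z⁻¹ * t') := by group
    _ = x * z * (z⁻¹ * t') := by rw [h5 z hz]
    _ = x * (z * (z⁻¹ * t')) := by group

/-- `[n, N_u] ≤ a` implies `[n, N_u] = 1`. -/
theorem lift {a u : Subgroup G} (h : Adj Z a u) {n : G} (hn : n ∈ NN Z a)
    (hc : ∀ t ∈ NN Z u, n * t * n⁻¹ * t⁻¹ ∈ a) : n ∈ centralizer (NN Z u : Set G) := by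
  by_contra hnc
  obtain ⟨t, ht, htc⟩ := SetLike.not_le_iff_exists.1 (P.not_com (P.adj_symm h))
  exact P.nonsing h hn hnc ht htc (hc t ht)

/-- `t ∈ N_u` centralising an element of `N_a - C(N_u)` modulo `a` centralises `N_a` -/
theorem lift' {a u : Subgroup G} (h : Adj Z a u) {n t : G} (hn : n ∈ NN Z a)
    (hnc : n ∉ centralizer (NN Z u : Set G)) (ht : t ∈ NN Z u) (hc : n * t * n⁻¹ * t⁻¹ ∈ a) :
    t ∈ centralizer (NN Z a : Set G) := by
  by_contra htc
  exact P.nonsing h hn hnc ht htc hc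

/-- **symmetry of perpendicularity** -/
theorem perp_symm {a u w : Subgroup G} (h : Adj Z a u) (hw : Adj Z a w) (hwu : w ≤ centralizer (NN Z u : Set G)) :
    u ≤ centralizer (NN Z w : Set G) := by
  by_contra huw
  -- `N_u` normalises `N_w`; `[N_u, N_w]` centralises `N_a`
  have hNw : ∀ t ∈ NN Z u, MulAut.conj t • NN Z w = NN Z w := by
    intro t ht
    rw [← NN_conj]
    congr 1
    exact conj_eq_of_mem (centralizer_le_normalizer _ (comm_symm hwu ht))
  -- so `N_u` centralises `N_a` modulo `a`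
  apply P.not_com h
  intro n hn
  obtain ⟨x, hx, hc⟩ := P.dec hw h huw hn
  have h1 : x⁻¹ * n ∈ centralizer (NN Z u : Set G) := by
    refine P.lift h (mul_mem (inv_mem (h.le_NN hx)) hn) fun t ht => ?_
    set c : G := x⁻¹ * n with hcd
    have hcN : c ∈ NN Z a := mul_mem (inv_mem (h.le_NN hx)) hn
    have h2 : c * t * c⁻¹ * t⁻¹ ∈ a ⊔ u := P.com' h hcN ht
    obtain ⟨α, hα, υ, hυ, e⟩ := P.mem_au h h2
    have h3 : c * t * c⁻¹ * t⁻¹ ∈ centralizer (NN Z w : Set G) := by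
      have h4 : t * c⁻¹ * t⁻¹ ∈ centralizer (NN Z w : Set G) := by
        have h5 : MulAut.conj t • centralizer (NN Z w : Set G) = centralizer (NN Z w : Set G) := by
          rw [conj_centralizer, hNw t ht]
        rw [← h5, mem_conj]
        have : t⁻¹ * (t * c⁻¹ * t⁻¹) * t = c⁻¹ := by group
        rw [this]
        exact inv_mem hc
      have e2 : c * t * c⁻¹ * t⁻¹ = c * (t * c⁻¹ * t⁻¹) := by group
      rw [e2]
      exact mul_mem hc h4
    have h6 : α ∈ centralizer (NN Z w : Set G) := comm_symm (P.NN_le_cent hw) hα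
    have h7 : υ ∈ centralizer (NN Z w : Set G) := by
      have : υ = α⁻¹ * (c * t * c⁻¹ * t⁻¹) := by rw [e]; group
      rw [this]
      exact mul_mem (inv_mem h6) h3
    have h8 := P.cen_one hw h huw hυ h7
    rw [e, h8, mul_one]
    exact hα
  have h2 : x ∈ centralizer (NN Z u : Set G) := P.self_le (P.adj_pt h) hx
  have := mul_mem h2 h1
  rwa [mul_inv_cancel_left] at this

/-- **surjectivity** -/
theorem sur {a u : Subgroup G} (h : Adj Z a u) {n v : G} (hn : n ∈ NN Z a)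
    (hnc : n ∉ centralizer (NN Z u : Set G)) (hv : v ∈ u) :
    ∃ t ∈ NN Z u, ∃ α ∈ a, t * n * t⁻¹ = n * v * α := by
  classical
  have hsym := P.adj_symm h
  have hex : ∀ t : NN Z u, ∃ υ : u, ∃ α ∈ a, n * t * n⁻¹ * (t : G)⁻¹ = α * υ := by
    intro t
    obtain ⟨α, hα, υ, hυ, e⟩ := P.mem_au h (P.com' h hn t.2)
    exact ⟨⟨υ, hυ⟩, α, hα, e⟩
  choose f hf using hex
  let C : Subgroup G := centralizer (NN Z a : Set G)
  let g : (NN Z u ⧸ C.subgroupOf (NN Z u)) → u := fun x => f x.out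
  have hg : Function.Injective g := by
    intro x y hxy
    have h1 : f x.out = f y.out := hxy
    obtain ⟨α, hα, e1⟩ := hf x.out
    obtain ⟨β, hβ, e2⟩ := hf y.out
    rw [← h1] at e2
    set υ : G := (f x.out : G) with hυ
    have hυu : υ ∈ u := (f x.out).2
    have hυα : ∀ γ ∈ a, γ * υ = υ * γ := fun γ hγ => P.aN h.pt hγ (h.le_NN hυu)
    have hαt : ∀ γ ∈ a, ∀ t ∈ NN Z u, γ * t = t * γ := fun γ hγ t ht =>
      mem_centralizer_iff.1 (P.NN_le_cent h ht) γ hγ
    have e3 : n * (x.out : G) * n⁻¹ = α * υ * x.out := by rw [← e1]; group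
    have e4 : n * (y.out : G) * n⁻¹ = β * υ * y.out := by rw [← e2]; group
    have hmem : ((x.out : G))⁻¹ * y.out ∈ NN Z u := mul_mem (inv_mem x.out.2) y.out.2
    have e5 : n * ((x.out : G)⁻¹ * y.out) * n⁻¹ * ((x.out : G)⁻¹ * y.out)⁻¹ ∈ a := by
      have e6 : n * ((x.out : G)⁻¹ * y.out) * n⁻¹ = α⁻¹ * β * ((x.out : G)⁻¹ * y.out) := by
        calc n * ((x.out : G)⁻¹ * y.out) * n⁻¹ = (n * (x.out : G) * n⁻¹)⁻¹ * (n * (y.out : G) * n⁻¹) := by group
          _ = (α * υ * x.out)⁻¹ * (β * υ * y.out) := by rw [e3, e4]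
          _ = (x.out : G)⁻¹ * υ⁻¹ * (α⁻¹ * β * υ) * y.out := by group
          _ = (x.out : G)⁻¹ * υ⁻¹ * (υ * (α⁻¹ * β)) * y.out := by
              rw [hυα _ (mul_mem (inv_mem hα) hβ)]
          _ = (x.out : G)⁻¹ * (α⁻¹ * β) * y.out := by group
          _ = α⁻¹ * β * (x.out : G)⁻¹ * y.out := by
              rw [hαt _ (mul_mem (inv_mem hα) hβ) _ (inv_mem x.out.2)]
          _ = α⁻¹ * β * ((x.out : G)⁻¹ * y.out) := by group
      rw [e6, mul_inv_cancel_right]
      exact mul_mem (inv_mem hα) hβ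
    have h2 : ((x.out : G))⁻¹ * y.out ∈ C := P.lift' h hn hnc hmem e5
    have h3 : (x.out)⁻¹ * y.out ∈ C.subgroupOf (NN Z u) := h2
    have h4 : ((x.out : NN Z u) : NN Z u ⧸ C.subgroupOf (NN Z u)) = (y.out : NN Z u) := QuotientGroup.eq.2 h3
    rwa [QuotientGroup.out_eq', QuotientGroup.out_eq'] at h4
  have hc : Nat.card u ≤ Nat.card (NN Z u ⧸ C.subgroupOf (NN Z u)) := by
    rw [P.card_pt (P.adj_pt h), ← P.idx' hsym]
    exact le_rfl
  obtain ⟨x, hx⟩ := (hg.bijective_of_nat_card_le hc).2 (⟨v⁻¹, inv_mem hv⟩ : u)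
  obtain ⟨α, hα, e⟩ := hf x.out
  have hx' : (f x.out : G) = v⁻¹ := congrArg Subtype.val hx
  rw [hx'] at e
  refine ⟨x.out, x.out.2, α⁻¹, inv_mem hα, ?_⟩
  have e1 : (x.out : G) * n * (x.out : G)⁻¹ = (n⁻¹ * (n * x.out * n⁻¹ * (x.out : G)⁻¹))⁻¹ := by group
  have e2 : v * n = n * v := P.abN h.pt (h.le_NN hv) hn
  have e3 : α⁻¹ * n = n * α⁻¹ := P.aN h.pt (inv_mem hα) hn
  have e4 : α⁻¹ * v = v * α⁻¹ := P.aN h.pt (inv_mem hα) (h.le_NN hv)
  rw [e1, e]
  calc (n⁻¹ * (α * v⁻¹))⁻¹ = v * (α⁻¹ * n) := by group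
    _ = v * n * α⁻¹ := by rw [e3]; group
    _ = n * v * α⁻¹ := by rw [e2]

end TQ

end Cfsg.Agent.Omega.NO3S.EThree

end

section


/-!
# (E): no canonical vectors (helper381, THEOREM N #23328), the abstract end: (2) - (5)

`NV E b l Np Zc W B S T C K X0 L' q` : the data of `(0)`, `(1)` (everything inside one group `G`):

* `b = Z_i`, `l = V_i`, `Np = N_b Z^j`, `Zc = Z^j` (`k = 2`: `Np = N_b`, `Zc = b`), `C = C_b`, `T` Sylow in `C`,
  `S = C_B(l)`, `W = X'_b` elementary abelian, `L' = L_j`; `E = N_G(l)` (`k = 2`);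
* `X0` : the canonical complement (`b ≤ X0 ≤ l Np`, `X0 ∩ Np = b`, `X0 Np = l Np`);
* `K` : normal in `C`, `[W, K] ≤ Np` on `l`; `mv` : `n^s ∈ n y Np` for `s ∈ K ∩ N(l)`, `n = n_y(v)`, `y ≠ b`.

`NV.false : NV … → False`.
-/

set_option autoImplicit false
set_option linter.unusedSectionVars false

namespace Cfsg.Agent.Omega.TCQ.R.ThN

open Subgroup Cfsg Cfsg.Agent.ZN
open Cfsg.Agent.ZN.ChoiceSit (Syl)

universe u

variable {G : Type u} [Group G]

/-- The data of THEOREM N after (0) and (1). -/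
structure NV (E b l Np Zc W B S T C K X0 L' : Subgroup G) (q : ℕ) : Prop where
  -- the point `b`, the line `l`
  q2 : 2 ≤ q
  cb : Nat.card b = q
  cl : Nat.card l = q ^ 2
  bl : b ≤ l
  bN : b ≤ Np
  lN : ∀ x ∈ l, x ∈ Np → x ∈ b
  -- `E` acts on `l` and its points (`E = N_G(l)` for `k = 2`)
  El : E ≤ normalizer (l : Set G)
  EX : E ⊓ normalizer (b : Set G) ≤ normalizer (X0 : Set G)
  EN : E ⊓ normalizer (b : Set G) ≤ normalizer (Np : Set G)
  ti : ∀ e ∈ E, ∀ x ∈ b, x ≠ 1 → e * x * e⁻¹ ∈ b → e ∈ normalizer (b : Set G)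
  cov : ∀ v ∈ l, v ≠ 1 → ∃ e ∈ E, ∃ x ∈ b, v = e * x * e⁻¹
  -- the points of `l` are permuted transitively by `E ∩ N(S)`
  pts : ∀ e ∈ E, ∃ g ∈ E, g ∈ normalizer (S : Set G) ∧ g⁻¹ * e ∈ normalizer (b : Set G)
  -- the canonical complement
  bX : b ≤ X0
  XN : ∀ x ∈ X0, x ∈ Np → x ∈ b
  Xl : X0 ≤ l ⊔ Np
  Xex : ∀ v ∈ l, ∃ n ∈ Np, v * n ∈ X0
  -- the elementary abelian group `W = X'_b`
  Wc : ∀ x ∈ W, ∀ y ∈ W, x * y = y * x
  Wsq : ∀ x ∈ W, x ^ 2 = 1
  lW : l ≤ W
  NW : Np ≤ W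
  WB : W ≤ B
  CW : C ≤ normalizer (W : Set G)
  MW : ∀ e ∈ E, ∀ m ∈ Np, (∃ v ∈ l, v * m ∈ X0) → e * m * e⁻¹ ∈ W
  -- `C = C_b`
  Cb : C ≤ centralizer (b : Set G)
  CN : C ≤ normalizer (Np : Set G)
  -- `B`, `S = C_B(l)`, `T`
  BC : B ≤ C
  BE : B ≤ E
  Sm : ∀ x, x ∈ S ↔ x ∈ B ∧ x ∈ centralizer (l : Set G)
  com : ∀ x ∈ B, ∀ v ∈ l, x * v * x⁻¹ * v⁻¹ ∈ b
  free : ∀ x ∈ B, ∀ v ∈ l, v ∉ b → x * v = v * x → x ∈ centralizer (l : Set G)
  sylT : Syl T C
  Tl : T ≤ normalizer (l : Set G)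
  -- `Om1 Z(S) ≤ l Z_J` and the action of `L_j`: `Zc` is central in `C`
  ZcN : Zc ≤ Np
  ZcC : Zc ≤ centralizer (C : Set G)
  L'C : L' ≤ C
  L'E : L' ≤ E
  L'l : L' ≤ centralizer (l : Set G)
  zS : ∀ x ∈ S, x ^ 2 = 1 → (∀ t ∈ S, t * x = x * t) → (∀ g ∈ L', g * x * g⁻¹ * x⁻¹ ∈ b) → x ∈ l ⊔ Zc
  -- `K`
  KC : K ≤ C
  CK : C ≤ normalizer (K : Set G)
  Kl : ∀ s ∈ K, ∀ v ∈ l, s * v * s⁻¹ * v⁻¹ ∈ Np
  KE : K ⊓ normalizer (l : Set G) ≤ E
  KX : K ≤ normalizer (X0 : Set G)
  mv : ∀ s ∈ K, s ∈ normalizer (l : Set G) → ∀ e ∈ E, e ∉ normalizer (b : Set G) →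
    ∀ m ∈ Np, (∃ v ∈ l, v * m ∈ X0) →
      ∃ u ∈ b, ∃ n ∈ Np, s * (e * m * e⁻¹) * s⁻¹ = (e * m * e⁻¹) * (e * u * e⁻¹) * n
  done : ¬ K ≤ normalizer (l : Set G)
  -- the full root group of `l` at `b`, once `K ∩ N(l)` moves `l`
  root : (∃ s ∈ K, s ∈ normalizer (l : Set G) ∧ s ∉ centralizer (l : Set G)) →
    ∀ v ∈ l, v ∉ b → ∀ z ∈ b, ∃ s ∈ K, s ∈ normalizer (l : Set G) ∧ s * v * s⁻¹ * v⁻¹ = z
  -- `(V!)` (only for `F ≤ W`)
  off : ∀ F ≤ W, B ≤ normalizer (F : Set G) → (∀ x ∈ F, ∀ y ∈ F, x * y = y * x) → (∀ x ∈ F, x ^ 2 = 1) →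
    l ≤ F → ∃ A ≤ B, ¬ A ≤ centralizer (F : Set G) ∧
      (centralizer (A : Set G)).relIndex F ≤ (centralizer (F : Set G)).relIndex A

end Cfsg.Agent.Omega.TCQ.R.ThN

end

section


/-!
# THEOREM N, (2): tools and the odd orbit product; `K ∩ N(l)` moves `l`
-/

set_option autoImplicit false
set_option linter.unusedSectionVars false

namespace Cfsg.Agent.Omega.TCQ.R.ThN

open Subgroup Cfsg Cfsg.Agent.ZN
open Cfsg.Agent.ZN.ChoiceSit (Syl exists_syl syl_conj syl_not_dvd)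
open Cfsg.Agent.ZN.ChoiceBase (cj card_cj)

universe u

variable {G : Type u} [Group G]

/-! ### tools -/

theorem nm {H : Subgroup G} {g x : G} (hg : g ∈ normalizer (H : Set G)) (hx : x ∈ H) : g * x * g⁻¹ ∈ H :=
  (mem_normalizer_iff.1 hg x).1 hx

theorem nm' {H : Subgroup G} {g x : G} (hg : g ∈ normalizer (H : Set G)) (hx : x ∈ H) : g⁻¹ * x * g ∈ H := by
  have := nm (inv_mem hg) hx
  rwa [inv_inv] at this

theorem norm_of [Finite G] {H : Subgroup G} {g : G} (h : ∀ x ∈ H, g * x * g⁻¹ ∈ H) :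
    g ∈ normalizer (H : Set G) := by
  have hinj : Function.Injective (fun x : H => (⟨g * x * g⁻¹, h x x.2⟩ : H)) := by
    intro x y hxy
    have h1 : g * (x : G) * g⁻¹ = g * (y : G) * g⁻¹ := congrArg Subtype.val hxy
    exact Subtype.ext (mul_left_cancel (mul_right_cancel h1))
  have hsur := Finite.surjective_of_injective hinj
  rw [mem_normalizer_iff]
  intro x
  refine ⟨h x, fun hx => ?_⟩
  obtain ⟨y, hy⟩ := hsur ⟨g * x * g⁻¹, hx⟩
  have h1 : g * (y : G) * g⁻¹ = g * x * g⁻¹ := congrArg Subtype.val hy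
  have h2 : (y : G) = x := mul_left_cancel (mul_right_cancel h1)
  exact h2 ▸ y.2

theorem cm {H : Subgroup G} {g x : G} (hg : g ∈ centralizer (H : Set G)) (hx : x ∈ H) : g * x * g⁻¹ = x := by
  rw [← mem_centralizer_iff.1 hg x hx, mul_inv_cancel_right]

theorem cm' {H : Subgroup G} {g x : G} (hg : g ∈ centralizer (H : Set G)) (hx : x ∈ H) : g * x = x * g :=
  (mem_centralizer_iff.1 hg x hx).symm

theorem cn {H : Subgroup G} {g : G} (hg : g ∈ centralizer (H : Set G)) : g ∈ normalizer (H : Set G) :=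
  centralizer_le_normalizer _ hg

theorem nc {H : Subgroup G} {g c : G} (hg : g ∈ normalizer (H : Set G)) (hc : c ∈ centralizer (H : Set G)) :
    g * c * g⁻¹ ∈ centralizer (H : Set G) := by
  refine mem_centralizer_iff.2 fun x hx => ?_
  have h1 := mem_centralizer_iff.1 hc _ (nm' hg hx)
  calc x * (g * c * g⁻¹) = g * ((g⁻¹ * x * g) * c) * g⁻¹ := by group
    _ = g * (c * (g⁻¹ * x * g)) * g⁻¹ := by rw [h1]
    _ = g * c * g⁻¹ * x := by group

theorem nc' {H : Subgroup G} {g c : G} (hg : g ∈ normalizer (H : Set G)) (hc : c ∈ centralizer (H : Set G)) :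
    g⁻¹ * c * g ∈ centralizer (H : Set G) := by
  have := nc (inv_mem hg) hc
  rwa [inv_inv] at this

/-- `[t, f]` -/
abbrev ct (t f : G) : G := t * f * t⁻¹ * f⁻¹

theorem ct_eq_one {t f : G} : ct t f = 1 ↔ t * f = f * t := by
  constructor
  · intro h
    have h1 : t * f = (t * f * t⁻¹ * f⁻¹) * (f * t) := by group
    rw [h1]
    change ct t f * (f * t) = f * t
    rw [h, one_mul]
  · intro h
    change t * f * t⁻¹ * f⁻¹ = 1
    rw [h]; group

theorem ct_mem {W : Subgroup G} {t x : G} (ht : t ∈ normalizer (W : Set G)) (hx : x ∈ W) : ct t x ∈ W :=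
  mul_mem (nm ht hx) (inv_mem hx)

theorem ct_mul {W : Subgroup G} (Wc : ∀ x ∈ W, ∀ y ∈ W, x * y = y * x) {t x y : G}
    (ht : t ∈ normalizer (W : Set G)) (hx : x ∈ W) (hy : y ∈ W) : ct t (x * y) = ct t x * ct t y := by
  have h2 := Wc _ (ct_mem ht hy) _ (inv_mem hx)
  calc t * (x * y) * t⁻¹ * (x * y)⁻¹ = (t * x * t⁻¹) * ((t * y * t⁻¹ * y⁻¹) * x⁻¹) := by group
    _ = (t * x * t⁻¹) * (x⁻¹ * (t * y * t⁻¹ * y⁻¹)) := by rw [h2]
    _ = t * x * t⁻¹ * x⁻¹ * (t * y * t⁻¹ * y⁻¹) := by group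

theorem relIndex_le_card [Finite G] {H S X : Subgroup G} (f : G → G) (hf : ∀ t ∈ S, f t ∈ X)
    (hi : ∀ t ∈ S, ∀ t' ∈ S, f t = f t' → t⁻¹ * t' ∈ H) : H.relIndex S ≤ Nat.card X := by
  have e : H.relIndex S = Nat.card (S ⧸ H.subgroupOf S) := rfl
  rw [e]
  refine Nat.card_le_card_of_injective (fun c => (⟨f (Quotient.out c : S), hf _ (Quotient.out c : S).2⟩ : X)) ?_
  intro c d hcd
  have h1 : f (Quotient.out c : S) = f (Quotient.out d : S) := congrArg Subtype.val hcd
  have h2 := hi _ (Quotient.out c : S).2 _ (Quotient.out d : S).2 h1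
  rw [← Quotient.out_eq c, ← Quotient.out_eq d]
  exact QuotientGroup.eq.2 (mem_subgroupOf.2 h2)

/-- `f ↦ [t, f]` -/
def phi {W F : Subgroup G} (Wc : ∀ x ∈ W, ∀ y ∈ W, x * y = y * x) (hF : F ≤ W) {t : G}
    (ht : t ∈ normalizer (W : Set G)) : F →* G :=
  MonoidHom.mk' (fun f => ct t f) fun x y => ct_mul Wc ht (hF x.2) (hF y.2)

theorem rel_eq [Finite G] {W F : Subgroup G} (Wc : ∀ x ∈ W, ∀ y ∈ W, x * y = y * x) (hF : F ≤ W) {t : G}
    (ht : t ∈ normalizer (W : Set G)) :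
    (centralizer ({t} : Set G)).relIndex F = Nat.card (phi Wc hF ht).range := by
  rw [← index_ker]
  have : (centralizer ({t} : Set G)).subgroupOf F = (phi Wc hF ht).ker := by
    ext f
    rw [mem_subgroupOf, mem_centralizer_singleton_iff, MonoidHom.mem_ker]
    change _ ↔ ct t f = 1
    rw [ct_eq_one]
    exact eq_comm
  change ((centralizer ({t} : Set G)).subgroupOf F).index = _
  rw [this]

theorem syl_inf [Finite G] {T H N : Subgroup G} (hT : Syl T H) (hN : N ≤ H)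
    (hn : H ≤ normalizer (N : Set G)) : Syl (T ⊓ N) N := by
  refine ⟨inf_le_right, hT.2.1.to_le inf_le_left, ?_⟩
  intro R hR h2 hTR
  obtain ⟨S, hS, hRS⟩ := exists_syl h2 (hR.trans hN)
  obtain ⟨x, hx, e⟩ := syl_conj hS hT
  have h1 : cj x R ≤ T ⊓ N := by
    rintro _ ⟨r, hr, rfl⟩
    refine ⟨?_, nm (hn hx) (hR hr)⟩
    rw [← e]
    exact ⟨r, hRS hr, rfl⟩
  have h3 := Subgroup.card_le_of_le h1
  rw [card_cj] at h3
  exact (Subgroup.eq_of_le_of_card_ge hTR h3).symm

theorem mem_sup_comm {X Y : Subgroup G} (h : ∀ x ∈ X, ∀ y ∈ Y, x * y = y * x) {u : G} (hu : u ∈ X ⊔ Y) :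
    ∃ x ∈ X, ∃ y ∈ Y, x * y = u := by
  let Z : Subgroup G :=
    { carrier := {u | ∃ x ∈ X, ∃ y ∈ Y, x * y = u}
      mul_mem' := by
        rintro _ _ ⟨x, hx, y, hy, rfl⟩ ⟨x', hx', y', hy', rfl⟩
        refine ⟨x * x', mul_mem hx hx', y * y', mul_mem hy hy', ?_⟩
        calc x * x' * (y * y') = x * (x' * y) * y' := by group
          _ = x * (y * x') * y' := by rw [h x' hx' y hy]
          _ = _ := by group
      one_mem' := ⟨1, one_mem _, 1, one_mem _, mul_one 1⟩
      inv_mem' := by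
        rintro _ ⟨x, hx, y, hy, rfl⟩
        exact ⟨x⁻¹, inv_mem hx, y⁻¹, inv_mem hy, by rw [mul_inv_rev, h _ (inv_mem hx) _ (inv_mem hy)]⟩ }
  have h1 : X ⊔ Y ≤ Z := sup_le (fun x hx => ⟨x, hx, 1, one_mem _, mul_one x⟩)
    fun y hy => ⟨1, one_mem _, y, hy, one_mul y⟩
  exact h1 hu

/-- orbit = index of the stabiliser -/
theorem card_range_eq {K' X : Type*} [Group K'] (H : Subgroup K') (f : K' → X)
    (hf : ∀ k k', f k = f k' ↔ k⁻¹ * k' ∈ H) : Nat.card (Set.range f) = H.index := by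
  have e : H.index = Nat.card (K' ⧸ H) := rfl
  rw [e]
  refine Nat.card_congr (Equiv.ofBijective (fun c : Set.range f => (QuotientGroup.mk (c.2.choose) : K' ⧸ H)) ⟨?_, ?_⟩)
  · intro c d hcd
    have h1 := QuotientGroup.eq.1 hcd
    have h2 := (hf _ _).2 h1
    rw [c.2.choose_spec, d.2.choose_spec] at h2
    exact Subtype.ext h2
  · intro x
    obtain ⟨k, rfl⟩ := QuotientGroup.mk_surjective x
    refine ⟨⟨f k, k, rfl⟩, QuotientGroup.eq.2 ((hf _ _).1 ?_)⟩
    exact (⟨k, rfl⟩ : ∃ y, f y = f k).choose_spec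

/-- **The odd orbit product.** -/
theorem odd_orbit [Finite G] {W K N : Subgroup G} (Wc : ∀ x ∈ W, ∀ y ∈ W, x * y = y * x)
    (KW : K ≤ normalizer (W : Set G)) {a : G} (ha : a ∈ W) (ha2 : a ^ 2 = 1)
    (hK : ∀ k ∈ K, k * a * k⁻¹ * a⁻¹ ∈ N) (hodd : ¬ 2 ∣ (K ⊓ centralizer ({a} : Set G)).relIndex K) :
    ∃ τ ∈ W, τ * a⁻¹ ∈ N ∧ (∀ k ∈ K, k * τ * k⁻¹ = τ) ∧
      ∀ g, g ∈ normalizer (W : Set G) → g ∈ normalizer (K : Set G) → g * a = a * g → g * τ * g⁻¹ = τ := by
  classical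
  let _ : CommGroup W := { (inferInstance : Group W) with mul_comm := fun x y => Subtype.ext (Wc x x.2 y y.2) }
  have hfin : Set.Finite {x : W | ∃ k ∈ K, (x : G) = k * a * k⁻¹} := Set.toFinite _
  let s : Finset W := hfin.toFinset
  have hs : ∀ x : W, x ∈ s ↔ ∃ k ∈ K, (x : G) = k * a * k⁻¹ := fun x => Set.Finite.mem_toFinset _
  let τ : W := ∏ x ∈ s, x
  -- the cardinality
  have hcard : s.card = (K ⊓ centralizer ({a} : Set G)).relIndex K := by
    have h1 := card_range_eq ((K ⊓ centralizer ({a} : Set G)).subgroupOf K)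
      (fun k : K => (⟨k * a * (k : G)⁻¹, nm (KW k.2) ha⟩ : W)) (by
        intro k k'
        rw [mem_subgroupOf, mem_inf, mem_centralizer_singleton_iff]
        constructor
        · intro h
          have h1 : (k : G) * a * (k : G)⁻¹ = (k' : G) * a * (k' : G)⁻¹ := congrArg Subtype.val h
          refine ⟨(k⁻¹ * k').2, ?_⟩
          push_cast
          symm
          calc a * ((k : G)⁻¹ * k') = (k : G)⁻¹ * ((k : G) * a * (k : G)⁻¹) * k' := by group
            _ = (k : G)⁻¹ * ((k' : G) * a * (k' : G)⁻¹) * k' := by rw [h1]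
            _ = (k : G)⁻¹ * k' * a := by group
        · rintro ⟨-, h⟩
          push_cast at h
          refine Subtype.ext ?_
          change (k : G) * a * (k : G)⁻¹ = (k' : G) * a * (k' : G)⁻¹
          calc (k : G) * a * (k : G)⁻¹ = (k : G) * (a * ((k : G)⁻¹ * k')) * (k' : G)⁻¹ := by group
            _ = (k : G) * ((k : G)⁻¹ * k' * a) * (k' : G)⁻¹ := by rw [h]
            _ = (k' : G) * a * (k' : G)⁻¹ := by group)
    have h2 : (K ⊓ centralizer ({a} : Set G)).relIndex K = ((K ⊓ centralizer ({a} : Set G)).subgroupOf K).index := rfl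
    rw [h2, ← h1, Nat.card_coe_set_eq, ← Set.ncard_eq_toFinset_card _ hfin]
    congr 1
    ext x
    constructor
    · rintro ⟨k, hk, e⟩
      exact ⟨⟨k, hk⟩, Subtype.ext e.symm⟩
    · rintro ⟨k, rfl⟩
      exact ⟨k, k.2, rfl⟩
  -- invariance
  have hinv : ∀ g (hg : g ∈ normalizer (W : Set G)), (∀ x : W, x ∈ s → (⟨g * x * g⁻¹, nm hg x.2⟩ : W) ∈ s) →
      g * (τ : G) * g⁻¹ = τ := by
    intro g hg h
    let ψ : W →* W := MonoidHom.mk' (fun x => ⟨g * x * g⁻¹, nm hg x.2⟩) (by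
      intro x y
      refine Subtype.ext ?_
      change g * ((x : G) * y) * g⁻¹ = g * x * g⁻¹ * (g * y * g⁻¹)
      group)
    have hψ : Function.Injective ψ := by
      intro x y hxy
      have h1 : g * (x : G) * g⁻¹ = g * (y : G) * g⁻¹ := congrArg Subtype.val hxy
      exact Subtype.ext (mul_left_cancel (mul_right_cancel h1))
    have h1 : s.image ψ = s := by
      refine Finset.eq_of_subset_of_card_le ?_ (Finset.card_image_of_injective s hψ).ge
      intro x hx
      obtain ⟨y, hy, rfl⟩ := Finset.mem_image.1 hx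
      exact h y hy
    have h2 : ψ τ = τ := by
      change ψ (∏ x ∈ s, x) = ∏ x ∈ s, x
      rw [map_prod]
      conv_rhs => rw [← h1]
      rw [Finset.prod_image (fun x _ y _ h => hψ h)]
    exact congrArg Subtype.val h2
  refine ⟨τ, τ.2, ?_, ?_, ?_⟩
  · have h1 : ∏ x ∈ s, (x * (⟨a, ha⟩ : W)⁻¹) ∈ N.subgroupOf W := by
      refine Subgroup.prod_mem _ fun x hx => ?_
      obtain ⟨k, hk, e⟩ := (hs x).1 hx
      rw [mem_subgroupOf]
      change (x : G) * a⁻¹ ∈ N
      rw [e]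
      exact hK k hk
    rw [Finset.prod_mul_distrib, Finset.prod_const] at h1
    have h2 : Odd s.card := by
      rw [hcard, ← Nat.not_even_iff_odd, even_iff_two_dvd]
      exact hodd
    obtain ⟨m, hm⟩ := h2
    have h3 : ((⟨a, ha⟩ : W)⁻¹) ^ s.card = (⟨a, ha⟩ : W)⁻¹ := by
      have h4 : ((⟨a, ha⟩ : W)⁻¹) ^ 2 = 1 := by
        refine Subtype.ext ?_
        change (a⁻¹) ^ 2 = 1
        rw [inv_pow, ha2, inv_one]
      rw [hm, pow_succ, pow_mul, h4, one_pow, one_mul]
    rw [h3] at h1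
    exact mem_subgroupOf.1 h1
  · intro k hk
    refine hinv k (KW hk) fun x hx => (hs _).2 ?_
    obtain ⟨k', hk', e⟩ := (hs x).1 hx
    refine ⟨k * k', mul_mem hk hk', ?_⟩
    change k * (x : G) * k⁻¹ = _
    rw [e]; group
  · intro g hg hgK hga
    refine hinv g hg fun x hx => (hs _).2 ?_
    obtain ⟨k', hk', e⟩ := (hs x).1 hx
    refine ⟨g * k' * g⁻¹, nm hgK hk', ?_⟩
    change g * (x : G) * g⁻¹ = _
    have h3 : g⁻¹ * a * g = a := by
      calc g⁻¹ * a * g = g⁻¹ * (a * g) := by group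
        _ = g⁻¹ * (g * a) := by rw [hga]
        _ = a := by group
    rw [e]
    calc g * (k' * a * k'⁻¹) * g⁻¹ = g * k' * a * k'⁻¹ * g⁻¹ := by group
      _ = g * k' * (g⁻¹ * a * g) * k'⁻¹ * g⁻¹ := by rw [h3]
      _ = g * k' * g⁻¹ * a * (g * k' * g⁻¹)⁻¹ := by group

/-! ### (2) -/

namespace NV

variable [Finite G] {E b l Np Zc W B S T C K X0 L' : Subgroup G} {q : ℕ} (h : NV E b l Np Zc W B S T C K X0 L' q)
include h

theorem bW : b ≤ W := h.bl.trans h.lW

theorem SB : S ≤ B := fun x hx => ((h.Sm x).1 hx).1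

theorem Sl : S ≤ centralizer (l : Set G) := fun x hx => ((h.Sm x).1 hx).2

theorem W_cl : W ≤ centralizer (l : Set G) := fun x hx =>
  mem_centralizer_iff.2 fun y hy => h.Wc y (h.lW hy) x hx

theorem WS : W ≤ S := fun x hx => (h.Sm x).2 ⟨h.WB hx, h.W_cl hx⟩

theorem KW : K ≤ normalizer (W : Set G) := h.KC.trans h.CW

theorem BW : B ≤ normalizer (W : Set G) := h.BC.trans h.CW

theorem SW : S ≤ normalizer (W : Set G) := h.SB.trans h.BW

/-- a vector of `l` plus a vector of `Zc` fixed by `K` -/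
theorem K_cent (hno : ∀ s ∈ K, s ∈ normalizer (l : Set G) → s ∈ centralizer (l : Set G)) :
    K ≤ centralizer (l : Set G) := by
  have hsy := syl_inf h.sylT h.KC h.CK
  have hT : T ⊓ K ≤ centralizer (l : Set G) := fun t ht => hno t ht.2 (h.Tl ht.1)
  intro k hk
  refine mem_centralizer_iff.2 fun a ha => ?_
  have hodd : ¬ 2 ∣ (K ⊓ centralizer ({a} : Set G)).relIndex K := by
    intro h2
    refine syl_not_dvd hsy (h2.trans ?_)
    refine Subgroup.relIndex_dvd_of_le_left K (le_inf inf_le_right (hT.trans ?_))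
    exact centralizer_le (by simpa using ha)
  obtain ⟨τ, hτW, hτa, hτK, hτg⟩ := odd_orbit h.Wc h.KW (h.lW ha) (h.Wsq a (h.lW ha))
    (fun s hs => h.Kl s hs a ha) hodd
  -- `τ ∈ l Zc`
  have h1 : τ ∈ l ⊔ Zc := by
    refine h.zS τ (h.WS hτW) (h.Wsq τ hτW) (fun t ht => ?_) fun g hg => ?_
    · have h2 := hτg t (h.SW ht) (h.CK (h.BC (h.SB ht))) (cm' (h.Sl ht) ha)
      calc t * τ = t * τ * t⁻¹ * t := by group
        _ = τ * t := by rw [h2]
    · have h2 := hτg g (h.CW (h.L'C hg)) (h.CK (h.L'C hg)) (cm' (h.L'l hg) ha)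
      rw [h2, mul_inv_cancel]
      exact one_mem _
  obtain ⟨a', ha', z, hz, e⟩ := mem_sup_comm (fun x hx z hz => h.Wc x (h.lW hx) z (h.NW (h.ZcN hz))) h1
  have hz1 : k * z * k⁻¹ = z := by
    have := mem_centralizer_iff.1 (h.ZcC hz) k (h.KC hk)
    rw [this, mul_inv_cancel_right]
  have ha1 : k * a' * k⁻¹ = a' := by
    have h2 := hτK k hk
    rw [← e] at h2
    have h3 : k * a' * k⁻¹ * (k * z * k⁻¹) = a' * z := by rw [← h2]; group
    rw [hz1] at h3
    exact mul_right_cancel h3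
  -- `a' a⁻¹ ∈ b`
  have hb : a' * a⁻¹ ∈ b := by
    refine h.lN _ (mul_mem ha' (inv_mem ha)) ?_
    have h2 : a' * a⁻¹ = (τ * a⁻¹) * z⁻¹ := by
      rw [← e]
      have h3 := h.Wc _ (h.lW (inv_mem ha)) _ (h.NW (h.ZcN (inv_mem hz)))
      calc a' * a⁻¹ = a' * (z * z⁻¹) * a⁻¹ := by group
        _ = a' * z * (z⁻¹ * a⁻¹) := by group
        _ = a' * z * (a⁻¹ * z⁻¹) := by rw [h3]
        _ = a' * z * a⁻¹ * z⁻¹ := by group
    rw [h2]
    exact mul_mem hτa (inv_mem (h.ZcN hz))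
  have hb1 := cm (h.Cb (h.KC hk)) hb
  have ha2 : k * a * k⁻¹ = a := by
    have h2 : k * a' * k⁻¹ * (k * a⁻¹ * k⁻¹) = a' * a⁻¹ := by rw [← hb1]; group
    rw [ha1] at h2
    have h3 : k * a⁻¹ * k⁻¹ = a⁻¹ := mul_left_cancel h2
    calc k * a * k⁻¹ = (k * a⁻¹ * k⁻¹)⁻¹ := by group
      _ = a := by rw [h3, inv_inv]
  calc a * k = (k * a * k⁻¹) * k := by rw [ha2]
    _ = k * a := by group

/-- **(2)**: `K ∩ N(l)` moves `l`. -/
theorem exists_mv : ∃ s ∈ K, s ∈ normalizer (l : Set G) ∧ s ∉ centralizer (l : Set G) := by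
  by_contra hc
  push Not at hc
  exact h.done ((h.K_cent hc).trans (centralizer_le_normalizer _))

end NV

end Cfsg.Agent.Omega.TCQ.R.ThN

end
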