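import Cfsg.Agent.Mrg.Omega.OM.PG.ExactQ
import Cfsg.Agent.Mrg.Omega.OmThm.GrpGeo
import Mathlib

section


/-!
# (E), radical, PURE TRANSVECTIONS, every level (THEOREM PC, after helper925's `PtGeo`, `TBig`)

`Z 0 ≤ N_1`, `[N_a, N_u] = 1` for `a ~ u`: then `X_u` (`= W_u N_u`) centralises `N_a` (`pcK`; `gg_of` without radical).  No FIX, no LEMMA 0, no
irreducibility, all `q`.  Inputs: TI, `Sur`, `Pts`, `|U 0| = |Z 0|²`, and

* `CoreP Z` : `J ⊴ H_1`, `y² ∈ C(N_1)` for `y ∈ J` : `J` centralises `N_1`.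

`false_of_zeroK` : the pair `(Z 0, Z 1)` is not critical if `[N_1, N_2] = 1`.
-/

set_option autoImplicit false
set_option linter.unusedSectionVars false

namespace Cfsg.Agent.Omega.OM.PG.PcK

open Subgroup Cfsg
open Cfsg.Agent.ZN Cfsg.Agent.Omega.OM.PG.Peel Cfsg.Agent.Omega.OM.PG.PeelQ Cfsg.Agent.Omega.OM.PG.ExactQ
open Cfsg.Agent.Omega.OM.PG.PcQ
open Cfsg.Agent.Omega.NO3S.EThree Cfsg.Agent.Omega.NO3S.EThree.ExactA
open Cfsg.Agent.Omega.NoFF.Basic (comm_symm conj_conj conj_le_iff)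
open Cfsg.Agent.Omega.OmThm.Grp (GG LnG)
open scoped Pointwise

universe u

variable {G : Type u} [Group G]

/-- `O_2(H_1 / C(N_1)) = 1`, for squares -/
def CoreP (Z : Fin 2 → Subgroup G) : Prop :=
  ∀ J : Subgroup G, J ≤ HH (Z 0) → HH (Z 0) ≤ normalizer (J : Set G) →
    (∀ y ∈ J, y * y ∈ centralizer (NN Z (Z 0) : Set G)) → J ≤ centralizer (NN Z (Z 0) : Set G)

/-- a line of `N_a` through one of its points is a line on that point -/
theorem ln_of_le {Z U : Fin 2 → Subgroup G} (P : PP Z U) {k m : G} (h : MulAut.conj m • Z 0 ≤ MulAut.conj k • U 1) :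
    LnOn Z U (MulAut.conj m • Z 0) (MulAut.conj k • U 1) := by
  obtain ⟨s, h0, h1, h2, h3⟩ := P.swap
  have h4 : MulAut.conj ((k * s)⁻¹ * m) • Z 0 ≤ U 0 := by
    rw [← h2, conj_conj] at h
    have h5 := conj_le_iff (g := (k * s)⁻¹) |>.2 h
    rwa [conj_conj, inv_conj_conj] at h5
  obtain ⟨l, hl0, hl1, hl2, -⟩ := P.tr _ h4
  refine ⟨k * s * l, ?_, ?_⟩
  · rw [← conj_conj (k * s) l, hl0, conj_conj, mul_inv_cancel_left]
  · rw [← conj_conj (k * s) l, hl2, ← conj_conj k s, h2]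

section main

variable [Finite G] {Z U : Fin 2 → Subgroup G} (P : PP Z U)
include P

/-- If `X_u` moves `N_1`, then `N_1` with its points and the `X_p` is a `GG` (no radical needed). -/
theorem gg_of (F : XF Z (XW Z U)) (hcom : ∀ a u : Subgroup G, Adj Z a u → Com Z a u) (hti : TIp Z) (hS : Sur Z U)
    (hpts : Pts Z U) (hcard : Nat.card (U 0) = Nat.card (Z 0) * Nat.card (Z 0)) (hcore : CoreP Z)
    {u : Subgroup G} (hu : Adj Z (Z 0) u) (hmov : ¬ XW Z U u ≤ centralizer (NN Z (Z 0) : Set G)) :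
    GG (NN Z (Z 0)) {p | Adj Z (Z 0) p} (XW Z U) (Nat.card (Z 0)) := by
  have h0 : IsPt Z (Z 0) := ⟨1, by rw [map_one, one_smul]⟩
  set X := XW Z U with hXdef
  set N := NN Z (Z 0) with hN
  set Pt : Set (Subgroup G) := {p | Adj Z (Z 0) p} with hPt
  have hNe := eab_iff.1 (NN_eab P h0)
  have hNQ : ∀ p, Adj Z (Z 0) p → N ≤ QQ p := fun p hp =>
    P.f3 (P.adj_symm hp) (P.NN_le_QQ h0) (hcom _ _ hp)
  have hXa : ∀ p, Adj Z (Z 0) p → X p ≤ centralizer (Z 0 : Set G) := fun p hp =>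
    (F.XQ p (P.adj_pt hp)).trans (P.QQ_le_cent_of_adj hp)
  have hXH : ∀ p, Adj Z (Z 0) p → X p ≤ HH (Z 0) := fun p hp => (hXa p hp).trans (centralizer_le_normalizer _)
  have hw0 : ∀ p, Adj Z (Z 0) p → ∀ w ∈ X p, MulAut.conj w • Z 0 = Z 0 := fun p hp w hw =>
    Cfsg.Agent.Omega.NOThreeL.Pair.conj_eq_of_mem (hXH p hp hw)
  have hmv : ∀ p ∈ Pt, ∀ w ∈ X p, ∀ x ∈ Pt, MulAut.conj w • x ∈ Pt := by
    intro p hp w hw x hx
    have h1 := Adj.conj hx w
    rw [hw0 p hp w hw] at h1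
    exact h1
  have hXX : ∀ p, Adj Z (Z 0) p → ∀ x ∈ X p, ∀ y ∈ X p, x * y = y * x := fun p hp x hx y hy =>
    mem_centralizer_iff.1 ((eab_iff.1 (F.eab p (P.adj_pt hp))).1 hy) x hx
  -- all pairs are conjugate
  have hcx : ∀ p ∈ Pt, ∃ k : G, MulAut.conj k • Z 0 = Z 0 ∧ MulAut.conj k • N = N ∧ MulAut.conj k • X u = X p := by
    intro p hp
    obtain ⟨k, hk, rfl⟩ := hu
    obtain ⟨l, hl, rfl⟩ := hp
    have h1 : IsPt Z (Z 1) := P.adj_pt ⟨1, by rw [map_one, one_smul], by rw [map_one, one_smul]⟩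
    have e1 : MulAut.conj (l * k⁻¹) • Z 0 = Z 0 := by
      calc MulAut.conj (l * k⁻¹) • Z 0 = MulAut.conj (l * k⁻¹) • (MulAut.conj k • Z 0) := by rw [← hk]
        _ = MulAut.conj l • Z 0 := by rw [conj_conj, inv_mul_cancel_right]
        _ = Z 0 := hl.symm
    refine ⟨l * k⁻¹, e1, by rw [hN, ← NN_conj, e1], ?_⟩
    rw [F.conj k _ h1, F.conj l _ h1, conj_conj, inv_mul_cancel_right]
  -- the killed vectors
  set Y : Subgroup G := ⨆ p : {p : Subgroup G // Adj Z (Z 0) p}, X p with hY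
  have hYle : ∀ p, Adj Z (Z 0) p → X p ≤ Y := fun p hp =>
    le_iSup (fun p : {p : Subgroup G // Adj Z (Z 0) p} => X p) ⟨p, hp⟩
  have hYc : Y ≤ centralizer (Z 0 : Set G) := iSup_le fun p => hXa p p.2
  have hYH : Y ≤ HH (Z 0) := hYc.trans (centralizer_le_normalizer _)
  have hHY : HH (Z 0) ≤ normalizer (Y : Set G) := by
    have key : ∀ g ∈ HH (Z 0), MulAut.conj g • Y ≤ Y := by
      intro g hg
      have hg0 : MulAut.conj g • Z 0 = Z 0 := Cfsg.Agent.Omega.NOThreeL.Pair.conj_eq_of_mem hg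
      have h1 : Y ≤ MulAut.conj g⁻¹ • Y := by
        refine iSup_le fun p => ?_
        have h2 : Adj Z (Z 0) (MulAut.conj g • (p : Subgroup G)) := by
          have := p.2.conj g
          rwa [hg0] at this
        have h3 := conj_le_iff (g := g⁻¹) |>.2 (hYle _ h2)
        rwa [F.conj g _ (P.adj_pt p.2), inv_conj_conj] at h3
      have h2 := conj_le_iff (g := g) |>.2 h1
      rwa [conj_inv_conj] at h2
    intro g hg
    refine ChoiceBase.mem_normalizer_iff_cj.2 (le_antisymm (key g hg) ?_)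
    have h2 := conj_le_iff (g := g) |>.2 (key g⁻¹ (inv_mem hg))
    rwa [conj_inv_conj] at h2
  set K : Subgroup G := N ⊓ centralizer (Y : Set G) with hK
  have hKH : HH (Z 0) ≤ normalizer (K : Set G) :=
    NO3L.LemP.le_normalizer_inf (PP.HH_le_NN _) (hHY.trans (NO3L.LemP.normalizer_le_normalizer_cent Y))
  have hNH : HH (Z 0) ≤ normalizer (N : Set G) := PP.HH_le_NN _
  -- the group acting trivially on `N / K` and `K`
  let J : Subgroup G :=
    { carrier := {g | g ∈ HH (Z 0) ∧ (∀ n ∈ N, g * n * g⁻¹ * n⁻¹ ∈ K) ∧ ∀ k ∈ K, g * k = k * g}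
      one_mem' := ⟨one_mem _, fun n _ => by simp, fun k _ => by rw [one_mul, mul_one]⟩
      mul_mem' := by
        rintro g g' ⟨h1, h2, h3⟩ ⟨h4, h5, h6⟩
        refine ⟨mul_mem h1 h4, fun n hn => ?_, fun k hk => ?_⟩
        · have e : g * g' * n * (g * g')⁻¹ * n⁻¹ = g * (g' * n * g'⁻¹ * n⁻¹) * g⁻¹ * (g * n * g⁻¹ * n⁻¹) := by group
          rw [e]
          exact mul_mem ((mem_normalizer_iff.1 (hKH h1) _).1 (h5 n hn)) (h2 n hn)
        · rw [mul_assoc, h6 k hk, ← mul_assoc, h3 k hk, mul_assoc]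
      inv_mem' := by
        rintro g ⟨h1, h2, h3⟩
        refine ⟨inv_mem h1, fun n hn => ?_, fun k hk => ?_⟩
        · have hn' : g⁻¹ * n * g ∈ N := by
            have := (mem_normalizer_iff.1 (hNH (inv_mem h1)) n).1 hn
            rwa [inv_inv] at this
          have h4 := h2 _ hn'
          have e : g⁻¹ * n * g⁻¹⁻¹ * n⁻¹ = (g * (g⁻¹ * n * g) * g⁻¹ * (g⁻¹ * n * g)⁻¹)⁻¹ := by group
          rw [e]
          exact inv_mem h4
        · have h4 := h3 k hk
          calc g⁻¹ * k = g⁻¹ * (k * g) * g⁻¹ := by group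
            _ = g⁻¹ * (g * k) * g⁻¹ := by rw [h4]
            _ = k * g⁻¹ := by group }
  have hJH : J ≤ HH (Z 0) := fun g hg => hg.1
  have hHJ : HH (Z 0) ≤ normalizer (J : Set G) := by
    have key : ∀ x ∈ HH (Z 0), ∀ g ∈ J, x * g * x⁻¹ ∈ J := by
      rintro x hx g ⟨h1, h2, h3⟩
      refine ⟨mul_mem (mul_mem hx h1) (inv_mem hx), fun n hn => ?_, fun k hk => ?_⟩
      · have hn' : x⁻¹ * n * x ∈ N := by
          have := (mem_normalizer_iff.1 (hNH (inv_mem hx)) n).1 hn
          rwa [inv_inv] at this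
        have h4 := (mem_normalizer_iff.1 (hKH hx) _).1 (h2 _ hn')
        have e : x * (g * (x⁻¹ * n * x) * g⁻¹ * (x⁻¹ * n * x)⁻¹) * x⁻¹ = x * g * x⁻¹ * n * (x * g * x⁻¹)⁻¹ * n⁻¹ := by
          group
        rwa [e] at h4
      · have hk' : x⁻¹ * k * x ∈ K := by
          have := (mem_normalizer_iff.1 (hKH (inv_mem hx)) k).1 hk
          rwa [inv_inv] at this
        have h4 := h3 _ hk'
        calc x * g * x⁻¹ * k = x * (g * (x⁻¹ * k * x)) * x⁻¹ := by group
          _ = x * (x⁻¹ * k * x * g) * x⁻¹ := by rw [h4]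
          _ = k * (x * g * x⁻¹) := by group
    intro x hx
    rw [mem_normalizer_iff]
    intro g
    refine ⟨key x hx g, fun h => ?_⟩
    have h1 := key x⁻¹ (inv_mem hx) _ h
    have e : x⁻¹ * (x * g * x⁻¹) * x⁻¹⁻¹ = g := by group
    rwa [e] at h1
  have hJN : J ≤ centralizer (N : Set G) := by
    refine hcore J hJH hHJ ?_
    rintro g ⟨-, h2, h3⟩
    refine mem_centralizer_iff.2 fun n hn => ?_
    have hk := h2 n hn
    have e1 := h3 _ hk
    have e2 := hNe.2 _ hk.1
    rw [pow_two] at e2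
    set k := g * n * g⁻¹ * n⁻¹ with hkdef
    have e3 : g * n * g⁻¹ = k * n := by rw [hkdef]; group
    have e4 : g * g * n * (g * g)⁻¹ = n := by
      calc g * g * n * (g * g)⁻¹ = g * (g * n * g⁻¹) * g⁻¹ := by group
        _ = (g * k) * n * g⁻¹ := by rw [e3]; group
        _ = k * (g * n * g⁻¹) := by rw [e1]; group
        _ = (k * k) * n := by rw [e3]; group
        _ = n := by rw [e2, one_mul]
    calc n * (g * g) = (g * g * n * (g * g)⁻¹) * (g * g) := by rw [e4]
      _ = g * g * n := by group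
  exact
    { comm := fun x hx y hy => mem_centralizer_iff.1 (hNe.1 hy) x hx
      sq := fun x hx => by rw [← pow_two]; exact hNe.2 x hx
      le := fun p hp => Adj.le_NN hp
      card := by
        intro p hp
        obtain ⟨k, rfl⟩ := P.adj_pt hp
        exact ZN.ChoiceBase.card_cj k _
      ti := by
        intro p hp x hx v hvp hvx hv1
        by_contra hne
        exact hv1 (ti_one hti (P.adj_pt hp) (P.adj_pt hx) hne hvp hvx)
      XN := fun p hp w hw v hv => F.com p (P.adj_pt hp) w hw v (hNQ p hp hv)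
      Xp := fun p hp w hw v hv => hXX p hp w hw v (F.aX p (P.adj_pt hp) hv)
      mv := hmv
      Xc := fun p hp w hw x hx => F.conj w x (P.adj_pt hx)
      cardT := by
        have key : ∀ p ∈ Pt, (centralizer (N : Set G)).relIndex (X p) = (centralizer (N : Set G)).relIndex (X u) := by
          intro p hp
          obtain ⟨k, -, hkN, hkX⟩ := hcx p hp
          have e1 : MulAut.conj k • centralizer (N : Set G) = centralizer (N : Set G) := by
            have e2 : MulAut.conj k • centralizer (N : Set G) = centralizer ((MulAut.conj k • N : Subgroup G) : Set G) :=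
              ZN.ChoiceBase.cj_centralizer k _
            rw [e2, hkN]
          rw [← hkX]
          conv_lhs => rw [← e1]
          rw [relIndex_pointwise_smul]
        intro p hp x hx
        rw [key p hp, key x hx]
      span := le_rfl
      q2 := by
        have h1 : Nat.card (Z 0) ≠ 1 := fun h => P.ne (Subgroup.card_eq_one.1 h)
        have h2 : 0 < Nat.card (Z 0) := Nat.card_pos
        omega
      sur := by
        intro p hp w hw b hb hne z hz
        -- some line on `p` does not centralise `b`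
        obtain ⟨l, hl, hbl⟩ : ∃ l, LnOn Z U p l ∧ b ∉ centralizer (l : Set G) := by
          by_contra hcon
          push Not at hcon
          apply hne
          have h1 : XW Z U p ≤ centralizer ({b} : Set G) := by
            refine sup_le (fun n hn => ?_) (iSup_le fun l n hn => ?_)
            · exact mem_centralizer_singleton_iff.2 (mem_centralizer_iff.1 ((hcom _ _ hp) hb) n hn)
            · exact mem_centralizer_singleton_iff.2 (mem_centralizer_iff.1 (hcon l l.2) n hn)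
          exact mem_centralizer_singleton_iff.1 (h1 hw)
        obtain ⟨w', hw', e⟩ := hS.ln hl (hNQ p hp hb) hbl hz
        exact ⟨w', ln_le_XW hl hw', e⟩
      o2 := by
        intro x hx z hz w hw w' hw' h n hn
        have h1 : w' * w ∈ Y := mul_mem (hYle z hz hw') (hYle x hx hw)
        have h2 : w' * w ∈ J := by
          refine ⟨hYH h1, fun n hn => ?_, fun k hk => ?_⟩
          · refine ⟨N.mul_mem ((mem_normalizer_iff.1 (hNH (hYH h1)) n).1 hn) (N.inv_mem hn), ?_⟩
            have h3 : Y ≤ centralizer ({w' * w * n * (w' * w)⁻¹ * n⁻¹} : Set G) := iSup_le fun r y hy =>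
              mem_centralizer_singleton_iff.2 (h n hn r r.2 y hy)
            exact mem_centralizer_iff.2 fun y hy => mem_centralizer_singleton_iff.1 (h3 hy)
          · exact mem_centralizer_iff.1 hk.2 _ h1
        exact (mem_centralizer_iff.1 (hJN h2) n hn).symm
      line := by
        obtain ⟨s, hs0, hs1, hs2, hs3⟩ := P.swap
        rintro _ ⟨k, hk, rfl⟩
        have hV : MulAut.conj k • U 1 = MulAut.conj (k * s) • U 0 := by rw [← hs2, conj_conj]
        have hZV : MulAut.conj k • Z 1 ≤ MulAut.conj k • U 1 := by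
          refine conj_le_iff.2 ?_
          rw [← hs0, ← hs2]
          exact conj_le_iff.2 P.ZU
        have hcov : ∀ v ∈ (MulAut.conj k • U 1 : Subgroup G), v ≠ 1 → ∃ p ∈ Pt, p ≤ MulAut.conj k • U 1 ∧ v ∈ p := by
          intro y hy hy1
          have hy' := hy
          rw [hV] at hy'
          obtain ⟨y0, hy0, rfl⟩ := hy'
          obtain ⟨m, hm, hym⟩ := hpts y0 hy0 (fun e => hy1 (by rw [e]; exact map_one _))
          have h1 : MulAut.conj (k * s * m) • Z 0 ≤ MulAut.conj k • U 1 := by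
            rw [hV, ← conj_conj]
            exact conj_le_iff.2 hm
          refine ⟨MulAut.conj (k * s * m) • Z 0, ?_, h1, ?_⟩
          · have h2 := adj_of_line P h1
            rwa [← hk] at h2
          · rw [← conj_conj]
            exact ⟨y0, hym, rfl⟩
        have hVN : MulAut.conj k • U 1 ≤ N := by
          intro v hv
          by_cases hv1 : v = 1
          · rw [hv1]; exact one_mem _
          obtain ⟨p, hp, -, hvp⟩ := hcov v hv hv1
          exact Adj.le_NN hp hvp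
        have hcV : Nat.card (MulAut.conj k • U 1 : Subgroup G) = Nat.card (Z 0) * Nat.card (Z 0) := by
          rw [hV, ← hcard]
          exact ZN.ChoiceBase.card_cj _ _
        have hcp : ∀ p ∈ Pt, Nat.card p = Nat.card (Z 0) := by
          intro p hp
          obtain ⟨k, rfl⟩ := P.adj_pt hp
          exact ZN.ChoiceBase.card_cj k _
        refine ⟨MulAut.conj k • U 1, hZV, ⟨hVN, hcov, ?_, ?_, ?_⟩⟩
        · rintro p hp hpV x hx hxV
          obtain ⟨m, rfl⟩ := P.adj_pt hp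
          have h1 := ln_le_XW (ln_of_le P hpV)
          exact (eab_iff.1 (F.eab _ ⟨m, rfl⟩)).1.trans (centralizer_le (hxV.trans h1))
        · intro p hp hpV x hx hxV hne
          have hdis : p ⊓ x = ⊥ := hti p x (P.adj_pt hp) (P.adj_pt hx) hne
          have hcomm : p ≤ centralizer (x : Set G) := ((Adj.le_NN hp).trans hNe.1).trans (centralizer_le (Adj.le_NN hx))
          have h1 := Cfsg.Agent.Omega.NO3S.ML.card_sup_mul_of_comm fun a ha b hb =>
            (mem_centralizer_iff.1 (hcomm ha) b hb).symm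
          rw [hdis, Subgroup.card_bot, mul_one, hcp p hp, hcp x hx] at h1
          exact (Subgroup.eq_of_le_of_card_ge (sup_le hpV hxV) (by rw [hcV, h1])).ge
        · intro p hp hpV
          have h1 : ¬ MulAut.conj k • U 1 ≤ p := by
            intro h
            have h2 := Subgroup.card_le_of_le h
            rw [hcV, hcp p hp] at h2
            have h3 : Nat.card (Z 0) ≠ 1 := fun h => P.ne (Subgroup.card_eq_one.1 h)
            have h4 : 0 < Nat.card (Z 0) := Nat.card_pos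
            nlinarith [Nat.lt_of_le_of_ne h4 (Ne.symm h3)]
          obtain ⟨v, hv, hvp⟩ := SetLike.not_le_iff_exists.1 h1
          obtain ⟨x, hx, hxV, hvx⟩ := hcov v hv fun e => hvp (e ▸ one_mem _)
          exact ⟨x, hx, hxV, fun e => hvp (e ▸ hvx)⟩
      mov := by
        intro p hp hcon
        obtain ⟨k, -, hkN, hkX⟩ := hcx p hp
        apply hmov
        rw [← hkX, ← hkN] at hcon
        have h1 := Cfsg.Agent.Omega.NoFF.Basic.conj_le_centralizer (g := k⁻¹) hcon
        rwa [inv_conj_conj, inv_conj_conj] at h1 }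

/-- **PC.** -/
theorem pcK (F : XF Z (XW Z U)) (hcom : ∀ a u : Subgroup G, Adj Z a u → Com Z a u) (hti : TIp Z) (hS : Sur Z U)
    (hpts : Pts Z U) (hcard : Nat.card (U 0) = Nat.card (Z 0) * Nat.card (Z 0)) (hcore : CoreP Z)
    (hrad : Z 0 ≤ NN Z (Z 0)) {u : Subgroup G} (hu : Adj Z (Z 0) u) :
    XW Z U u ≤ centralizer (NN Z (Z 0) : Set G) := by
  by_contra hmov
  obtain ⟨z, hz, hz1⟩ : ∃ z ∈ Z 0, z ≠ 1 := by
    by_contra hcon
    push Not at hcon
    exact P.ne ((eq_bot_iff_forall _).2 hcon)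
  exact hz1 ((gg_of P F hcom hti hS hpts hcard hcore hu hmov).eq_one (hrad hz) fun p hp w hw =>
    (mem_centralizer_iff.1 (((F.XQ p (P.adj_pt hp)).trans (P.QQ_le_cent_of_adj hp)) hw) z hz).symm)

/-- The same for all adjacent points. -/
theorem pcK' (F : XF Z (XW Z U)) (hcom : ∀ a u : Subgroup G, Adj Z a u → Com Z a u) (hti : TIp Z) (hS : Sur Z U)
    (hpts : Pts Z U) (hcard : Nat.card (U 0) = Nat.card (Z 0) * Nat.card (Z 0)) (hcore : CoreP Z)
    (hrad : Z 0 ≤ NN Z (Z 0)) {a u : Subgroup G} (hu : Adj Z a u) :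
    XW Z U u ≤ centralizer (NN Z a : Set G) := by
  obtain ⟨k, rfl, rfl⟩ := hu
  have h1 : Adj Z (Z 0) (Z 1) := ⟨1, by rw [map_one, one_smul], by rw [map_one, one_smul]⟩
  rw [F.conj k _ (P.adj_pt h1), NN_conj]
  exact Cfsg.Agent.Omega.NoFF.Basic.conj_le_centralizer
    (pcK P F hcom hti hS hpts hcard hcore hrad h1)

/-- **PC: the pair `(Z 0, Z 1)` is not critical** (radical, `[N_1, N_2] = 1`). -/
theorem false_of_zeroK (F : XF Z (XW Z U))
    (hN : NobX Z (XW Z U)) (hNO : NoP Z) (hG : ExactQ.TA Z (XW Z U)) (hS : Sur Z U)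
    (hcom : ∀ a u : Subgroup G, Adj Z a u → Com Z a u) (hti : TIp Z)
    (hpts : Pts Z U) (hcard : Nat.card (U 0) = Nat.card (Z 0) * Nat.card (Z 0)) (hcore : CoreP Z)
    (hrad : Z 0 ≤ NN Z (Z 0)) (h : CX Z (XW Z U) 0 (Z 0) (Z 1)) : False := by
  have h1 : Adj Z (Z 0) (Z 1) := ⟨1, by rw [map_one, one_smul], by rw [map_one, one_smul]⟩
  obtain ⟨-, m, hm, l, hl, hml⟩ := redQ P F hN hti hNO hG hS h
  apply hml
  have h2 : XW Z U (Z 0) ≤ centralizer (NN Z (Z 1) : Set G) :=
    pcK' P F hcom hti hS hpts hcard hcore hrad (P.adj_symm h1)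
  exact (comm_symm ((ln_le_XW hl).trans h2)) hm.1

end main

end Cfsg.Agent.Omega.OM.PG.PcK

end

section


/-!
# (E): the critical distance with `(1a)` for `[N_a, N_b] ≠ 1` only (helper627, THEOREM R_q (10)(c), (d))

* `TA' Z X` : `(1a)` of THEOREM R: a critical pair `(a, b)` with `[N_a, N_b] ≠ 1` has `X_a ≰ N_a C(X_b)`;
* `zero_of` : `X_u ≤ C(N_a)` for `a ~ u` (THEOREM PC): `(Z 0, Z 1)` is not critical. No `TA`;
* `redI` : a critical pair has `a ≤ N_b` or `b ≤ N_a`;
* `false_of_twoI` : distance two is impossible if the only points in `N_u ∩ N_b`, `u ~ b`, are `u` and `b`;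
* `false_of_pc` : `TA'`, `TB`, THEOREM PC, THEOREM I: contradiction.
-/

set_option autoImplicit false
set_option linter.unusedSectionVars false

namespace Cfsg.Agent.Omega.OM.PG.TwoI

open Subgroup Cfsg
open Cfsg.Agent.ZN Cfsg.Agent.Omega.OM.PG.Peel Cfsg.Agent.Omega.OM.PG.PeelQ Cfsg.Agent.Omega.OM.PG.ExactQ
open Cfsg.Agent.Omega.NO3S.EThree Cfsg.Agent.Omega.NO3S.EThree.ExactA
open Cfsg.Agent.Omega.NoFF.Basic (comm_symm conj_conj conj_le_iff)
open scoped commutatorElement Pointwise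

universe u

variable {G : Type u} [Group G]

/-- `(1a)` of THEOREM R: a critical pair with `[N_a, N_b] ≠ 1` has `X_a ≰ N_a C(X_b)` -/
def TA' (Z : Fin 2 → Subgroup G) (X : Subgroup G → Subgroup G) : Prop :=
  ∀ d a b, CX Z X d a b → ¬ NN Z a ≤ centralizer (NN Z b : Set G) →
    ¬ X a ≤ NN Z a ⊔ (X a ⊓ centralizer (X b : Set G))

theorem TA.toTA' {Z : Fin 2 → Subgroup G} {X : Subgroup G → Subgroup G} (h : TA Z X) : TA' Z X :=
  fun d a b hc _ => h d a b hc

variable [Finite G] {Z U : Fin 2 → Subgroup G} {X : Subgroup G → Subgroup G} {d : ℕ} {a b : Subgroup G}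

/-- **PC: the pair `(Z 0, Z 1)` is not critical.** -/
theorem zero_of (P : PP Z U) (F : XF Z X) (hti : TIp Z)
    (hpc : ∀ a u : Subgroup G, Adj Z a u → X u ≤ centralizer (NN Z a : Set G)) (h : CX Z X 0 (Z 0) (Z 1)) : False := by
  have h01 : Adj Z (Z 0) (Z 1) := ⟨1, by rw [map_one, one_smul], by rw [map_one, one_smul]⟩
  have h10 := P.adj_symm h01
  have h0 : IsPt Z (Z 0) := h01.pt
  have h1 : IsPt Z (Z 1) := h10.pt
  have hX0 : X (Z 0) ≤ QQ (Z 1) := P.f3 h10 (F.XQ _ h0) (hpc _ _ h10)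
  have hX1 : X (Z 1) ≤ QQ (Z 0) := P.f3 h01 (F.XQ _ h1) (hpc _ _ h01)
  have hne : Z 0 ≠ Z 1 := by
    intro e
    apply h.ne
    rw [← e]
    exact (eab_iff.1 (F.eab _ h0)).1
  apply h.ne
  intro x hx
  refine mem_centralizer_iff.2 fun y hy => ?_
  have e1 : x * y * x⁻¹ * y⁻¹ ∈ Z 0 := F.com _ h0 x hx y (hX1 hy)
  have e2 : x * y * x⁻¹ * y⁻¹ ∈ Z 1 := by
    have := inv_mem (F.com _ h1 y hy x (hX0 hx))
    have e : (y * x * y⁻¹ * x⁻¹)⁻¹ = x * y * x⁻¹ * y⁻¹ := by group
    rwa [e] at this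
  have e3 := ti_one hti h0 h1 hne e1 e2
  calc y * x = (x * y * x⁻¹ * y⁻¹)⁻¹ * (x * y) := by group
    _ = x * y := by rw [e3, inv_one, one_mul]

/-- some `m ∈ C_{N_b}(N_a)`, `m ∈ Q_a`, moves `X_a`: `a ≤ N_b` -/
theorem pt_le (hS : Sur Z U) {m : G} (hm : m ∈ NN Z b ⊓ centralizer (NN Z a : Set G)) (hmQ : m ∈ QQ a)
    (hmX : m ∉ centralizer (XW Z U a : Set G)) (hn : XW Z U a ≤ normalizer (NN Z b : Set G)) : a ≤ NN Z b := by
  obtain ⟨l, hl, hml⟩ : ∃ l, LnOn Z U a l ∧ m ∉ centralizer (l : Set G) := by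
    by_contra hcon
    push Not at hcon
    apply hmX
    have h1 : XW Z U a ≤ centralizer ({m} : Set G) := by
      refine sup_le (fun n hn => ?_) (iSup_le fun l n hn => ?_)
      · exact mem_centralizer_singleton_iff.2 (mem_centralizer_iff.1 hm.2 n hn)
      · exact mem_centralizer_singleton_iff.2 (mem_centralizer_iff.1 (hcon l l.2) n hn)
    exact mem_centralizer_iff.2 fun x hx => mem_centralizer_singleton_iff.1 (h1 hx)
  intro z hz
  obtain ⟨x, hx, e⟩ := hS.ln hl hmQ hml hz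
  rw [← e]
  exact mul_mem ((mem_normalizer_iff.1 (hn (ln_le_XW hl hx)) m).1 hm.1) (inv_mem hm.1)

/-- **THE REDUCTION** with `(1a)` for `[N_a, N_b] ≠ 1` only. -/
theorem redI (P : PP Z U) (F : XF Z (XW Z U)) (hN : NobX Z (XW Z U)) (hti : TIp Z) (hNO : NoP Z)
    (hG : TA' Z (XW Z U)) (hS : Sur Z U) (h : CX Z (XW Z U) d a b) : a ≤ NN Z b ∨ b ≤ NN Z a := by
  obtain ⟨a', b', ha', hb', hXa, hXb⟩ := h.ends P F
  have hc := crQ P F hN hti hNO h
  have hap : IsPt Z a := PP.pth_pt h.pth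
  have hbp : IsPt Z b := P.pth_pt' h.pth
  rcases hc.dich with h1 | ⟨m, hm, hmX⟩
  · right
    by_cases hNN : NN Z a ≤ centralizer (NN Z b : Set G)
    · -- `N_a` moves `X_b`
      obtain ⟨n, hn, hnX⟩ : ∃ n ∈ NN Z a, n ∉ centralizer (XW Z U b : Set G) := by
        by_contra hcon
        push Not at hcon
        exact h.ne (h1.trans (sup_le hcon inf_le_right))
      have hQ : XW Z U a ⊓ centralizer (NN Z b : Set G) ≤ QQ b :=
        P.f3 (P.adj_symm hb') (inf_le_left.trans hXa) inf_le_right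
      exact pt_le hS ⟨hn, hNN hn⟩ (hQ ⟨F.NX a hap hn, hNN hn⟩) hnX hc.YnN
    · exact (hG d a b h hNN h1).elim
  · left
    have hQ : XW Z U b ⊓ centralizer (NN Z a : Set G) ≤ QQ a :=
      P.f3 (P.adj_symm ha') (inf_le_left.trans hXb) inf_le_right
    exact pt_le hS hm (hQ ⟨F.NX b hbp hm.1, hm.2⟩) hmX hc.XnM

/-- no point of a critical pair at distance two is in the `N` of the other one -/
theorem two_aux (P : PP Z U) (F : XF Z (XW Z U))
    (hdis : ∀ a u b : Subgroup G, Adj Z u b → IsPt Z a → a ≤ NN Z u → a ≤ NN Z b → a = u ∨ a = b)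
    (h : CX Z (XW Z U) 1 a b) (h1 : a ≤ NN Z b) : False := by
  have h2 := h.pth
  have hap : IsPt Z a := PP.pth_pt h2
  cases h2 with
  | @succ _ _ u _ h3 h4 =>
    cases h3 with
    | @succ _ _ v _ h5 h6 =>
      cases h5 with
      | zero h7 =>
        rcases hdis a u b h4 hap (P.adj_symm h6).le_NN h1 with h8 | h8
        · subst h8
          exact h.ne (h.com 1 le_rfl _ _ (PP.pth_one h4))
        · subst h8
          exact h.ne (eab_iff.1 (F.eab a hap)).1

/-- **`X`-distance `2` is impossible** if the only points in `N_u ∩ N_b`, `u ~ b`, are `u` and `b`. -/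
theorem false_of_twoI (P : PP Z U) (F : XF Z (XW Z U)) (hN : NobX Z (XW Z U)) (hti : TIp Z) (hNO : NoP Z)
    (hG : TA' Z (XW Z U)) (hS : Sur Z U)
    (hdis : ∀ a u b : Subgroup G, Adj Z u b → IsPt Z a → a ≤ NN Z u → a ≤ NN Z b → a = u ∨ a = b)
    (h : CX Z (XW Z U) 1 a b) : False := by
  rcases redI P F hN hti hNO hG hS h with h1 | h1
  · exact two_aux P F hdis h h1
  · exact two_aux P F hdis (h.symm P) h1

/-- **(E): THEOREM PC, `(1a)` (for `[N_a, N_b] ≠ 1`), `(1b)`, and no point `≠ a, b` in `N_a ∩ N_b`, `a ~ b`: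
contradiction.** -/
theorem false_of_pc (P : PP Z U) (hab : IsElementaryAbelian 2 (XW Z U (Z 0)))
    (hle : XW Z U (Z 0) ≤ QQ (Z 0)) (hN : NobX Z (XW Z U)) (hti : TIp Z) (hNO : NoP Z) (hG : TA' Z (XW Z U))
    (hB : TB Z (XW Z U)) (hfx : FixN Z) (hS : Sur Z U)
    (hdis : ∀ a u b : Subgroup G, Adj Z u b → IsPt Z a → a ≤ NN Z u → a ≤ NN Z b → a = u ∨ a = b)
    (hpc : ∀ a u : Subgroup G, Adj Z a u → XW Z U u ≤ centralizer (NN Z a : Set G)) : False := by
  rcases exists_cx P hab hle hN hti hNO hB hfx with h | ⟨a, b, h⟩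
  · exact zero_of P (xf P hab hle) hti hpc h
  · exact false_of_twoI P (xf P hab hle) hN hti hNO hG hS hdis h

end Cfsg.Agent.Omega.OM.PG.TwoI

end

section


/-!
# `TA'` from THEOREM N (`false_of_H`)

`HypA Z U i W A` : the statement `(H)` (= `Plug.Hyp` of helper483).
`FalseH Z U i` : `(H)` is impossible for `A ≤ C(Z i)`, `[X_i, A] ≤ N_i`, `A` moves `N_i`.
`ta_of : FalseH Z U 0 → TA' Z (XW Z U)`.
-/

set_option autoImplicit false
set_option linter.unusedSectionVars false

namespace Cfsg.Agent.Omega.TCQ.R.PlugA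

open Subgroup Cfsg
open Cfsg.Agent.ZN Cfsg.Agent.Omega.OM.PG Cfsg.Agent.Omega.OM.PG.Peel Cfsg.Agent.Omega.OM.PG.PeelQ Cfsg.Agent.Omega.OM.PG.ExactQ
open Cfsg.Agent.Omega.NO3S.EThree Cfsg.Agent.Omega.NO3S.EThree.ExactA
open Cfsg.Agent.Omega.NoFF.Basic (comm_symm conj_conj conj_le_iff conj_le_centralizer)
open scoped Pointwise

universe u

variable {G : Type u} [Group G]

/-- **(H)** -/
def HypA (Z U : Fin 2 → Subgroup G) (i : Fin 2) (W A : Subgroup G) : Prop :=
  ∀ y : Subgroup G, IsPt Z y → y ≤ XW Z U (Z i) → y ⊓ NN Z (Z i) = ⊥ → ¬ A ≤ centralizer (y : Set G) →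
    ∀ n ∈ W, (∀ c ∈ centralizer (XW Z U (Z i) : Set G), n * c * n⁻¹ * c⁻¹ ∈ y) →
      ∀ f ∈ A, n * f * n⁻¹ * f⁻¹ ∈ NN Z (Z i)

/-- The output of THEOREM N. -/
def FalseH (Z U : Fin 2 → Subgroup G) (i : Fin 2) : Prop :=
  ∀ A : Subgroup G, IsPGroup 2 A → A ≤ centralizer (Z i : Set G) →
    (∀ x ∈ XW Z U (Z i), ∀ f ∈ A, x * f * x⁻¹ * f⁻¹ ∈ NN Z (Z i)) → ¬ A ≤ centralizer (NN Z (Z i) : Set G) →
    (∀ W : Subgroup G, IsElementaryAbelian 2 W → XW Z U (Z i) ≤ W → W ≤ QQ (Z i) →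
      normalizer (Z i : Set G) ≤ normalizer (W : Set G) → HypA Z U i W A) → False

/-- critical pairs are conjugate to critical pairs -/
theorem CX.conj {Z U : Fin 2 → Subgroup G} {X : Subgroup G → Subgroup G} (P : PP Z U)
    (hX : ∀ (g : G) (a : Subgroup G), IsPt Z a → X (MulAut.conj g • a) = MulAut.conj g • X a) {d : ℕ}
    {a b : Subgroup G} (h : CX Z X d a b) (g : G) : CX Z X d (MulAut.conj g • a) (MulAut.conj g • b) := by
  refine ⟨PP.pth_conj h.pth g, fun h1 => h.ne ?_, h.com⟩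
  rw [hX g _ (PP.pth_pt h.pth), hX g _ (P.pth_pt' h.pth)] at h1
  have h2 := conj_le_centralizer (g := g⁻¹) h1
  rwa [inv_conj_conj, inv_conj_conj] at h2

variable [Finite G] {Z U : Fin 2 → Subgroup G}

/-- `(H)` for `A = N_b`, `(Z i, b)` critical. -/
theorem hyp_of (P : PP Z U) (F : XF Z (XW Z U)) (hNO : NoP Z) (hti : TIp Z) {i : Fin 2} {W : Subgroup G}
    (hWe : IsElementaryAbelian 2 W) (hXW : XW Z U (Z i) ≤ W) (hWQ : W ≤ QQ (Z i)) {d : ℕ} {b : Subgroup G}
    (h : CX Z (XW Z U) d (Z i) b)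
    (hex : XW Z U (Z i) ≤ NN Z (Z i) ⊔ (XW Z U (Z i) ⊓ centralizer (XW Z U b : Set G))) :
    HypA Z U i W (NN Z b) := by
  intro y hy hyX hyN hmv n hnW hny f hf
  have hWW := eab_iff.1 hWe
  have hnX : n ∈ centralizer (XW Z U (Z i) : Set G) := centralizer_le hXW (hWW.1 hnW)
  have hn2 : n * n = 1 := by rw [← pow_two]; exact hWW.2 n hnW
  exact OneA.comm_mem' P F hNO hti h hex hy hyX hyN hmv (hWQ hnW) hn2 hnX hny hf

/-- **`TA'` from THEOREM N.** -/
theorem ta_of (P : PP Z U) (F : XF Z (XW Z U)) (hNO : NoP Z) (hti : TIp Z) (hF : FalseH Z U 0) :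
    TwoI.TA' Z (XW Z U) := by
  intro d a b h hnc hex
  obtain ⟨k, rfl⟩ := PP.pth_pt h.pth
  have hb := P.pth_pt' h.pth
  have h' := CX.conj P F.conj h k⁻¹
  rw [inv_conj_conj] at h'
  set b' := MulAut.conj k⁻¹ • b with hb'
  have eb : b = MulAut.conj k • b' := by rw [hb', conj_inv_conj]
  have hb'p : IsPt Z b' := hb.conj k⁻¹
  have hex' : XW Z U (Z 0) ≤ NN Z (Z 0) ⊔ (XW Z U (Z 0) ⊓ centralizer (XW Z U b' : Set G)) := by
    have h1 := conj_le_iff (g := k⁻¹) |>.2 hex
    have h2 : MulAut.conj k⁻¹ • centralizer (XW Z U b : Set G) = centralizer (XW Z U b' : Set G) := by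
      rw [hb', XW_conj]
      exact ZN.ChoiceBase.cj_centralizer k⁻¹ _
    rw [XW_conj, NN_conj, Subgroup.smul_sup, Subgroup.smul_inf, inv_conj_conj, inv_conj_conj, h2] at h1
    exact h1
  obtain ⟨a', -, ha', -, -, hXb⟩ := h'.ends P F
  have hNe := NN_eab P hb'p
  refine hF (NN Z b') ?_ ?_ ?_ ?_ (fun W hWe hXW hWQ _ => hyp_of P F hNO hti hWe hXW hWQ h' hex')
  · exact (MinSimple.VModule.o2_isPGroup _).to_le ((F.NX _ hb'p).trans hXb)
  · exact ((F.NX _ hb'p).trans hXb).trans (P.QQ_le_cent_of_adj (P.adj_symm ha'))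
  · intro x hx f hf
    exact OneA.comm_X P F h' hex' hx hf
  · intro h1
    apply hnc
    rw [eb, NN_conj, NN_conj]
    exact comm_symm (conj_le_centralizer h1)

end Cfsg.Agent.Omega.TCQ.R.PlugA

end

section


/-!
# Distance 1, no radical (helper609, TEXT R4 #19278 (5)), the module part: (a), (b), (c)

`H` acts on the elementary abelian 2-group `N` generated by the points `h • e`; `V = {0, e, e', e + e'}` is the line of
`L`; `X` is a group of transvections with centre `e`, trivial on `V`; `T ≤ L` is a 2-group and `e` is the only vector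
`≠ 0` fixed by `T`.

* `Tr H u φ` : `H` induces `x ↦ x + φ(x) u`; `Tr.key`, `nperp_symm` : (a);
* `Dat` : the hypotheses; `Dat.conn` : connectedness of the points by lines;
* `Dat.perp` : (a) `φ(e') = 0` for `Tr H e φ`;
* `Dat.uniq` : (b) there is at most one `φ ≠ 0` with `Tr H e φ`.
-/

set_option autoImplicit false
set_option linter.unusedSectionVars false

namespace Cfsg.Agent.Omega.OM.PG.SymD1

open Module

section Base

variable {H N : Type*} [Group H] [AddCommGroup N] [Module (ZMod 2) N] [DistribMulAction H N]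

/-- the linear map of `h` -/
def lm (h : H) : N →ₗ[ZMod 2] N := (DistribSMul.toAddMonoidHom N h).toZModLinearMap 2

theorem lm_apply (h : H) (n : N) : lm h n = h • n := rfl

theorem smul_c (h : H) (c : ZMod 2) (n : N) : h • (c • n) = c • (h • n) := (lm h).map_smul c n

theorem two_cases (c : ZMod 2) : c = 0 ∨ c = 1 := by
  revert c; decide

theorem c_add_self (c : ZMod 2) : c + c = 0 := by
  revert c; decide

theorem n_add_self (n : N) : n + n = 0 := ZModModule.add_self n

theorem eq_of_add {a b : N} (h : a + b = 0) : a = b := by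
  have h1 : a + b + b = 0 + b := by rw [h]
  rwa [add_assoc, n_add_self, add_zero, zero_add] at h1

theorem add_add_self' (a b : N) : a + b + b = a := by rw [add_assoc, n_add_self, add_zero]

theorem add_self_add (a b : N) : a + (a + b) = b := by rw [← add_assoc, n_add_self, zero_add]

theorem c_eq_zero {c : ZMod 2} {n : N} (hn : n ≠ 0) (h : c • n = 0) : c = 0 := by
  rcases two_cases c with e | e
  · exact e
  · rw [e, one_smul] at h
    exact absurd h hn

/-- `H` induces the transvection `x ↦ x + φ(x) u` -/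
def Tr (H : Type*) {N : Type*} [Group H] [AddCommGroup N] [Module (ZMod 2) N] [DistribMulAction H N] (u : N)
    (φ : Dual (ZMod 2) N) : Prop := φ u = 0 ∧ ∃ h : H, ∀ x : N, h • x = x + φ x • u

/-- `w` is not perpendicular to `u` -/
def NP (H : Type*) {N : Type*} [Group H] [AddCommGroup N] [Module (ZMod 2) N] [DistribMulAction H N] (u w : N) :
    Prop := ∃ φ : Dual (ZMod 2) N, Tr H u φ ∧ φ w = 1

namespace Tr

theorem zero (u : N) : Tr H u 0 := ⟨rfl, 1, fun x => by simp⟩

theorem add {u : N} {φ ψ : Dual (ZMod 2) N} (h1 : Tr H u φ) (h2 : Tr H u ψ) : Tr H u (φ + ψ) := by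
  obtain ⟨h1', h, hh⟩ := h1
  obtain ⟨h2', k, hk⟩ := h2
  refine ⟨by rw [LinearMap.add_apply, h1', h2', add_zero], h * k, fun x => ?_⟩
  rw [mul_smul, hk, smul_add, hh, smul_c, hh, h1', zero_smul, add_zero, LinearMap.add_apply, add_smul]
  abel

/-- the same functional at two points -/
theorem add_pt {u w : N} {φ : Dual (ZMod 2) N} (h1 : Tr H u φ) (h2 : Tr H w φ) : Tr H (u + w) φ := by
  obtain ⟨h1', h, hh⟩ := h1
  obtain ⟨h2', k, hk⟩ := h2
  refine ⟨by rw [map_add, h1', h2', add_zero], h * k, fun x => ?_⟩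
  rw [mul_smul, hk, smul_add, hh, smul_c, hh, h2', zero_smul, add_zero, smul_add]
  abel

theorem smul {u : N} {φ : Dual (ZMod 2) N} (h1 : Tr H u φ) (g : H) : Tr H (g • u) (φ.comp (lm g⁻¹)) := by
  obtain ⟨h1', h, hh⟩ := h1
  refine ⟨?_, g * h * g⁻¹, fun x => ?_⟩
  · rw [LinearMap.comp_apply, lm_apply, inv_smul_smul, h1']
  · rw [mul_smul, mul_smul, hh, smul_add, smul_inv_smul, smul_c, LinearMap.comp_apply, lm_apply]

/-- `φ(w) = 1`, `ψ(u) = 0` : the transvection with centre `w` and functional `ψ` gives one with centre `u` -/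
theorem key {u w : N} {φ ψ : Dual (ZMod 2) N} (h1 : Tr H u φ) (hw : φ w = 1) (h2 : Tr H w ψ) (hu : ψ u = 0) :
    Tr H u ψ := by
  obtain ⟨h1', h, hh⟩ := h1
  have h3 : h • w = w + u := by rw [hh, hw, one_smul]
  have h4 : Tr H (h • w) (ψ.comp (lm h⁻¹)) := h2.smul h
  have h5 : ψ.comp (lm h⁻¹) = ψ := by
    ext x
    rw [LinearMap.comp_apply, lm_apply]
    obtain ⟨y, rfl⟩ : ∃ y, x = h • y := ⟨h⁻¹ • x, (smul_inv_smul h x).symm⟩
    rw [inv_smul_smul, hh, map_add, map_smul, hu, smul_zero, add_zero]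
  rw [h5, h3] at h4
  have h6 := h2.add_pt h4
  rwa [add_self_add] at h6

end Tr

variable [Finite N]

instance finite_dual : Finite (Dual (ZMod 2) N) := DFunLike.finite _

theorem ncard_le (u : N) (g : H) : {φ | Tr H u φ}.ncard ≤ {φ | Tr H (g • u) φ}.ncard := by
  refine Set.ncard_le_ncard_of_injOn (fun φ => φ.comp (lm g⁻¹)) (fun φ hφ => Tr.smul hφ g) ?_ (Set.toFinite _)
  intro φ _ ψ _ h
  ext x
  have h1 := LinearMap.congr_fun h (g • x)
  simpa [LinearMap.comp_apply, lm_apply] using h1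

/-- **(a)** symmetry -/
theorem nperp_symm {u : N} {g : H} (h : NP H u (g • u)) : NP H (g • u) u := by
  obtain ⟨φ, hφ, h1⟩ := h
  by_contra hcon
  have h2 : ∀ ψ, Tr H (g • u) ψ → ψ u = 0 := by
    intro ψ hψ
    rcases two_cases (ψ u) with e | e
    · exact e
    · exact absurd ⟨ψ, hψ, e⟩ hcon
  have h3 : {ψ | Tr H (g • u) ψ} ⊂ {ψ | Tr H u ψ} := by
    refine ⟨fun ψ hψ => hφ.key h1 hψ (h2 ψ hψ), fun h4 => ?_⟩
    have h5 : Tr H (g • u) φ := h4 hφ
    rw [h5.1] at h1
    exact zero_ne_one h1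
  have h4 := Set.ncard_lt_ncard h3 (Set.toFinite _)
  have h5 := ncard_le (H := H) u g
  omega

end Base

/-! ### The hypotheses -/

variable {H N : Type*} [Group H] [AddCommGroup N] [Module (ZMod 2) N] [DistribMulAction H N]

/-- **The hypotheses** on `N` -/
structure Dat (H N : Type*) [Group H] [AddCommGroup N] [Module (ZMod 2) N] [DistribMulAction H N]
    (T L X : Subgroup H) (e e' : N) : Prop where
  e_ne : e ≠ 0
  ne : e' ≠ e
  L_e : ∀ l ∈ L, l • e = e ∨ l • e = e' ∨ l • e = e + e'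
  L_e' : ∀ l ∈ L, l • e' = e ∨ l • e' = e' ∨ l • e' = e + e'
  mv : ∃ l ∈ L, l • e = e'
  TL : T ≤ L
  T_e : ∀ t ∈ T, t • e = e
  T_two : IsPGroup 2 T
  fix : ∀ n : N, (∀ t ∈ T, t • n = n) → n = 0 ∨ n = e
  gen : ∀ K : Subgroup H, (∀ h : H, h • e = e → h ∈ K) → L ≤ K → K = ⊤
  span : ∀ M : AddSubgroup N, (∀ h : H, h • e ∈ M) → M = ⊤
  X_e : ∀ x ∈ X, ∀ n : N, x • n = n ∨ x • n = n + e
  X_e' : ∀ x ∈ X, x • e' = e'
  X_ne : ∃ x ∈ X, ∃ n : N, x • n ≠ n
  X_norm : ∀ h : H, h • e = e → ∀ x ∈ X, h * x * h⁻¹ ∈ X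

namespace Dat

variable [Finite N] {T L X : Subgroup H} {e e' : N} (D : Dat H N T L X e e')
include D

theorem e'_ne : e' ≠ 0 := by
  obtain ⟨l, hl, h⟩ := D.mv
  intro h1
  rw [h1, smul_eq_zero_iff_eq] at h
  exact D.e_ne h

theorem e''_ne : e + e' ≠ 0 := fun h => D.ne (eq_of_add h).symm

/-- some element of `L` maps `e` to `e + e'` -/
theorem mv' : ∃ l ∈ L, l • e = e + e' := by
  obtain ⟨l, hl, h⟩ := D.mv
  have h1 : ∃ t ∈ T, t • e' ≠ e' := by
    by_contra hcon
    push Not at hcon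
    rcases D.fix e' hcon with h2 | h2
    · exact D.e'_ne h2
    · exact D.ne h2
  obtain ⟨t, ht, hte⟩ := h1
  refine ⟨t * l, L.mul_mem (D.TL ht) hl, ?_⟩
  rw [mul_smul, h]
  rcases D.L_e' t (D.TL ht) with h2 | h2 | h2
  · exfalso
    rw [← D.T_e t ht] at h2
    exact D.ne (smul_left_cancel t h2)
  · exact absurd h2 hte
  · exact h2

/-- the points are connected by lines -/
theorem conn (Pr : N → Prop) (h0 : Pr e) (hs : ∀ h : H, Pr (h • e) → Pr (h • e') ∧ Pr (h • (e + e'))) :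
    ∀ h : H, Pr (h • e) := by
  have hs' : ∀ h : H, Pr (h • e) → ∀ l ∈ L, Pr (h • l • e) := by
    intro h hh l hl
    rcases D.L_e l hl with h1 | h1 | h1
    · rwa [h1]
    · rw [h1]; exact (hs h hh).1
    · rw [h1]; exact (hs h hh).2
  let K : Subgroup H :=
    { carrier := {k | ∀ h : H, Pr (h • e) ↔ Pr ((h * k) • e)}
      one_mem' := fun h => by rw [mul_one]
      mul_mem' := fun {a b} ha hb h => by rw [ha h, hb (h * a), mul_assoc]
      inv_mem' := fun {a} ha h => by
        have := ha (h * a⁻¹)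
        rw [inv_mul_cancel_right] at this
        exact this.symm }
  have hK : K = ⊤ := by
    refine D.gen K (fun k hk h => ?_) (fun l hl h => ⟨fun hh => ?_, fun hh => ?_⟩)
    · rw [mul_smul, hk]
    · rw [mul_smul]; exact hs' h hh l hl
    · have := hs' (h * l) hh l⁻¹ (L.inv_mem hl)
      rwa [mul_smul, smul_inv_smul] at this
  intro h
  have h1 : h ∈ K := by rw [hK]; exact Subgroup.mem_top h
  have h2 := (h1 1).1 (by rwa [one_smul])
  rwa [one_mul] at h2

/-- two functionals which agree on the points -/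
theorem ext_pts {φ ψ : Dual (ZMod 2) N} (h : ∀ g : H, φ (g • e) = ψ (g • e)) : φ = ψ := by
  have h1 := D.span ((LinearMap.ker (φ - ψ)).toAddSubgroup) (fun g => by
    show g • e ∈ LinearMap.ker (φ - ψ)
    rw [LinearMap.mem_ker, LinearMap.sub_apply, h, sub_self])
  ext x
  have h2 : x ∈ (LinearMap.ker (φ - ψ)).toAddSubgroup := by rw [h1]; exact AddSubgroup.mem_top x
  have h3 : (φ - ψ) x = 0 := LinearMap.mem_ker.1 h2
  rwa [LinearMap.sub_apply, sub_eq_zero] at h3

theorem exists_pt {φ : Dual (ZMod 2) N} (h : φ ≠ 0) : ∃ g : H, φ (g • e) = 1 := by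
  by_contra hcon
  push Not at hcon
  refine h (D.ext_pts fun g => ?_)
  rcases two_cases (φ (g • e)) with h1 | h1
  · exact h1
  · exact absurd h1 (hcon g)

theorem symm {g k : H} (h : NP H (g • e) (k • e)) : NP H (k • e) (g • e) := by
  have e1 : k • e = (k * g⁻¹) • (g • e) := by rw [← mul_smul, inv_mul_cancel_right]
  rw [e1] at h ⊢
  exact nperp_symm h

/-- a `T`-invariant subgroup `≠ 0` contains `e` -/
theorem mem_of_inv (M : AddSubgroup N) (hT : ∀ t ∈ T, ∀ n ∈ M, t • n ∈ M) (hne : M ≠ ⊥) : e ∈ M := by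
  have : Fact (Nat.Prime 2) := ⟨Nat.prime_two⟩
  let _ : MulAction T M :=
    { smul := fun t n => ⟨(t : H) • (n : N), hT t t.2 n n.2⟩
      one_smul := fun n => Subtype.ext (one_smul H (n : N))
      mul_smul := fun s t n => Subtype.ext (mul_smul (s : H) (t : H) (n : N)) }
  obtain ⟨n, hn, hn0⟩ := (AddSubgroup.ne_bot_iff_exists_ne_zero.1 hne : ∃ a : M, a ≠ 0)|>.elim
    (fun a ha => (⟨a, a.2, fun h => ha (Subtype.ext h)⟩ : ∃ n, n ∈ M ∧ n ≠ 0))
  have h2 : 2 ∣ Nat.card M := by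
    have h3 : addOrderOf (⟨n, hn⟩ : M) ∣ Nat.card M := addOrderOf_dvd_natCard _
    have h4 : addOrderOf (⟨n, hn⟩ : M) = 2 := by
      refine addOrderOf_eq_prime (by rw [two_nsmul]; exact Subtype.ext (n_add_self n)) (fun h => hn0 ?_)
      exact congrArg Subtype.val h
    rwa [h4] at h3
  obtain ⟨d, hd, hd1⟩ := D.T_two.exists_fixed_point_of_prime_dvd_card_of_fixed_point M h2 (a := 0) (by
    intro t
    apply Subtype.ext
    show (t : H) • (0 : N) = 0
    exact smul_zero _)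
  rcases D.fix d (fun t ht => congrArg Subtype.val (hd ⟨t, ht⟩ : (⟨t, ht⟩ : T) • d = d)) with h5 | h5
  · exact absurd (Subtype.ext h5).symm hd1
  · rw [← h5]; exact d.2

/-! ### (a) lines are totally perpendicular -/

/-- for `NP e e'` the annihilator of the functionals of `e` is `{0, e}` -/
theorem ann_of_np (h0 : NP H e e') {n : N} (hn : ∀ φ, Tr H e φ → φ n = 0) : n = 0 ∨ n = e := by
  obtain ⟨l, hl, hle⟩ := D.mv
  -- the subgroup `C⁰`
  let C0 : AddSubgroup N :=
    { carrier := {n | ∀ l ∈ L, ∀ φ, Tr H (l • e) φ → φ n = 0}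
      zero_mem' := fun l _ φ _ => map_zero φ
      add_mem' := fun {a b} ha hb l hl φ hφ => by rw [map_add, ha l hl φ hφ, hb l hl φ hφ, add_zero]
      neg_mem' := fun {a} ha l hl φ hφ => by rw [map_neg, ha l hl φ hφ, neg_zero] }
  have hC0 : C0 = ⊥ := by
    by_contra hne
    have h1 : e ∈ C0 := by
      refine D.mem_of_inv C0 (fun t ht n hn l hl φ hφ => ?_) hne
      have h2 := hφ.smul t⁻¹
      rw [← mul_smul] at h2
      have h3 := hn (t⁻¹ * l) (L.mul_mem (L.inv_mem (D.TL ht)) hl) _ h2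
      rwa [LinearMap.comp_apply, lm_apply, inv_inv] at h3
    have h2 : NP H e (l • e) := by rw [hle]; exact h0
    obtain ⟨ψ, hψ, hψ1⟩ := nperp_symm h2
    rw [h1 l hl ψ hψ] at hψ1
    exact zero_ne_one hψ1
  have h0' : NP H e (l • e) := by rw [hle]; exact h0
  have h0s : NP H e' e := by
    have := nperp_symm h0'
    rwa [hle] at this
  obtain ⟨φ0, hφ0, hφ01⟩ := h0
  obtain ⟨ψ0, hψ0, hψ01⟩ := h0s
  -- functionals of `e'` which kill `e` are functionals of `e`
  have hk : ∀ ψ, Tr H e' ψ → ψ e = 0 → Tr H e ψ := fun ψ hψ h1 => hφ0.key hφ01 hψ h1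
  -- an element killed by the functionals of `e` and `e'`
  have key : ∀ n : N, (∀ φ, Tr H e φ → φ n = 0) → (∀ φ, Tr H e' φ → φ n = 0) → n = 0 := by
    intro n h1 h2
    have h3 : n ∈ C0 := by
      intro l hl φ hφ
      rcases D.L_e l hl with h | h | h
      · rw [h] at hφ; exact h1 φ hφ
      · rw [h] at hφ; exact h2 φ hφ
      · rw [h] at hφ
        -- `e + e' = t • e` for the transvection `t` with centre `e'`
        obtain ⟨h4, g, hg⟩ := hψ0
        have h5 : g • e = e + e' := by rw [hg, hψ01, one_smul]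
        rw [← h5] at hφ
        have h6 := hφ.smul g⁻¹
        rw [inv_smul_smul, inv_inv] at h6
        have h7 := h1 _ h6
        rw [LinearMap.comp_apply, lm_apply, hg, map_add, map_smul, h2 ψ0 ⟨h4, g, hg⟩, zero_smul, add_zero] at h7
        exact h7
    rw [hC0] at h3
    exact AddSubgroup.mem_bot.1 h3
  by_cases h1 : ∀ ψ, Tr H e' ψ → ψ n = 0
  · exact Or.inl (key n hn h1)
  · right
    push Not at h1
    obtain ⟨ψ1, hψ1, hψ1n⟩ := h1
    have hψ1n' : ψ1 n = 1 := (two_cases _).resolve_left hψ1n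
    have hψ1e : ψ1 e = 1 := by
      rcases two_cases (ψ1 e) with h | h
      · exact absurd (hn ψ1 (hk ψ1 hψ1 h)) hψ1n
      · exact h
    refine eq_of_add (key (n + e) (fun φ hφ => ?_) fun ψ hψ => ?_)
    · rw [map_add, hn φ hφ, hφ.1, add_zero]
    · rcases two_cases (ψ e) with h | h
      · rw [map_add, h, hn ψ (hk ψ hψ h), add_zero]
      · have h2 : (ψ + ψ1) e = 0 := by rw [LinearMap.add_apply, h, hψ1e, c_add_self]
        have h3 := hn _ (hk _ (hψ.add hψ1) h2)
        rw [LinearMap.add_apply, hψ1n'] at h3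
        rw [map_add, h]
        exact h3

/-- for `NP e e'` every functional which kills `e` is one of `e` -/
theorem tr_of_np (h0 : NP H e e') {φ : Dual (ZMod 2) N} (hφ : φ e = 0) : Tr H e φ := by
  let W : Submodule (ZMod 2) (Dual (ZMod 2) N) :=
    { carrier := {φ | Tr H e φ}
      zero_mem' := Tr.zero e
      add_mem' := fun {a b} ha hb => Tr.add ha hb
      smul_mem' := fun c a ha => by
        rcases two_cases c with h | h
        · rw [h, zero_smul]; exact Tr.zero e
        · rw [h, one_smul]; exact ha }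
  have h1 : W.dualCoannihilator ≤ LinearMap.ker φ := by
    intro n hn
    rw [Submodule.mem_dualCoannihilator] at hn
    rcases D.ann_of_np h0 (n := n) (fun ψ hψ => hn ψ hψ) with h | h
    · rw [h]; exact Submodule.zero_mem _
    · rw [h]; exact hφ
  have h2 : φ ∈ W.dualCoannihilator.dualAnnihilator := by
    rw [Submodule.mem_dualAnnihilator]
    exact fun n hn => h1 hn
  rwa [Subspace.dualCoannihilator_dualAnnihilator_eq] at h2

/-- separation -/
theorem sep {p q x : N} (h1 : x ≠ 0) (h2 : x ≠ p) (h3 : x ≠ q) (h4 : x ≠ p + q) :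
    ∃ φ : Dual (ZMod 2) N, φ p = 0 ∧ φ q = 0 ∧ φ x = 1 := by
  have h5 : x ∉ Submodule.span (ZMod 2) {p, q} := by
    rw [Submodule.mem_span_pair]
    rintro ⟨a, b, h⟩
    rcases two_cases a with ha | ha <;> rcases two_cases b with hb | hb <;> rw [ha, hb] at h <;>
      simp only [zero_smul, one_smul, add_zero, zero_add] at h
    · exact h1 h.symm
    · exact h3 h.symm
    · exact h2 h.symm
    · exact h4 h.symm
  obtain ⟨f, hf, hf'⟩ := Submodule.exists_dual_map_eq_bot_of_notMem h5 inferInstance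
  have h6 : ∀ y ∈ Submodule.span (ZMod 2) {p, q}, f y = 0 := by
    intro y hy
    have : f y ∈ Submodule.map f (Submodule.span (ZMod 2) {p, q}) := Submodule.mem_map_of_mem hy
    rwa [hf', Submodule.mem_bot] at this
  exact ⟨f, h6 p (Submodule.subset_span (by simp)), h6 q (Submodule.subset_span (by simp)),
    (two_cases _).resolve_left hf⟩

/-- **(a)** lines are totally perpendicular -/
theorem perp {φ : Dual (ZMod 2) N} (hφ : Tr H e φ) : φ e' = 0 := by
  by_contra hcon
  have h0 : NP H e e' := ⟨φ, hφ, (two_cases _).resolve_left hcon⟩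
  have hall : ∀ (g : H) (ψ : Dual (ZMod 2) N), ψ (g • e) = 0 → Tr H (g • e) ψ := by
    intro g ψ hψ
    have h1 : Tr H e (ψ.comp (lm g)) := D.tr_of_np h0 (by rw [LinearMap.comp_apply, lm_apply, hψ])
    have h2 := h1.smul g
    have h3 : (ψ.comp (lm g)).comp (lm g⁻¹) = ψ := by
      ext x
      rw [LinearMap.comp_apply, LinearMap.comp_apply, lm_apply, lm_apply, smul_inv_smul]
    rwa [h3] at h2
  -- all vectors `≠ 0` are points
  have hpt : ∀ n : N, n = 0 ∨ ∃ g : H, n = g • e := by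
    let M : AddSubgroup N :=
      { carrier := {n | n = 0 ∨ ∃ g : H, n = g • e}
        zero_mem' := Or.inl rfl
        add_mem' := by
          rintro a b (rfl | ⟨g, rfl⟩) (rfl | ⟨k, rfl⟩)
          · left; rw [add_zero]
          · right; exact ⟨k, by rw [zero_add]⟩
          · right; exact ⟨g, by rw [add_zero]⟩
          · by_cases h1 : g • e = k • e
            · left; rw [h1, n_add_self]
            · right
              have hg0 : g • e ≠ 0 := fun h => D.e_ne ((smul_eq_zero_iff_eq g).1 h)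
              have hk0 : k • e ≠ 0 := fun h => D.e_ne ((smul_eq_zero_iff_eq k).1 h)
              obtain ⟨ψ, hψ1, -, hψ2⟩ := D.sep (p := g • e) (q := g • e) (x := k • e) hk0 (fun h => h1 h.symm)
                (fun h => h1 h.symm) (by rw [n_add_self]; exact hk0)
              obtain ⟨-, h, hh⟩ := hall g ψ hψ1
              exact ⟨h * k, by rw [mul_smul, hh, hψ2, one_smul, add_comm]⟩
        neg_mem' := by
          intro a ha
          have h1 : -a = a := ZModModule.neg_eq_self a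
          rw [h1]
          exact ha }
    intro n
    have h1 : M = ⊤ := D.span M fun h => Or.inr ⟨h, rfl⟩
    have h2 : n ∈ M := by rw [h1]; exact AddSubgroup.mem_top n
    exact h2
  -- `X` centralises everything
  obtain ⟨x, hx, n, hn⟩ := D.X_ne
  apply hn
  have hxe : ∀ x ∈ X, x • e = e := by
    intro x hx
    rcases D.X_e x hx e with h | h
    · exact h
    · rw [n_add_self, smul_eq_zero_iff_eq] at h
      exact absurd h D.e_ne
  -- `n` is `0`, in the line or an image of `e'` under the stabiliser of `e`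
  by_cases hn0 : n = 0
  · rw [hn0, smul_zero]
  by_cases hne : n = e
  · rw [hne, hxe x hx]
  by_cases hne' : n = e'
  · rw [hne', D.X_e' x hx]
  by_cases hne'' : n = e + e'
  · rw [hne'', smul_add, hxe x hx, D.X_e' x hx]
  have hp : n + e' ≠ 0 := fun h => hne' (eq_of_add h)
  obtain ⟨g, hg⟩ := (hpt (n + e')).resolve_left hp
  obtain ⟨ψ, hψ1, hψ2, hψ3⟩ := D.sep (p := n + e') (q := e) (x := e') D.e'_ne
    (fun h => hn0 (by
      have : n + e' + e' = e' + e' := by rw [← h]
      rwa [add_add_self', n_add_self] at this)) D.ne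
    (fun h => hne (by
      have h1 : e' + e' = n + e' + e + e' := by rw [← h]
      have h2 : n + e' + e + e' = n + e := by
        rw [add_assoc, add_assoc, add_comm e e', ← add_assoc e' e' e, n_add_self, zero_add]
      rw [n_add_self, h2] at h1
      exact eq_of_add h1.symm))
  rw [hg] at hψ1
  obtain ⟨-, h, hh⟩ := hall g ψ hψ1
  have h1 : h • e = e := by rw [hh, hψ2, zero_smul, add_zero]
  have h2 : h • e' = n := by
    rw [hh, hψ3, one_smul, ← hg, add_comm, add_add_self']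
  have h3 : h⁻¹ * x * h ∈ X := by
    have := D.X_norm h⁻¹ (by nth_rewrite 1 [← h1]; rw [inv_smul_smul]) x hx
    rwa [inv_inv] at this
  have h4 := D.X_e' _ h3
  rw [mul_smul, mul_smul, inv_smul_eq_iff, h2] at h4
  exact h4

/-! ### (b) there is only one functional -/

/-- the functionals of `g • e` are trivial on the line `g • V` -/
theorem perp_smul {g : H} {φ : Dual (ZMod 2) N} (hφ : Tr H (g • e) φ) : φ (g • e') = 0 := by
  have h1 := hφ.smul g⁻¹
  rw [inv_smul_smul, inv_inv] at h1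
  have h2 := D.perp h1
  rwa [LinearMap.comp_apply, lm_apply] at h2

/-- **(b)** -/
theorem uniq {φ ψ : Dual (ZMod 2) N} (hφ : Tr H e φ) (hψ : Tr H e ψ) (hφ0 : φ ≠ 0) (hψ0 : ψ ≠ 0) : φ = ψ := by
  by_contra hne
  apply hφ0
  have key : ∀ g : H, Tr H (g • e) φ := by
    refine D.conn (fun p => Tr H p φ) hφ fun h hh => ?_
    -- another functional of `p = h • e`
    obtain ⟨ψ1, hψ1, hψ10, hψ1φ⟩ : ∃ ψ1, Tr H (h • e) ψ1 ∧ ψ1 ≠ 0 ∧ ψ1 ≠ φ := by
      have hc : ∀ χ : Dual (ZMod 2) N, χ ≠ 0 → χ.comp (lm h⁻¹) ≠ 0 := by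
        intro χ hχ h1
        apply hχ
        ext x
        have h2 := LinearMap.congr_fun h1 (h • x)
        rwa [LinearMap.comp_apply, lm_apply, inv_smul_smul] at h2
      by_cases h1 : φ.comp (lm h⁻¹) = φ
      · refine ⟨ψ.comp (lm h⁻¹), hψ.smul h, hc ψ hψ0, fun h2 => hne ?_⟩
        ext x
        have h3 := LinearMap.congr_fun (h1.trans h2.symm) (h • x)
        rwa [LinearMap.comp_apply, LinearMap.comp_apply, lm_apply, inv_smul_smul] at h3
      · exact ⟨φ.comp (lm h⁻¹), hφ.smul h, hc φ hφ0, h1⟩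
    -- a point `p'` which is not perpendicular to `p` with `φ (p') = 0`
    obtain ⟨k, hk, hkφ⟩ : ∃ k : H, NP H (h • e) (k • e) ∧ φ (k • e) = 0 := by
      by_contra hcon
      push Not at hcon
      have h1 : ∀ k : H, φ (k • e) = 0 → ψ1 (k • e) = 0 := by
        intro k hk
        rcases two_cases (ψ1 (k • e)) with h2 | h2
        · exact h2
        · exact absurd hk (hcon k ⟨ψ1, hψ1, h2⟩)
      obtain ⟨g2, hg2⟩ := D.exists_pt hψ10
      have hg2' : φ (g2 • e) = 1 := by
        rcases two_cases (φ (g2 • e)) with h2 | h2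
        · rw [h1 g2 h2] at hg2
          exact absurd hg2 zero_ne_one
        · exact h2
      obtain ⟨g1, hg1⟩ := D.exists_pt (φ := φ + ψ1) (fun h2 => hψ1φ (by
        have h3 : φ + ψ1 + ψ1 = 0 + ψ1 := by rw [h2]
        have h4 : ψ1 + ψ1 = 0 := by
          ext x
          rw [LinearMap.add_apply, c_add_self]; rfl
        rw [add_assoc, h4, add_zero, zero_add] at h3
        exact h3.symm))
      rw [LinearMap.add_apply] at hg1
      have hg1' : φ (g1 • e) = 1 ∧ ψ1 (g1 • e) = 0 := by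
        rcases two_cases (φ (g1 • e)) with h2 | h2
        · rw [h2, h1 g1 h2, add_zero] at hg1
          exact absurd hg1 zero_ne_one
        · refine ⟨h2, ?_⟩
          rw [h2] at hg1
          exact add_eq_left.1 hg1
      obtain ⟨φ', hφ', hφ'1⟩ := D.symm (g := h) (k := g1) ⟨φ, hh, hg1'.1⟩
      have h2 : Tr H (g1 • e) ψ1 := hφ'.key hφ'1 hψ1 hg1'.2
      obtain ⟨-, t, ht⟩ := h2
      have h3 : (t * g2) • e = g2 • e + g1 • e := by rw [mul_smul, ht, hg2, one_smul]
      have h4 := h1 (t * g2) (by rw [h3, map_add, hg2', hg1'.1, c_add_self])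
      rw [h3, map_add, hg2, hg1'.2, add_zero] at h4
      exact one_ne_zero h4
    -- `p' ∈ P0`
    obtain ⟨φ', hφ', hφ'1⟩ := D.symm hk
    have hkP : Tr H (k • e) φ := hφ'.key hφ'1 hh hkφ
    obtain ⟨l, hl, hle⟩ := D.mv
    obtain ⟨l', hl', hle'⟩ := D.mv'
    -- the two other points of the line
    have two : ∀ g : H, φ (g • e) = 0 → φ' (g • e) = 1 → Tr H (g • e) φ := by
      intro g h1 h2
      obtain ⟨χ, hχ, hχ1⟩ := D.symm (g := k) (k := g) ⟨φ', hφ', h2⟩
      exact hχ.key hχ1 hkP h1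
    have h1 : φ (h • e') = 0 := D.perp_smul hh
    have h2 : φ (h • (e + e')) = 0 := by rw [smul_add, map_add, hh.1, h1, add_zero]
    have e1 : h • e' = (h * l) • e := by rw [mul_smul, hle]
    have e2 : h • (e + e') = (h * l') • e := by rw [mul_smul, hle']
    rcases two_cases (φ' (h • e')) with h3 | h3
    · have h4 : φ' (h • (e + e')) = 1 := by rw [smul_add, map_add, h3, add_zero, hφ'1]
      have h5 : Tr H (h • (e + e')) φ := by
        rw [e2] at h2 h4 ⊢
        exact two _ h2 h4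
      refine ⟨?_, h5⟩
      have h6 := hh.add_pt h5
      rwa [smul_add, add_self_add] at h6
    · have h5 : Tr H (h • e') φ := by
        rw [e1] at h1 h3 ⊢
        exact two _ h1 h3
      refine ⟨h5, ?_⟩
      have h6 := hh.add_pt h5
      rwa [← smul_add] at h6
  refine D.ext_pts fun g => ?_
  rw [(key g).1]; rfl

end Dat

end Cfsg.Agent.Omega.OM.PG.SymD1

end

section


/-!
# Distance 1, no radical (helper609, TEXT R4 #19278 (5)), the module part: (c), (d), (e)

* `DatQ` : `Dat`, and the module `Q` (= `Q₁ / C_{Q₁}(W₁)`) with the vector `ν` (= the image of `N₂`), on which the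
  elements of `X` act as `1` or with `[Q, x] ≤ ⟨ν⟩`, and a functional `y` (= the image of `V₁`) fixed by `L`;
* `DatQ.kap_eq` : (d) `κ(g • ν) = φ₀(g • e)`;
* `DatQ.y_eq_zero` : **(e)** `y (h • ν) = 0` for all `h`.
-/

set_option autoImplicit false
set_option linter.unusedSectionVars false

namespace Cfsg.Agent.Omega.OM.PG.SymD1

open Module

variable {H N : Type*} [Group H] [AddCommGroup N] [Module (ZMod 2) N] [DistribMulAction H N]

namespace Dat

variable [Finite N] {T L X : Subgroup H} {e e' : N} (D : Dat H N T L X e e')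
include D

/-! ### (c) -/

theorem X_ee {x : H} (hx : x ∈ X) : x • e = e := by
  rcases D.X_e x hx e with h | h
  · exact h
  · rw [n_add_self, smul_eq_zero_iff_eq] at h
    exact absurd h D.e_ne

/-- every element of `X` is a transvection -/
theorem exists_fun {x : H} (hx : x ∈ X) : ∃ φ : Dual (ZMod 2) N, ∀ n : N, x • n = n + φ n • e := by
  classical
  have hf : ∀ n : N, ∃ c : ZMod 2, x • n = n + c • e := by
    intro n
    rcases D.X_e x hx n with h | h
    · exact ⟨0, by rw [zero_smul, add_zero, h]⟩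
    · exact ⟨1, by rw [one_smul, h]⟩
  choose f hf using hf
  have hadd : ∀ a b : N, f (a + b) = f a + f b := by
    intro a b
    have h1 : a + b + f (a + b) • e = (a + f a • e) + (b + f b • e) := by rw [← hf, ← hf, ← hf, smul_add]
    have h2 : (f (a + b) - (f a + f b)) • e = 0 := by
      rw [sub_smul, add_smul]
      have h3 : a + b + f (a + b) • e = a + b + (f a • e + f b • e) := by rw [h1]; abel
      rw [add_left_cancel h3, sub_self]
    have h3 := c_eq_zero D.e_ne h2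
    rwa [sub_eq_zero] at h3
  have h0 : f 0 = 0 := by
    have h1 := hadd 0 0
    rw [add_zero] at h1
    exact add_eq_left.1 h1.symm
  exact ⟨(({ toFun := f, map_zero' := h0, map_add' := hadd } : N →+ ZMod 2)).toZModLinearMap 2, hf⟩

theorem exists_phi : ∃ (x : H) (φ : Dual (ZMod 2) N), x ∈ X ∧ (∀ n : N, x • n = n + φ n • e) ∧ φ ≠ 0 ∧ Tr H e φ := by
  obtain ⟨x, hx, n, hn⟩ := D.X_ne
  obtain ⟨φ, hφ⟩ := D.exists_fun hx
  refine ⟨x, φ, hx, hφ, fun h => hn (by rw [hφ, h]; simp), ?_, x, hφ⟩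
  have h1 := hφ e
  rw [D.X_ee hx] at h1
  exact c_eq_zero D.e_ne (add_eq_left.1 h1.symm)

end Dat

section

variable [Finite N] {T L X : Subgroup H} {e e' : N} (D : Dat H N T L X e e') {x : H} {φ : Dual (ZMod 2) N}
  (hx : x ∈ X) (hφ : ∀ n : N, x • n = n + φ n • e) (hφ0 : φ ≠ 0)
include D hx hφ hφ0

theorem phi_e : φ e = 0 := by
  have h1 := hφ e
  rw [D.X_ee hx] at h1
  exact c_eq_zero D.e_ne (add_eq_left.1 h1.symm)

theorem phi_tr : Tr H e φ := ⟨phi_e D hx hφ hφ0, x, hφ⟩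

theorem phi_e' : φ e' = 0 := D.perp (phi_tr D hx hφ hφ0)

/-- the functionals of `g • e` -/
theorem phi_smul {g : H} {ψ : Dual (ZMod 2) N} (hψ : Tr H (g • e) ψ) : ψ = 0 ∨ ∀ n, ψ n = φ (g⁻¹ • n) := by
  by_cases h0 : ψ = 0
  · exact Or.inl h0
  · right
    have h1 := hψ.smul g⁻¹
    rw [inv_smul_smul, inv_inv] at h1
    have h2 := D.uniq h1 (phi_tr D hx hφ hφ0) (fun h => h0 (by
      ext n
      have := LinearMap.congr_fun h (g⁻¹ • n)
      rwa [LinearMap.comp_apply, lm_apply, smul_inv_smul] at this)) hφ0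
    intro n
    rw [← h2, LinearMap.comp_apply, lm_apply, smul_inv_smul]

theorem np_iff {g k : H} : NP H (g • e) (k • e) ↔ φ (g⁻¹ • k • e) = 1 := by
  constructor
  · rintro ⟨ψ, hψ, h1⟩
    rcases phi_smul D hx hφ hφ0 hψ with h | h
    · rw [h] at h1
      exact absurd h1 zero_ne_one
    · rw [← h]; exact h1
  · intro h
    refine ⟨φ.comp (lm g⁻¹), (phi_tr D hx hφ hφ0).smul g, ?_⟩
    rw [LinearMap.comp_apply, lm_apply]
    exact h

/-- **(c)** -/
theorem phi_symm (g k : H) : φ (g⁻¹ • k • e) = φ (k⁻¹ • g • e) := by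
  have key : ∀ g k : H, φ (g⁻¹ • k • e) = 1 → φ (k⁻¹ • g • e) = 1 := fun g k h =>
    (np_iff D hx hφ hφ0).1 (D.symm ((np_iff D hx hφ hφ0).2 h))
  rcases two_cases (φ (g⁻¹ • k • e)) with h | h
  · rcases two_cases (φ (k⁻¹ • g • e)) with h' | h'
    · rw [h, h']
    · rw [key k g h', h']
  · rw [h, key g k h]

theorem exists_one : ∃ g : H, φ (g • e) = 1 := D.exists_pt hφ0

/-- `φ` is invariant under the stabiliser of `e` -/
theorem phi_stab {d : H} (hd : d • e = e) (n : N) : φ (d • n) = φ n := by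
  have h1 : Tr H (d⁻¹ • e) φ := by
    have : d⁻¹ • e = e := by nth_rewrite 1 [← hd]; rw [inv_smul_smul]
    rw [this]; exact phi_tr D hx hφ hφ0
  rcases phi_smul D hx hφ hφ0 h1 with h | h
  · exact absurd h hφ0
  · rw [h n, inv_inv]

/-- the radical of the form is 0 -/
theorem rad {n : N} (h : ∀ g : H, φ (g⁻¹ • n) = 0) : n = 0 := by
  let M : AddSubgroup N :=
    { carrier := {n | ∀ g : H, φ (g⁻¹ • n) = 0}
      zero_mem' := fun g => by rw [smul_zero, map_zero]
      add_mem' := fun {a b} ha hb g => by rw [smul_add, map_add, ha, hb, add_zero]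
      neg_mem' := fun {a} ha g => by rw [smul_neg, map_neg, ha, neg_zero] }
  have hM : M = ⊥ := by
    by_contra hne
    have h1 : e ∈ M := D.mem_of_inv M (fun t _ n hn g => by
      rw [← mul_smul]
      have h2 := hn (t⁻¹ * g)
      rwa [mul_inv_rev, inv_inv] at h2) hne
    obtain ⟨g, hg⟩ := exists_one D hx hφ hφ0
    have h2 := h1 g⁻¹
    rw [inv_inv, hg] at h2
    exact one_ne_zero h2
  have h1 : n ∈ M := h
  rw [hM] at h1
  exact AddSubgroup.mem_bot.1 h1

/-- the form is nondegenerate -/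
theorem exists_vec (ψ : Dual (ZMod 2) N) : ∃ n : N, ∀ g : H, ψ (g • e) = φ (g⁻¹ • n) := by
  let W : Submodule (ZMod 2) (Dual (ZMod 2) N) :=
    { carrier := {ψ | ∃ n : N, ∀ g : H, ψ (g • e) = φ (g⁻¹ • n)}
      zero_mem' := ⟨0, fun g => by rw [smul_zero, map_zero]; rfl⟩
      add_mem' := by
        rintro a b ⟨n, hn⟩ ⟨m, hm⟩
        exact ⟨n + m, fun g => by rw [LinearMap.add_apply, hn, hm, smul_add, map_add]⟩
      smul_mem' := by
        rintro c a ⟨n, hn⟩
        exact ⟨c • n, fun g => by rw [LinearMap.smul_apply, hn, smul_c, φ.map_smul]⟩ }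
  have h1 : W.dualCoannihilator = ⊥ := by
    rw [eq_bot_iff]
    intro n hn
    rw [Submodule.mem_dualCoannihilator] at hn
    rw [Submodule.mem_bot]
    refine rad D hx hφ hφ0 fun g => ?_
    have h2 := hn (φ.comp (lm g⁻¹)) ⟨g • e, fun k => by
      rw [LinearMap.comp_apply, lm_apply]
      exact phi_symm D hx hφ hφ0 g k⟩
    rwa [LinearMap.comp_apply, lm_apply] at h2
  have h2 : W = ⊤ := by
    rw [← Subspace.dualCoannihilator_dualAnnihilator_eq (W := W), h1, Submodule.dualAnnihilator_bot]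
  have h3 : ψ ∈ W := by rw [h2]; exact Submodule.mem_top
  exact h3

/-- a functional fixed by `L` is 0 -/
theorem fix_zero {ψ : Dual (ZMod 2) N} (h : ∀ l ∈ L, ∀ g : H, ψ (l • g • e) = ψ (g • e)) : ψ = 0 := by
  obtain ⟨n, hn⟩ := exists_vec D hx hφ hφ0 ψ
  have h1 : ∀ l ∈ L, l • n = n := by
    intro l hl
    refine eq_of_add (rad D hx hφ hφ0 fun g => ?_)
    have h2 := hn (l⁻¹ * g)
    rw [mul_smul, h l⁻¹ (L.inv_mem hl), hn, mul_inv_rev, inv_inv, mul_smul] at h2
    rw [smul_add, map_add, h2, c_add_self]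
  rcases D.fix n (fun t ht => h1 t (D.TL ht)) with h2 | h2
  · refine D.ext_pts fun g => ?_
    rw [hn, h2, smul_zero, map_zero]; rfl
  · obtain ⟨l, hl, hle⟩ := D.mv
    have h3 := h1 l hl
    rw [h2, hle] at h3
    exact absurd h3 D.ne

end

/-! ### (d) -/

/-- **The hypotheses** on `Q` -/
structure DatQ (H N Q : Type*) [Group H] [AddCommGroup N] [Module (ZMod 2) N] [DistribMulAction H N]
    [AddCommGroup Q] [Module (ZMod 2) Q] [DistribMulAction H Q]
    (T L X : Subgroup H) (e e' : N) (ν : Q) (y : Dual (ZMod 2) Q) : Prop extends Dat H N T L X e e' where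
  ν_ne : ν ≠ 0
  st : ∀ h : H, h • e = e → h • ν = ν
  XQ : ∀ x ∈ X, ∀ q : Q, x • q = q ∨ x • q = q + ν
  XQ1 : ∀ x ∈ X, (∀ n : N, x • n = n) → ∀ q : Q, x • q = q
  yL : ∀ l ∈ L, ∀ q : Q, y (l • q) = y q
  yν : y ν = 0
  syl : ¬ 2 ∣ T.index

namespace DatQ

variable {Q : Type*} [AddCommGroup Q] [Module (ZMod 2) Q] [DistribMulAction H Q]
variable [Finite N] {T L X : Subgroup H} {e e' : N} {ν : Q} {y : Dual (ZMod 2) Q} (D : DatQ H N Q T L X e e' ν y)
include D

/-- the functional `κ` of `x` on `Q` -/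
theorem exists_kap {x : H} (hx : x ∈ X) : ∃ κ : Dual (ZMod 2) Q, ∀ q : Q, x • q = q + κ q • ν := by
  have hf : ∀ q : Q, ∃ c : ZMod 2, x • q = q + c • ν := by
    intro q
    rcases D.XQ x hx q with h | h
    · exact ⟨0, by rw [zero_smul, add_zero, h]⟩
    · exact ⟨1, by rw [one_smul, h]⟩
  choose f hf using hf
  have hadd : ∀ a b : Q, f (a + b) = f a + f b := by
    intro a b
    have h1 : a + b + f (a + b) • ν = (a + f a • ν) + (b + f b • ν) := by rw [← hf, ← hf, ← hf, smul_add]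
    have h2 : (f (a + b) - (f a + f b)) • ν = 0 := by
      rw [sub_smul, add_smul]
      have h3 : a + b + f (a + b) • ν = a + b + (f a • ν + f b • ν) := by rw [h1]; abel
      rw [add_left_cancel h3, sub_self]
    have h3 := c_eq_zero D.ν_ne h2
    rwa [sub_eq_zero] at h3
  have h0 : f 0 = 0 := by
    have h1 := hadd 0 0
    rw [add_zero] at h1
    exact add_eq_left.1 h1.symm
  exact ⟨(({ toFun := f, map_zero' := h0, map_add' := hadd } : Q →+ ZMod 2)).toZModLinearMap 2, hf⟩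

theorem nu_eq {g k : H} (h : g • e = k • e) : g • ν = k • ν := by
  have h1 : (k⁻¹ * g) • e = e := by rw [mul_smul, h, inv_smul_smul]
  have h2 := D.st _ h1
  rwa [mul_smul, inv_smul_eq_iff] at h2

variable {x : H} {φ : Dual (ZMod 2) N} {κ : Dual (ZMod 2) Q} (hx : x ∈ X) (hφ : ∀ n : N, x • n = n + φ n • e)
  (hφ0 : φ ≠ 0) (hκ : ∀ q : Q, x • q = q + κ q • ν)
include hx hφ hφ0 hκ

theorem kap_stab {d : H} (hd : d • e = e) (q : Q) : κ (d • q) = κ q := by
  have h1 : d⁻¹ * x * d ∈ X := by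
    have := D.X_norm d⁻¹ (by nth_rewrite 1 [← hd]; rw [inv_smul_smul]) x hx
    rwa [inv_inv] at this
  have hd' : d⁻¹ • e = e := by nth_rewrite 1 [← hd]; rw [inv_smul_smul]
  have h2 : ∀ n : N, (x * (d⁻¹ * x * d)) • n = n := by
    intro n
    have h3 : (d⁻¹ * x * d) • n = n + φ n • e := by
      rw [mul_smul, mul_smul, hφ, smul_add, inv_smul_smul, smul_c, hd', phi_stab D.toDat hx hφ hφ0 hd]
    rw [mul_smul, h3, smul_add, hφ, smul_c, D.X_ee hx, add_add_self']
  have h3 := D.XQ1 _ (X.mul_mem hx h1) h2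
  have h4 : x • q = (d⁻¹ * x * d) • q := by
    have h5 : (x * x) • q = q := by
      refine D.XQ1 _ (X.mul_mem hx hx) (fun n => ?_) q
      rw [mul_smul, hφ n, smul_add, hφ, smul_c, D.X_ee hx, add_add_self']
    have h6 := h3 q
    rw [mul_smul] at h5 h6
    exact smul_left_cancel x (h5.trans h6.symm)
  rw [hκ, mul_smul, mul_smul, hκ, smul_add, inv_smul_smul, smul_c] at h4
  have h5 : d⁻¹ • ν = ν := D.st _ hd'
  rw [h5] at h4
  have h6 : (κ q - κ (d • q)) • ν = 0 := by rw [sub_smul, add_left_cancel h4, sub_self]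
  have h7 := c_eq_zero D.ν_ne h6
  exact (sub_eq_zero.1 h7).symm

theorem kap_zero {g : H} (h : φ (g • e) = 0) : κ (g • ν) = 0 := by
  have h1 : (x * g) • e = g • e := by rw [mul_smul, hφ, h, zero_smul, add_zero]
  have h2 := D.nu_eq h1
  rw [mul_smul, hκ] at h2
  exact c_eq_zero D.ν_ne (add_eq_left.1 h2)

theorem kap_nu : κ ν = 0 := by
  have := D.kap_zero hx hφ hφ0 hκ (g := 1) (by rw [one_smul]; exact phi_e D.toDat hx hφ hφ0)
  rwa [one_smul] at this

/-- the action of `x^(g⁻¹)` -/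
theorem act_conj (g : H) (q : Q) : (g * x * g⁻¹) • q = q + κ (g⁻¹ • q) • g • ν := by
  rw [mul_smul, mul_smul, hκ, smul_add, smul_inv_smul, smul_c]

theorem act_conjN (g : H) (n : N) : (g * x * g⁻¹) • n = n + φ (g⁻¹ • n) • g • e := by
  rw [mul_smul, mul_smul, hφ, smul_add, smul_inv_smul, smul_c]

/-- the dichotomy for `h • e`, `k • e` not perpendicular -/
theorem dich {h k : H} (hn : φ (h⁻¹ • k • e) = 1) : (κ (h⁻¹ • k • ν) = 1 ∧ κ (k⁻¹ • h • ν) = 1) ∨
    (κ (h⁻¹ • k • ν) = 0 ∧ κ (k⁻¹ • h • ν) = 0 ∧ h • ν = k • ν) := by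
  have hn' : φ (k⁻¹ • h • e) = 1 := by rw [← phi_symm D.toDat hx hφ hφ0]; exact hn
  have h1 : ((h * x * h⁻¹) * k) • e = ((k * x * k⁻¹) * h) • e := by
    rw [mul_smul (h * x * h⁻¹), mul_smul (k * x * k⁻¹), D.act_conjN hx hφ hφ0 hκ, D.act_conjN hx hφ hφ0 hκ, hn, hn',
      one_smul, one_smul, add_comm]
  have h2 := D.nu_eq h1
  rw [mul_smul (h * x * h⁻¹), mul_smul (k * x * k⁻¹), D.act_conj hx hφ hφ0 hκ, D.act_conj hx hφ hφ0 hκ] at h2
  have hh : h • ν ≠ 0 := fun e => D.ν_ne ((smul_eq_zero_iff_eq h).1 e)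
  have hk : k • ν ≠ 0 := fun e => D.ν_ne ((smul_eq_zero_iff_eq k).1 e)
  rcases two_cases (κ (h⁻¹ • k • ν)) with h3 | h3 <;> rcases two_cases (κ (k⁻¹ • h • ν)) with h4 | h4 <;>
    rw [h3, h4] at h2 <;> simp only [zero_smul, one_smul, add_zero] at h2
  · exact Or.inr ⟨h3, h4, h2.symm⟩
  · exfalso
    rw [add_comm] at h2
    exact hh (add_eq_left.1 h2.symm)
  · exfalso
    rw [add_comm] at h2
    exact hk (add_eq_left.1 h2)
  · exact Or.inl ⟨h3, h4⟩

/-- points on a line have different `ν` -/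
theorem nu_ne (hne : ∃ h : H, y (h • ν) ≠ 0) {h l : H} (hl : l ∈ L) (hle : l • e ≠ e) : (h * l) • ν ≠ h • ν := by
  intro h1
  rw [mul_smul] at h1
  have h2 : l • ν = ν := smul_left_cancel h h1
  -- `e'`
  obtain ⟨l1, hl1, hle1⟩ := D.mv
  obtain ⟨l2, hl2, hle2⟩ := D.mv'
  -- an element of `L` (the stabiliser of `e` in `L`) interchanging `e'` and `e''`
  obtain ⟨t, ht, hte⟩ : ∃ t ∈ T, t • e' = e + e' := by
    by_contra hcon
    push Not at hcon
    have h3 : ∀ t ∈ T, t • e' = e' := by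
      intro t ht
      rcases D.L_e' t (D.TL ht) with h4 | h4 | h4
      · exfalso
        rw [← D.T_e t ht] at h4
        exact D.ne (smul_left_cancel t h4)
      · exact h4
      · exact absurd h4 (hcon t ht)
    rcases D.fix e' h3 with h4 | h4
    · exact D.e'_ne h4
    · exact D.ne h4
  have hte2 : t • (e + e') = e' := by
    rw [smul_add, D.T_e t ht, hte, add_self_add]
  have htν : t • ν = ν := D.st t (D.T_e t ht)
  have h3 : l1 • ν = ν ∧ l2 • ν = ν := by
    rcases D.L_e l hl with h4 | h4 | h4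
    · exact absurd h4 hle
    · have h5 : l1 • ν = ν := (D.nu_eq (hle1.trans h4.symm)).trans h2
      refine ⟨h5, ?_⟩
      have h6 : l2 • e = (t * l1) • e := by rw [hle2, mul_smul, hle1, hte]
      rw [D.nu_eq h6, mul_smul, h5, htν]
    · have h5 : l2 • ν = ν := (D.nu_eq (hle2.trans h4.symm)).trans h2
      refine ⟨?_, h5⟩
      have h6 : l1 • e = (t * l2) • e := by rw [hle1, mul_smul, hle2, hte2]
      rw [D.nu_eq h6, mul_smul, h5, htν]
  -- all `g • ν` are equal
  have h4 : ∀ g : H, ∀ k : H, k • e = g • e → k • ν = ν := by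
    refine D.conn (fun p => ∀ k : H, k • e = p → k • ν = ν) (fun k hk => D.st k hk) fun h hh => ?_
    refine ⟨fun k hk => ?_, fun k hk => ?_⟩
    · have h5 : k • e = (h * l1) • e := by rw [hk, mul_smul, hle1]
      rw [D.nu_eq h5, mul_smul, h3.1]
      exact hh h rfl
    · have h5 : k • e = (h * l2) • e := by rw [hk, mul_smul, hle2]
      rw [D.nu_eq h5, mul_smul, h3.2]
      exact hh h rfl
  obtain ⟨g, hg⟩ := hne
  rw [h4 g g rfl, D.yν] at hg
  exact hg rfl

/-- **(d)** -/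
theorem kap_eq (hne : ∃ h : H, y (h • ν) ≠ 0) (g : H) : κ (g • ν) = φ (g • e) := by
  have key : ∀ h k : H, φ (h⁻¹ • k • e) = 1 → κ (h⁻¹ • k • ν) = 1 := by
    intro h k hn
    rcases D.dich hx hφ hφ0 hκ hn with h1 | ⟨h1, h2, h3⟩
    · exact h1.1
    · exfalso
      have hn' : φ (k⁻¹ • h • e) = 1 := by rw [← phi_symm D.toDat hx hφ hφ0]; exact hn
      -- `κ_u = κ_w`
      have h4 : ∀ q : Q, κ (h⁻¹ • q) = κ (k⁻¹ • q) := by
        intro q
        have a1 : (h * x * h⁻¹) • k • e = k • e + h • e := by rw [D.act_conjN hx hφ hφ0 hκ, hn, one_smul]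
        have a2 : (k * x * k⁻¹) • k • e = k • e := by
          rw [D.act_conjN hx hφ hφ0 hκ, inv_smul_smul, phi_e D.toDat hx hφ hφ0, zero_smul, add_zero]
        have a3 : (k * x * k⁻¹) • h • e = h • e + k • e := by rw [D.act_conjN hx hφ hφ0 hκ, hn', one_smul]
        have h5 : (h⁻¹ * (k * x * k⁻¹) * (h * x * h⁻¹) * k) • e = e := by
          rw [mul_smul, mul_smul, mul_smul, a1, smul_add, a2, a3, add_comm (k • e), add_add_self', inv_smul_smul]
        have b2 : (h * x * h⁻¹) • q = q + κ (h⁻¹ • q) • k • ν := by rw [D.act_conj hx hφ hφ0 hκ, h3]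
        have b3 : (k * x * k⁻¹) • k • ν = k • ν := by
          rw [D.act_conj hx hφ hφ0 hκ, inv_smul_smul, D.kap_nu hx hφ hφ0 hκ, zero_smul, add_zero]
        have b4 : (k * x * k⁻¹) • q = q + κ (k⁻¹ • q) • k • ν := D.act_conj hx hφ hφ0 hκ k q
        have b1 : (h⁻¹ * (k * x * k⁻¹) * (h * x * h⁻¹) * k) • k⁻¹ • q =
            h⁻¹ • q + κ (k⁻¹ • q) • h⁻¹ • k • ν + κ (h⁻¹ • q) • h⁻¹ • k • ν := by
          rw [mul_smul, mul_smul, mul_smul, smul_inv_smul, b2, smul_add, smul_c, b3, b4, smul_add, smul_add, smul_c,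
            smul_c]
        have h6 := D.kap_stab hx hφ hφ0 hκ h5 (k⁻¹ • q)
        rw [b1, map_add, map_add, κ.map_smul, κ.map_smul, h1, smul_zero, smul_zero, add_zero, add_zero] at h6
        exact h6
      -- the point `p₂` of the line which is not perpendicular to `w = k • e`
      have two : ∀ l ∈ L, l • e ≠ e → φ (l • e) = 0 → φ (k⁻¹ • (h * l) • e) = 1 → False := by
        intro l hl hle h5 h6
        rcases D.dich hx hφ hφ0 hκ h6 with h7 | ⟨-, -, h7⟩
        · have h8 := h4 ((h * l) • ν)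
          rw [h7.1, mul_smul, inv_smul_smul, D.kap_zero hx hφ hφ0 hκ h5] at h8
          exact zero_ne_one h8
        · exact D.nu_ne hx hφ hφ0 hκ hne hl hle (h7.symm.trans h3.symm)
      obtain ⟨l1, hl1, hle1⟩ := D.mv
      obtain ⟨l2, hl2, hle2⟩ := D.mv'
      have he' := phi_e' D.toDat hx hφ hφ0
      have hee := phi_e D.toDat hx hφ hφ0
      rcases two_cases (φ (k⁻¹ • h • e')) with h5 | h5
      · refine two l2 hl2 (fun h6 => ?_) (by rw [hle2, map_add, hee, he', add_zero]) ?_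
        · rw [hle2] at h6
          exact D.e'_ne (add_eq_left.1 h6)
        · rw [mul_smul, hle2, smul_add, smul_add, map_add, hn', h5, add_zero]
      · refine two l1 hl1 (fun h6 => ?_) (by rw [hle1, he']) ?_
        · rw [hle1] at h6
          exact D.ne h6
        · rw [mul_smul, hle1, h5]
  rcases two_cases (φ (g • e)) with h | h
  · rw [h, D.kap_zero hx hφ hφ0 hκ h]
  · have := key 1 g (by rw [inv_one, one_smul]; exact h)
    rw [inv_one, one_smul] at this
    rw [this, h]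

end DatQ

/-! ### (e) -/

/-- the Sylow index of `T ∩ K`, `K` normal -/
theorem relIndex_dvd {H : Type*} [Group H] [Finite H] (T K : Subgroup H) [K.Normal] : T.relIndex K ∣ T.index := by
  have h1 := Subgroup.relIndex_mul_relIndex (T ⊓ K) T (T ⊔ K) inf_le_left le_sup_left
  have h2 := Subgroup.relIndex_mul_relIndex (T ⊓ K) K (T ⊔ K) inf_le_right le_sup_right
  rw [Subgroup.inf_relIndex_left] at h1
  rw [Subgroup.inf_relIndex_right, Subgroup.relIndex_sup_right] at h2
  have h3 : K.relIndex T ≠ 0 := Subgroup.index_ne_zero_of_finite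
  have h4 : T.relIndex (T ⊔ K) = T.relIndex K := by
    have h5 : K.relIndex T * T.relIndex (T ⊔ K) = K.relIndex T * T.relIndex K := by
      rw [h1, ← h2, mul_comm]
    exact Nat.eq_of_mul_eq_mul_left (Nat.pos_of_ne_zero h3) h5
  rw [← h4]
  exact Subgroup.relIndex_dvd_index_of_le le_sup_left

namespace DatQ

variable {Q : Type*} [AddCommGroup Q] [Module (ZMod 2) Q] [DistribMulAction H Q]
variable [Finite H] [Finite N] {T L X : Subgroup H} {e e' : N} {ν : Q} {y : Dual (ZMod 2) Q}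
  (D : DatQ H N Q T L X e e' ν y)
include D

/-- the elements of `⟨X^H⟩` change `h ↦ y (h • ν)` by a functional -/
theorem exists_diff (hne : ∃ h : H, y (h • ν) ≠ 0) {g : H} (hg : g ∈ Subgroup.normalClosure (X : Set H)) :
    ∃ ψ : Dual (ZMod 2) N, ∀ h : H, y ((g * h) • ν) = y (h • ν) + ψ (h • e) := by
  let K : Subgroup H :=
    { carrier := {g | ∃ ψ : Dual (ZMod 2) N, ∀ h : H, y ((g * h) • ν) = y (h • ν) + ψ (h • e)}
      one_mem' := ⟨0, fun h => by rw [one_mul]; simp⟩
      mul_mem' := by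
        rintro a b ⟨ψ, hψ⟩ ⟨χ, hχ⟩
        refine ⟨χ + ψ.comp (lm b), fun h => ?_⟩
        rw [mul_assoc, hψ, hχ, LinearMap.add_apply, LinearMap.comp_apply, lm_apply, mul_smul]
        abel
      inv_mem' := by
        rintro a ⟨ψ, hψ⟩
        refine ⟨ψ.comp (lm a⁻¹), fun h => ?_⟩
        have h1 := hψ (a⁻¹ * h)
        rw [mul_inv_cancel_left, mul_smul a⁻¹ h e] at h1
        rw [h1, LinearMap.comp_apply, lm_apply, add_assoc, c_add_self, add_zero] }
  have hK : Subgroup.normalClosure (X : Set H) ≤ K := by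
    refine (Subgroup.closure_le _).2 fun g hg => ?_
    obtain ⟨x, hx, hxg⟩ := Group.mem_conjugatesOfSet_iff.1 hg
    obtain ⟨k, rfl⟩ := isConj_iff.1 hxg
    have hx' : x ∈ X := hx
    obtain ⟨φ, hφ⟩ := D.exists_fun hx'
    by_cases hφ0 : φ = 0
    · refine ⟨0, fun h => ?_⟩
      have h1 := D.XQ1 x hx' (fun n => by rw [hφ, hφ0]; simp)
      rw [mul_smul, mul_smul, mul_smul, h1, smul_inv_smul]
      simp
    · obtain ⟨κ, hκ⟩ := D.exists_kap hx'
      refine ⟨y (k • ν) • φ.comp (lm k⁻¹), fun h => ?_⟩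
      rw [mul_smul (k * x * k⁻¹), D.act_conj hx' hφ hφ0 hκ, y.map_add, y.map_smul, ← mul_smul k⁻¹ h ν,
        D.kap_eq hx' hφ hφ0 hκ hne, LinearMap.smul_apply, LinearMap.comp_apply, lm_apply, mul_smul, smul_eq_mul,
        smul_eq_mul, mul_comm]
  exact hK hg

/-- **(e)** -/
theorem y_eq_zero (h : H) : y (h • ν) = 0 := by
  classical
  by_contra hcon
  have hne : ∃ h : H, y (h • ν) ≠ 0 := ⟨h, hcon⟩
  obtain ⟨x, φ, hx, hφ, hφ0, -⟩ := D.exists_phi
  obtain ⟨κ, hκ⟩ := D.exists_kap hx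
  let K : Subgroup H := Subgroup.normalClosure (X : Set H)
  let T0 : Subgroup K := T.subgroupOf K
  let _ : Fintype (K ⧸ T0) := Fintype.ofFinite _
  have hT : ∀ t ∈ T, ∀ q : Q, y (t • q) = y q := fun t ht q => D.yL t (D.TL ht) q
  -- the sum over the orbit
  let Fq : H → K ⧸ T0 → ZMod 2 := fun h c => Quotient.liftOn' c (fun k : K => y (((k : H)⁻¹ * h) • ν)) (by
    intro a b hab
    have h1 : a⁻¹ * b ∈ T0 := QuotientGroup.leftRel_apply.1 hab
    have h2 : ((a⁻¹ * b : K) : H) ∈ T := h1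
    show y (((a : H)⁻¹ * h) • ν) = y (((b : H)⁻¹ * h) • ν)
    have h3 : (a : H)⁻¹ * h = ((a⁻¹ * b : K) : H) * ((b : H)⁻¹ * h) := by
      show (a : H)⁻¹ * h = (a : H)⁻¹ * (b : H) * ((b : H)⁻¹ * h)
      group
    rw [h3, mul_smul _ _ ν, hT _ h2])
  have hFq : ∀ (h : H) (k : K), Fq h (k : K ⧸ T0) = y (((k : H)⁻¹ * h) • ν) := fun _ _ => rfl
  let s : H → ZMod 2 := fun h => ∑ c : K ⧸ T0, Fq h c
  have hs1 : ∀ (g : K) (h : H), s ((g : H) * h) = s h := by
    intro g h
    have h1 : ∀ c : K ⧸ T0, Fq ((g : H) * h) c = Fq h (MulAction.toPerm g⁻¹ c) := by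
      intro c
      induction c using QuotientGroup.induction_on with
      | H k =>
        have h2 : (MulAction.toPerm g⁻¹ (k : K ⧸ T0) : K ⧸ T0) = ((g⁻¹ * k : K) : K ⧸ T0) := rfl
        rw [h2, hFq, hFq]
        congr 2
        show (k : H)⁻¹ * ((g : H) * h) = ((g : H)⁻¹ * (k : H))⁻¹ * h
        group
    show ∑ c, Fq ((g : H) * h) c = ∑ c, Fq h c
    rw [Finset.sum_congr rfl fun c _ => h1 c]
    exact Equiv.sum_comp (MulAction.toPerm g⁻¹) (Fq h)
  have h1 : ∀ c : K ⧸ T0, ∃ ψ : Dual (ZMod 2) N, ∀ h : H, Fq h c = y (h • ν) + ψ (h • e) := by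
    intro c
    induction c using QuotientGroup.induction_on with
    | H k => exact D.exists_diff hne (K.inv_mem k.2)
  choose ψ hψ using h1
  have hodd : ((Fintype.card (K ⧸ T0) : ℕ) : ZMod 2) = 1 := by
    have h2 : ¬ 2 ∣ Fintype.card (K ⧸ T0) := by
      intro h3
      have h4 : Fintype.card (K ⧸ T0) = T.relIndex K := (Nat.card_eq_fintype_card).symm
      rw [h4] at h3
      exact D.syl (h3.trans (relIndex_dvd T K))
    have h3 : Fintype.card (K ⧸ T0) % 2 = 1 := by omega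
    rw [← ZMod.natCast_mod, h3, Nat.cast_one]
  let χ : Dual (ZMod 2) N := ∑ c : K ⧸ T0, ψ c
  have hs2 : ∀ h : H, s h = y (h • ν) + χ (h • e) := by
    intro h
    show ∑ c, Fq h c = _
    rw [Finset.sum_congr rfl fun c _ => hψ c h, Finset.sum_add_distrib, Finset.sum_const, Finset.card_univ,
      nsmul_eq_mul, hodd, one_mul, LinearMap.sum_apply]
  have hs3 : ∀ k : H, s k = 0 := by
    intro k
    obtain ⟨g, hg⟩ := D.exists_pt hφ0
    have hxk : k * x * k⁻¹ ∈ K := Subgroup.normalClosure_normal.conj_mem x (Subgroup.subset_normalClosure hx) k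
    have h2 := hs1 ⟨k * x * k⁻¹, hxk⟩ (k * g)
    have h2' : s (k * x * k⁻¹ * (k * g)) = s (k * g) := h2
    rw [hs2, hs2, mul_smul (k * x * k⁻¹), mul_smul (k * x * k⁻¹), D.act_conj hx hφ hφ0 hκ,
      D.act_conjN hx hφ hφ0 hκ, ← mul_smul k⁻¹ (k * g) ν, ← mul_smul k⁻¹ (k * g) e, inv_mul_cancel_left,
      D.kap_eq hx hφ hφ0 hκ hne, hg, one_smul, one_smul, y.map_add, χ.map_add] at h2'
    rw [hs2]
    have h3 : y ((k * g) • ν) + y (k • ν) + (χ ((k * g) • e) + χ (k • e)) =
        y ((k * g) • ν) + χ ((k * g) • e) + (y (k • ν) + χ (k • e)) := by abel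
    rw [h3] at h2'
    exact add_eq_left.1 h2'
  have hF : ∀ h : H, y (h • ν) = χ (h • e) := by
    intro h
    have h2 := hs2 h
    rw [hs3] at h2
    have h3 : y (h • ν) + χ (h • e) + χ (h • e) = 0 + χ (h • e) := by rw [h2]
    rwa [add_assoc, c_add_self, add_zero, zero_add] at h3
  have h2 : χ = 0 := fix_zero D.toDat hx hφ hφ0 fun l hl g => by
    rw [← hF g, ← mul_smul l g e, ← hF, mul_smul l g ν, D.yL l hl]
  apply hcon
  rw [hF, h2]
  rfl

end DatQ

end Cfsg.Agent.Omega.OM.PG.SymD1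

end
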