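import Cfsg.Agent.Mrg.Omega.OM.PG.Exact
import Cfsg.Agent.Omega.OmThm.GrpSP
import Cfsg.Agent.Mrg.Omega.OM.PG.NoRad
import Cfsg.Agent.Mrg.Omega.OM.PG.Base

section


/-!
# EXACTNESS of a critical pair, all `q` (helper997, TEXT Q4 #20474 (2))

`Exact.lean` without `|Z_0| = 2`: the pairing `X × C_Y(N) → a` is replaced by `(NO)` for `C_Y(N)` on `X`.

* `CrQ N M X Y`, `CrQ.sup_eq`, `CrQ.dich`, `CrQ.red`; `TA Z X` : `X_a ≰ N_a C(X_b)` for critical pairs (from THEOREM C: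
  `ta_of`, from `(1a)` of THEOREM R: `ta_of_comm`);
* `CX.crQ`, `CX.redQ` : a critical pair `(a, b)` has `a ≤ N_b`, `b ≤ N_a`;
* `Sur Z U` : `[U 0, y] = Z 0` for `y ∈ Q(Z 0)` which moves `U 0`; `sur_of`;
* `false_of_twoQ`, `dist_oneQ`.
-/

set_option autoImplicit false
set_option linter.unusedSectionVars false

namespace Cfsg.Agent.Omega.OM.PG.ExactQ

open Subgroup Cfsg
open Cfsg.Agent.ZN Cfsg.Agent.Omega.OM.PG.Peel Cfsg.Agent.Omega.OM.PG.PeelQ
open Cfsg.Agent.Omega.NO3S.EThree Cfsg.Agent.Omega.NO3S.EThree.ExactA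
open Cfsg.Agent.Omega.NoFF.Basic (comm_symm conj_conj conj_le_iff)
open scoped commutatorElement Pointwise

universe u

variable {G : Type u} [Group G]

/-- The data of a critical pair. -/
structure CrQ (a b N M X Y : Subgroup G) : Prop where
  NX : N ≤ X
  MY : M ≤ Y
  Xc : ∀ x ∈ X, ∀ y ∈ X, x * y = y * x
  Yc : ∀ x ∈ Y, ∀ y ∈ Y, x * y = y * x
  XnY : X ≤ normalizer (Y : Set G)
  YnX : Y ≤ normalizer (X : Set G)
  XnM : X ≤ normalizer (M : Set G)
  YnN : Y ≤ normalizer (N : Set G)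
  ca : ⁅X, Y ⊓ centralizer (N : Set G)⁆ ≤ a
  cb : ⁅Y, X ⊓ centralizer (M : Set G)⁆ ≤ b
  ab : a ⊓ b = ⊥
  pX : Nob X (Y ⊓ centralizer (N : Set G))
  pY : Nob Y (X ⊓ centralizer (M : Set G))
  noN : Nat.card Y * Nat.card (N ⊓ centralizer (Y : Set G) : Subgroup G) ≤
    Nat.card (Y ⊓ centralizer (N : Set G) : Subgroup G) * Nat.card N
  noM : Nat.card X * Nat.card (M ⊓ centralizer (X : Set G) : Subgroup G) ≤
    Nat.card (X ⊓ centralizer (M : Set G) : Subgroup G) * Nat.card M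

namespace CrQ

theorem symm {a b N M X Y : Subgroup G} (h : CrQ a b N M X Y) : CrQ b a M N Y X where
  NX := h.MY
  MY := h.NX
  Xc := h.Yc
  Yc := h.Xc
  XnY := h.YnX
  YnX := h.XnY
  XnM := h.YnN
  YnN := h.XnM
  ca := h.cb
  cb := h.ca
  ab := by rw [inf_comm]; exact h.ab
  pX := h.pY
  pY := h.pX
  noN := h.noM
  noM := h.noN

variable [Finite G] {a b N M X Y : Subgroup G}

variable (h : CrQ a b N M X Y)
include h

theorem comm_EF : X ⊓ centralizer (M : Set G) ≤ centralizer ((Y ⊓ centralizer (N : Set G) : Subgroup G) : Set G) := by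
  intro x hx
  rw [mem_centralizer_iff]
  intro y hy
  have h1 : ⁅x, y⁆ ∈ a := h.ca (commutator_mem_commutator hx.1 hy)
  have h2 : ⁅y, x⁆ ∈ b := h.cb (commutator_mem_commutator hy.1 hx)
  rw [← commutatorElement_inv] at h2
  have h3 : ⁅x, y⁆ ∈ a ⊓ b := ⟨h1, (Subgroup.inv_mem_iff b).1 h2⟩
  rw [h.ab, mem_bot] at h3
  exact (commutatorElement_eq_one_iff_mul_comm.1 h3).symm

theorem dualX : Nat.card (Y ⊓ centralizer (N : Set G) : Subgroup G) *
    Nat.card (N ⊔ (X ⊓ centralizer (M : Set G)) : Subgroup G) ≤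
    Nat.card (Y ⊓ centralizer (X : Set G) : Subgroup G) * Nat.card X := by
  set F := Y ⊓ centralizer (N : Set G) with hF
  have hcardX : Nat.card X = (centralizer (F : Set G)).relIndex X *
      Nat.card (X ⊓ centralizer (F : Set G) : Subgroup G) := by
    rw [← Subgroup.inf_relIndex_left, mul_comm]
    exact (card_mul_relIndex' inf_le_left).symm
  have hcardF : Nat.card F = (centralizer (X : Set G)).relIndex F *
      Nat.card (F ⊓ centralizer (X : Set G) : Subgroup G) := by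
    rw [← Subgroup.inf_relIndex_left, mul_comm]
    exact (card_mul_relIndex' inf_le_left).symm
  have hUle : Nat.card (N ⊔ (X ⊓ centralizer (M : Set G)) : Subgroup G) ≤
      Nat.card (X ⊓ centralizer (F : Set G) : Subgroup G) := by
    refine Subgroup.card_le_of_le (le_inf (sup_le h.NX inf_le_left) (sup_le ?_ h.comm_EF))
    rw [le_centralizer_iff]
    exact inf_le_right
  have e : F ⊓ centralizer (X : Set G) = Y ⊓ centralizer (X : Set G) := by
    refine le_antisymm (inf_le_inf_right _ inf_le_left) (le_inf (le_inf inf_le_left ?_) inf_le_right)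
    exact inf_le_right.trans (centralizer_le h.NX)
  have hrel : (centralizer (X : Set G)).relIndex F ≤ (centralizer (F : Set G)).relIndex X := h.pX
  rw [← e]
  calc Nat.card F * Nat.card (N ⊔ (X ⊓ centralizer (M : Set G)) : Subgroup G)
      ≤ ((centralizer (X : Set G)).relIndex F *
        Nat.card (F ⊓ centralizer (X : Set G) : Subgroup G)) *
        Nat.card (X ⊓ centralizer (F : Set G) : Subgroup G) := by
        rw [← hcardF]; exact Nat.mul_le_mul_left _ hUle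
    _ ≤ ((centralizer (F : Set G)).relIndex X * Nat.card (F ⊓ centralizer (X : Set G) : Subgroup G)) *
        Nat.card (X ⊓ centralizer (F : Set G) : Subgroup G) :=
        Nat.mul_le_mul_right _ (Nat.mul_le_mul_right _ hrel)
    _ = Nat.card (F ⊓ centralizer (X : Set G) : Subgroup G) * Nat.card X := by rw [hcardX]; ring

theorem NK_le : N ⊔ (X ⊓ centralizer (Y : Set G)) ≤ N ⊔ (X ⊓ centralizer (M : Set G)) :=
  sup_le_sup_left (inf_le_inf_left _ (centralizer_le h.MY)) _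

/-- `|Y| |K| |N E| ≤ |L| |X| |N K|` -/
theorem chain : Nat.card Y * Nat.card (X ⊓ centralizer (Y : Set G) : Subgroup G) *
    Nat.card (N ⊔ (X ⊓ centralizer (M : Set G)) : Subgroup G) ≤
    Nat.card (Y ⊓ centralizer (X : Set G) : Subgroup G) * Nat.card X *
      Nat.card (N ⊔ (X ⊓ centralizer (Y : Set G)) : Subgroup G) := by
  have h1 := h.noN
  have h2 := h.dualX
  have h3 := Cr.card_sup h.Xc h.NX (inf_le_left : X ⊓ centralizer (Y : Set G) ≤ X)
  have e : N ⊓ (X ⊓ centralizer (Y : Set G)) = N ⊓ centralizer (Y : Set G) := by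
    rw [← inf_assoc, inf_eq_left.2 h.NX]
  rw [e] at h3
  have hpos : 0 < Nat.card (N ⊓ centralizer (Y : Set G) : Subgroup G) := Nat.card_pos
  refine Nat.le_of_mul_le_mul_right ?_ hpos
  calc Nat.card Y * Nat.card (X ⊓ centralizer (Y : Set G) : Subgroup G) *
        Nat.card (N ⊔ (X ⊓ centralizer (M : Set G)) : Subgroup G) *
        Nat.card (N ⊓ centralizer (Y : Set G) : Subgroup G)
      = (Nat.card Y * Nat.card (N ⊓ centralizer (Y : Set G) : Subgroup G)) *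
        (Nat.card (X ⊓ centralizer (Y : Set G) : Subgroup G) *
        Nat.card (N ⊔ (X ⊓ centralizer (M : Set G)) : Subgroup G)) := by ring
    _ ≤ (Nat.card (Y ⊓ centralizer (N : Set G) : Subgroup G) * Nat.card N) *
        (Nat.card (X ⊓ centralizer (Y : Set G) : Subgroup G) *
        Nat.card (N ⊔ (X ⊓ centralizer (M : Set G)) : Subgroup G)) := Nat.mul_le_mul_right _ h1
    _ = (Nat.card (Y ⊓ centralizer (N : Set G) : Subgroup G) *
        Nat.card (N ⊔ (X ⊓ centralizer (M : Set G)) : Subgroup G)) *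
        (Nat.card N * Nat.card (X ⊓ centralizer (Y : Set G) : Subgroup G)) := by ring
    _ ≤ (Nat.card (Y ⊓ centralizer (X : Set G) : Subgroup G) * Nat.card X) *
        (Nat.card N * Nat.card (X ⊓ centralizer (Y : Set G) : Subgroup G)) := Nat.mul_le_mul_right _ h2
    _ = _ := by rw [h3]; ring

/-- `|Y : C_Y(X)| = |X : C_X(Y)|` -/
theorem card_eq : Nat.card Y * Nat.card (X ⊓ centralizer (Y : Set G) : Subgroup G) =
    Nat.card X * Nat.card (Y ⊓ centralizer (X : Set G) : Subgroup G) := by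
  have key : ∀ {a b N M X Y : Subgroup G}, CrQ a b N M X Y →
      Nat.card Y * Nat.card (X ⊓ centralizer (Y : Set G) : Subgroup G) ≤
      Nat.card X * Nat.card (Y ⊓ centralizer (X : Set G) : Subgroup G) := by
    intro a b N M X Y h
    have h1 := h.chain
    have h2 : Nat.card (N ⊔ (X ⊓ centralizer (Y : Set G)) : Subgroup G) ≤
        Nat.card (N ⊔ (X ⊓ centralizer (M : Set G)) : Subgroup G) := Subgroup.card_le_of_le h.NK_le
    have hpos : 0 < Nat.card (N ⊔ (X ⊓ centralizer (M : Set G)) : Subgroup G) := Nat.card_pos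
    refine Nat.le_of_mul_le_mul_right (h1.trans ?_) hpos
    rw [mul_comm (Nat.card (Y ⊓ centralizer (X : Set G) : Subgroup G)) (Nat.card X)]
    exact Nat.mul_le_mul_left _ h2
  exact le_antisymm (key h) (key h.symm)

/-- **EXACTNESS.** `N C_X(M) = N C_X(Y)` -/
theorem sup_eq : N ⊔ (X ⊓ centralizer (M : Set G)) = N ⊔ (X ⊓ centralizer (Y : Set G)) := by
  refine (Subgroup.eq_of_le_of_card_ge h.NK_le ?_).symm
  have h1 := h.chain
  rw [h.card_eq, mul_comm (Nat.card X)] at h1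
  refine Nat.le_of_mul_le_mul_left h1 ?_
  exact Nat.mul_pos Nat.card_pos Nat.card_pos

/-- **The dichotomy.** `X = N C_X(Y)`, or some `m ∈ C_M(N)` moves `X`. -/
theorem dich : X ≤ N ⊔ (X ⊓ centralizer (Y : Set G)) ∨
    ∃ m ∈ M ⊓ centralizer (N : Set G), m ∉ centralizer (X : Set G) := by
  by_cases hX : X ≤ N ⊔ (X ⊓ centralizer (Y : Set G))
  · exact Or.inl hX
  right
  -- `C_Y(N)` does not centralise `X`
  have hF : ¬ Y ⊓ centralizer (N : Set G) ≤ centralizer (X : Set G) := by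
    intro hF
    apply hX
    have hL : Y ⊓ centralizer (X : Set G) = Y ⊓ centralizer (N : Set G) :=
      le_antisymm (inf_le_inf_left _ (centralizer_le h.NX)) (le_inf inf_le_left hF)
    -- `|Y| |N ∩ C(Y)| ≤ |L| |N|`
    have h1 := h.noN
    rw [← hL] at h1
    have h3 := Cr.card_sup h.Xc h.NX (inf_le_left : X ⊓ centralizer (Y : Set G) ≤ X)
    have e : N ⊓ (X ⊓ centralizer (Y : Set G)) = N ⊓ centralizer (Y : Set G) := by
      rw [← inf_assoc, inf_eq_left.2 h.NX]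
    rw [e] at h3
    have h4 := h.card_eq
    have hposn : 0 < Nat.card (N ⊓ centralizer (Y : Set G) : Subgroup G) := Nat.card_pos
    have hposl : 0 < Nat.card (Y ⊓ centralizer (X : Set G) : Subgroup G) := Nat.card_pos
    have h5 : N ⊔ (X ⊓ centralizer (Y : Set G)) = X := by
      refine Subgroup.eq_of_le_of_card_ge (sup_le h.NX inf_le_left) ?_
      refine Nat.le_of_mul_le_mul_right ?_ (Nat.mul_pos hposl hposn)
      calc Nat.card X * (Nat.card (Y ⊓ centralizer (X : Set G) : Subgroup G) *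
            Nat.card (N ⊓ centralizer (Y : Set G) : Subgroup G))
          = (Nat.card Y * Nat.card (N ⊓ centralizer (Y : Set G) : Subgroup G)) *
            Nat.card (X ⊓ centralizer (Y : Set G) : Subgroup G) := by
            rw [← mul_assoc, ← h4]; ring
        _ ≤ (Nat.card (Y ⊓ centralizer (X : Set G) : Subgroup G) * Nat.card N) *
            Nat.card (X ⊓ centralizer (Y : Set G) : Subgroup G) := Nat.mul_le_mul_right _ h1
        _ = Nat.card (Y ⊓ centralizer (X : Set G) : Subgroup G) *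
            (Nat.card N * Nat.card (X ⊓ centralizer (Y : Set G) : Subgroup G)) := by ring
        _ = _ := by rw [h3]; ring
    exact h5.ge
  obtain ⟨f, hf, hfX⟩ := SetLike.not_le_iff_exists.1 hF
  -- `f = m l`
  have h1 : f ∈ M ⊔ (Y ⊓ centralizer (X : Set G)) := by
    rw [← h.symm.sup_eq]
    exact le_sup_right (a := M) hf
  have hYn : (Y ⊓ centralizer (X : Set G) : Subgroup G) ≤ normalizer (M : Set G) := by
    refine le_trans (b := centralizer (M : Set G)) ?_ (centralizer_le_normalizer _)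
    intro k hk
    rw [mem_centralizer_iff]
    intro n hn
    exact h.Yc _ (h.MY hn) _ hk.1
  rw [sup_comm, ← SetLike.mem_coe, Subgroup.coe_mul_of_left_le_normalizer_right _ _ hYn] at h1
  obtain ⟨l, hl, m, hm, hlm⟩ := h1
  simp only at hlm
  have hm' : m = l⁻¹ * f := by rw [← hlm]; group
  have hmN : m ∈ centralizer (N : Set G) := by
    rw [hm']
    exact mul_mem (inv_mem (centralizer_le h.NX hl.2)) hf.2
  have hmX : m ∉ centralizer (X : Set G) := by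
    intro hmX
    apply hfX
    rw [← hlm]
    exact mul_mem hl.2 hmX
  exact ⟨m, ⟨hm, hmN⟩, hmX⟩

/-- **THE REDUCTION** (TEXT R5 #19750 (3)): with THEOREM G for `X` (a group centralising `X / N` centralises `N`) and
`[X, Y] ≠ 1`. -/
theorem red (hne : ¬ Y ≤ centralizer (X : Set G))
    (hG : (∀ x ∈ X, ∀ y ∈ Y, ⁅x, y⁆ ∈ N) → Y ≤ centralizer (N : Set G)) :
    ∃ m ∈ M ⊓ centralizer (N : Set G), m ∉ centralizer (X : Set G) := by
  rcases h.dich with h1 | h1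
  · exfalso
    have hXn : (X ⊓ centralizer (Y : Set G) : Subgroup G) ≤ normalizer (N : Set G) := by
      refine le_trans (b := centralizer (N : Set G)) ?_ (centralizer_le_normalizer _)
      intro k hk
      rw [mem_centralizer_iff]
      intro n hn
      exact h.Xc _ (h.NX hn) _ hk.1
    have h2 : ∀ x ∈ X, ∃ k ∈ X ⊓ centralizer (Y : Set G), ∃ n ∈ N, x = k * n := by
      intro x hx
      have h3 := h1 hx
      rw [sup_comm, ← SetLike.mem_coe, Subgroup.coe_mul_of_left_le_normalizer_right _ _ hXn] at h3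
      obtain ⟨k, hk, n, hn, hkn⟩ := h3
      exact ⟨k, hk, n, hn, hkn.symm⟩
    have h3 : Y ≤ centralizer (N : Set G) := by
      refine hG fun x hx y hy => ?_
      obtain ⟨k, hk, n, hn, rfl⟩ := h2 x hx
      have h4 : y * k = k * y := mem_centralizer_iff.1 hk.2 y hy
      have h5 : y * n * y⁻¹ ∈ N := (mem_normalizer_iff.1 (h.YnN hy) n).1 hn
      have h6 : k * (y * n⁻¹ * y⁻¹) = (y * n⁻¹ * y⁻¹) * k := by
        refine h.Xc _ hk.1 _ (h.NX ?_)
        exact (mem_normalizer_iff.1 (h.YnN hy) _).1 (inv_mem hn)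
      have e : ⁅k * n, y⁆ = n * (y * n⁻¹ * y⁻¹) := by
        rw [commutatorElement_def]
        have hkn : k * n = n * k := h.Xc _ hk.1 _ (h.NX hn)
        have h7 : k * y * k⁻¹ = y := by rw [← h4]; group
        calc k * n * y * (k * n)⁻¹ * y⁻¹ = n * (k * y * k⁻¹) * n⁻¹ * y⁻¹ := by rw [hkn]; group
          _ = n * (y * n⁻¹ * y⁻¹) := by rw [h7]; group
      rw [e]
      exact mul_mem hn ((mem_normalizer_iff.1 (h.YnN hy) _).1 (inv_mem hn))
    apply hne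
    intro y hy
    rw [mem_centralizer_iff]
    intro x hx
    obtain ⟨k, hk, n, hn, rfl⟩ := h2 x hx
    have h4 : y * k = k * y := mem_centralizer_iff.1 hk.2 y hy
    have h5 : n * y = y * n := mem_centralizer_iff.1 (h3 hy) n hn
    rw [mul_assoc, h5, ← mul_assoc, ← h4, mul_assoc]
  · exact h1

end CrQ

/-! ### Critical pairs of the frame -/

section frame

variable {Z U : Fin 2 → Subgroup G} {X : Subgroup G → Subgroup G} {d : ℕ} {a b : Subgroup G}

theorem disj {Z : Fin 2 → Subgroup G} (hti : TIp Z) {a b : Subgroup G} (ha : IsPt Z a) (hb : IsPt Z b)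
    (hne : a ≠ b) : a ⊓ b = ⊥ := hti a b ha hb hne

variable [Finite G]

/-- A critical pair is a `CrQ`. -/
theorem crQ (P : PP Z U) (F : XF Z X) (hN : NobX Z X) (hti : TIp Z) (hNO : NoP Z) (h : CX Z X d a b) :
    CrQ a b (NN Z a) (NN Z b) (X a) (X b) := by
  obtain ⟨a', b', ha', hb', hXa, hXb⟩ := h.ends P F
  have hap : IsPt Z a := PP.pth_pt h.pth
  have hbp : IsPt Z b := P.pth_pt' h.pth
  have card : ∀ {N B : Subgroup G}, (centralizer (N : Set G)).relIndex B ≤ (centralizer (B : Set G)).relIndex N →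
      Nat.card B * Nat.card (N ⊓ centralizer (B : Set G) : Subgroup G) ≤
        Nat.card (B ⊓ centralizer (N : Set G) : Subgroup G) * Nat.card N := by
    intro N B h1
    have h2 : Nat.card (B ⊓ centralizer (N : Set G) : Subgroup G) * (centralizer (N : Set G)).relIndex B =
        Nat.card B := by
      rw [← Subgroup.inf_relIndex_left]
      exact card_mul_relIndex' inf_le_left
    have h3 : Nat.card (N ⊓ centralizer (B : Set G) : Subgroup G) * (centralizer (B : Set G)).relIndex N =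
        Nat.card N := by
      rw [← Subgroup.inf_relIndex_left]
      exact card_mul_relIndex' inf_le_left
    calc Nat.card B * Nat.card (N ⊓ centralizer (B : Set G) : Subgroup G)
        = (Nat.card (B ⊓ centralizer (N : Set G) : Subgroup G) *
          Nat.card (N ⊓ centralizer (B : Set G) : Subgroup G)) * (centralizer (N : Set G)).relIndex B := by
          rw [← h2]; ring
      _ ≤ (Nat.card (B ⊓ centralizer (N : Set G) : Subgroup G) *
          Nat.card (N ⊓ centralizer (B : Set G) : Subgroup G)) * (centralizer (B : Set G)).relIndex N :=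
          Nat.mul_le_mul_left _ h1
      _ = Nat.card (B ⊓ centralizer (N : Set G) : Subgroup G) *
          (Nat.card (N ⊓ centralizer (B : Set G) : Subgroup G) * (centralizer (B : Set G)).relIndex N) := by ring
      _ = _ := by rw [h3]
  have hQ : ∀ {a b a' : Subgroup G}, Adj Z a' a → X b ≤ QQ a' → X b ⊓ centralizer (NN Z a : Set G) ≤ QQ a := by
    intro a b a' ha' hXb
    exact P.f3 (P.adj_symm ha') (inf_le_left.trans hXb) inf_le_right
  have hcc : ∀ {a b a' : Subgroup G}, IsPt Z a → Adj Z a' a → X b ≤ QQ a' →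
      ⁅X a, X b ⊓ centralizer (NN Z a : Set G)⁆ ≤ a := by
    intro a b a' ha ha' hXb
    rw [commutator_le]
    intro x hx y hy
    exact F.com a ha x hx y (hQ ha' hXb hy)
  exact
  { NX := F.NX a hap
    MY := F.NX b hbp
    Xc := fun x hx y hy => (mem_centralizer_iff.1 ((eab_iff.1 (F.eab a hap)).1 hy) x hx)
    Yc := fun x hx y hy => (mem_centralizer_iff.1 ((eab_iff.1 (F.eab b hbp)).1 hy) x hx)
    XnY := (hXa.trans (P.QQ_le_HH (P.adj_symm hb'))).trans (CX.nor_X F hbp)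
    YnX := (hXb.trans (P.QQ_le_HH (P.adj_symm ha'))).trans (CX.nor_X F hap)
    XnM := (hXa.trans (P.QQ_le_HH (P.adj_symm hb'))).trans (PP.HH_le_NN b)
    YnN := (hXb.trans (P.QQ_le_HH (P.adj_symm ha'))).trans (PP.HH_le_NN a)
    ca := hcc hap ha' hXb
    cb := hcc hbp hb' hXa
    pX := hN a hap _ (eab_mono (F.eab b hbp) inf_le_left) (hQ ha' hXb)
    pY := hN b hbp _ (eab_mono (F.eab a hap) inf_le_left) (hQ hb' hXa)
    ab := by
      refine hti a b hap hbp ?_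
      rintro rfl
      exact h.ne (eab_iff.1 (F.eab a hap)).1
    noN := card (hNO a' a ha' (X b) (F.eab b hbp) hXb)
    noM := card (hNO b' b hb' (X a) (F.eab a hap) hXa) }

/-- THEOREM C / `(1a)` of THEOREM R: a critical pair has `X_a ≰ N_a C(X_b)` -/
def TA (Z : Fin 2 → Subgroup G) (X : Subgroup G → Subgroup G) : Prop :=
  ∀ d a b, CX Z X d a b → ¬ X a ≤ NN Z a ⊔ (X a ⊓ centralizer (X b : Set G))

/-- `TA` from `(1a)`: a critical pair has `[X_a, X_b] ≰ N_a`. -/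
theorem ta_of_comm (P : PP Z U) (F : XF Z X)
    (h1 : ∀ d a b, CX Z X d a b → ¬ ∀ x ∈ X a, ∀ y ∈ X b, x * y * x⁻¹ * y⁻¹ ∈ NN Z a) : TA Z X := by
  intro d a b h hle
  refine h1 d a b h fun x hx y hy => ?_
  obtain ⟨a', b', ha', hb', hXa, hXb⟩ := h.ends P F
  have hXX := (eab_iff.1 (F.eab a (PP.pth_pt h.pth))).1
  have hYN : y ∈ normalizer (NN Z a : Set G) := PP.HH_le_NN a (P.QQ_le_HH (P.adj_symm ha') (hXb hy))
  obtain ⟨n, hn, c, hc, rfl⟩ := exists_mul_of_comm (V := NN Z a) (D := X a ⊓ centralizer (X b : Set G))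
    ((F.NX a (PP.pth_pt h.pth)).trans (hXX.trans (centralizer_le inf_le_left))) (hle hx)
  have e1 : y * c = c * y := mem_centralizer_iff.1 hc.2 y hy
  have e2 : n * c * y * (n * c)⁻¹ * y⁻¹ = n * (y * n⁻¹ * y⁻¹) := by
    calc n * c * y * (n * c)⁻¹ * y⁻¹ = n * (c * y) * c⁻¹ * n⁻¹ * y⁻¹ := by group
      _ = n * (y * c) * c⁻¹ * n⁻¹ * y⁻¹ := by rw [e1]
      _ = _ := by group
  rw [e2]
  exact mul_mem hn ((mem_normalizer_iff.1 hYN _).1 (inv_mem hn))

/-- THEOREM C for 2-subgroups gives `TA` -/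
theorem ta_of (P : PP Z U) (F : XF Z X) (hN : NobX Z X) (hti : TIp Z) (hNO : NoP Z) (hG : ThmC2 Z X) : TA Z X := by
  intro d a b h hle
  obtain ⟨a', b', ha', hb', hXa, hXb⟩ := h.ends P F
  have hc := crQ P F hN hti hNO h
  have hYN := hc.YnN
  have h1 : ∀ x ∈ X a, ∀ y ∈ X b, x * y * x⁻¹ * y⁻¹ ∈ NN Z a := by
    intro x hx y hy
    obtain ⟨n, hn, c, hc', rfl⟩ := exists_mul_of_comm (V := NN Z a) (D := X a ⊓ centralizer (X b : Set G))
      ((F.NX a (PP.pth_pt h.pth)).trans ((eab_iff.1 (F.eab a (PP.pth_pt h.pth))).1.trans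
        (centralizer_le inf_le_left))) (hle hx)
    have e1 : y * c = c * y := mem_centralizer_iff.1 hc'.2 y hy
    have e2 : n * c * y * (n * c)⁻¹ * y⁻¹ = n * (y * n⁻¹ * y⁻¹) := by
      calc n * c * y * (n * c)⁻¹ * y⁻¹ = n * (c * y) * c⁻¹ * n⁻¹ * y⁻¹ := by group
        _ = n * (y * c) * c⁻¹ * n⁻¹ * y⁻¹ := by rw [e1]
        _ = _ := by group
    rw [e2]
    exact mul_mem hn ((mem_normalizer_iff.1 (hYN hy) _).1 (inv_mem hn))
  have h3 : X b ≤ centralizer (NN Z a : Set G) :=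
    hG a (PP.pth_pt h.pth) (X b) (MinSimple.VModule.o2_isPGroup _ |>.to_le hXb)
      (hXb.trans ((P.QQ_le_cent ha'.pt).trans (centralizer_le ha'.le_NN))) h1
  apply h.ne
  refine fun x hx => ?_
  obtain ⟨n, hn, c, hc', rfl⟩ := exists_mul_of_comm (V := NN Z a) (D := X a ⊓ centralizer (X b : Set G))
    ((F.NX a (PP.pth_pt h.pth)).trans ((eab_iff.1 (F.eab a (PP.pth_pt h.pth))).1.trans
      (centralizer_le inf_le_left))) (hle hx)
  exact mul_mem (comm_symm h3 hn) hc'.2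

/-- **THE REDUCTION**: some `m ∈ C_{N_b}(N_a)`, in `Q_a`, moves `X_a`. -/
theorem redX (P : PP Z U) (F : XF Z X) (hN : NobX Z X) (hti : TIp Z) (hNO : NoP Z) (hG : TA Z X)
    (h : CX Z X d a b) : ∃ m ∈ NN Z b ⊓ centralizer (NN Z a : Set G), m ∈ QQ a ∧ m ∉ centralizer (X a : Set G) ∧
      X a ≤ normalizer (NN Z b : Set G) := by
  obtain ⟨a', b', ha', hb', hXa, hXb⟩ := h.ends P F
  have hc := crQ P F hN hti hNO h
  obtain ⟨m, hm, hmX⟩ := hc.dich.resolve_left (hG d a b h)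
  have hQ : X b ⊓ centralizer (NN Z a : Set G) ≤ QQ a :=
    P.f3 (P.adj_symm ha') (inf_le_left.trans hXb) inf_le_right
  exact ⟨m, hm, hQ ⟨F.NX b (P.pth_pt' h.pth) hm.1, hm.2⟩, hmX, hc.XnM⟩

/-- `[U 0, y] = Z 0` for `y ∈ Q(Z 0)` which moves `U 0` -/
def Sur (Z U : Fin 2 → Subgroup G) : Prop :=
  ∀ y ∈ QQ (Z 0), y ∉ centralizer (U 0 : Set G) → ∀ z ∈ Z 0, ∃ x ∈ U 0, x * y * x⁻¹ * y⁻¹ = z

omit [Finite G] in
theorem Sur.ln {a l : Subgroup G} (hS : Sur Z U) (h : LnOn Z U a l) {y : G} (hy : y ∈ QQ a)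
    (hyl : y ∉ centralizer (l : Set G)) {z : G} (hz : z ∈ a) : ∃ x ∈ l, x * y * x⁻¹ * y⁻¹ = z := by
  obtain ⟨k, rfl, rfl⟩ := h
  rw [QQ_conj] at hy
  obtain ⟨y0, hy0, rfl⟩ := hy
  obtain ⟨z0, hz0, rfl⟩ := hz
  have h1 : y0 ∉ centralizer (U 0 : Set G) := fun h1 => hyl ((mem_cent_conj (g := k)).2 h1)
  obtain ⟨x0, hx0, e⟩ := hS y0 hy0 h1 z0 hz0
  refine ⟨k * x0 * k⁻¹, ⟨x0, hx0, rfl⟩, ?_⟩
  change k * x0 * k⁻¹ * (k * y0 * k⁻¹) * (k * x0 * k⁻¹)⁻¹ * (k * y0 * k⁻¹)⁻¹ = k * z0 * k⁻¹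
  rw [← e]
  group

/-- `Sur` from the root group structure on `U 0` -/
theorem sur_of (P : PP Z U)
    (hfree : ∀ y ∈ QQ (Z 0), ∀ v ∈ U 0, v ∉ Z 0 → y * v = v * y → y ∈ centralizer (U 0 : Set G))
    (hcard : Nat.card (U 0) = Nat.card (Z 0) * Nat.card (Z 0)) : Sur Z U := by
  intro y hy hyU
  have hcom : ∀ x : U 0, (x : G) * y * (x : G)⁻¹ * y⁻¹ ∈ Z 0 := fun x => P.UQ x x.2 y hy
  set K := (centralizer ({y} : Set G)).subgroupOf (U 0) with hK
  have hKZ : U 0 ⊓ centralizer ({y} : Set G) ≤ Z 0 := by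
    rintro v ⟨hv, hvy⟩
    by_contra hvZ
    exact hyU (hfree y hy v hv hvZ (mem_centralizer_singleton_iff.1 hvy).symm)
  let f : U 0 ⧸ K → Z 0 := fun q => ⟨_, hcom q.out⟩
  have hf : Function.Injective f := by
    intro p q hpq
    have e : (p.out : G) * y * (p.out : G)⁻¹ * y⁻¹ = (q.out : G) * y * (q.out : G)⁻¹ * y⁻¹ :=
      congrArg Subtype.val hpq
    have e0 : (p.out : G) * y * (p.out : G)⁻¹ = (q.out : G) * y * (q.out : G)⁻¹ := mul_right_cancel e
    have e1 : (p.out : G)⁻¹ * (q.out : G) * y = y * ((p.out : G)⁻¹ * (q.out : G)) := by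
      calc (p.out : G)⁻¹ * (q.out : G) * y =
          (p.out : G)⁻¹ * ((q.out : G) * y * (q.out : G)⁻¹) * (q.out : G) := by group
        _ = (p.out : G)⁻¹ * ((p.out : G) * y * (p.out : G)⁻¹) * (q.out : G) := by rw [e0]
        _ = _ := by group
    rw [← QuotientGroup.out_eq' p, ← QuotientGroup.out_eq' q]
    refine QuotientGroup.eq.2 ?_
    refine mem_subgroupOf.2 ?_
    exact mem_centralizer_singleton_iff.2 e1
  have h3 : Nat.card (U 0 ⊓ centralizer ({y} : Set G) : Subgroup G) * Nat.card (U 0 ⧸ K) =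
      Nat.card (U 0) := by
    have h4 := card_mul_relIndex' (H := U 0 ⊓ centralizer ({y} : Set G)) (K := U 0) inf_le_left
    rw [inf_relIndex_left] at h4
    exact h4
  have h4 : Nat.card (U 0 ⊓ centralizer ({y} : Set G) : Subgroup G) ≤ Nat.card (Z 0) := card_le_of_le hKZ
  have h5 : Nat.card (Z 0) ≤ Nat.card (U 0 ⧸ K) := by
    have h6 : Nat.card (Z 0) * Nat.card (Z 0) ≤ Nat.card (Z 0) * Nat.card (U 0 ⧸ K) := by
      rw [← hcard, ← h3]
      exact Nat.mul_le_mul_right _ h4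
    exact Nat.le_of_mul_le_mul_left h6 Nat.card_pos
  intro z hz
  obtain ⟨q, hq⟩ := (hf.bijective_of_nat_card_le h5).2 ⟨z, hz⟩
  exact ⟨q.out, q.out.2, congrArg Subtype.val hq⟩

/-- **THE REDUCTION** (TEXT Q4 #20474 (2)). -/
theorem redQ (P : PP Z U) (F : XF Z (XW Z U)) (hN : NobX Z (XW Z U)) (hti : TIp Z) (hNO : NoP Z)
    (hG : TA Z (XW Z U)) (hS : Sur Z U) (h : CX Z (XW Z U) d a b) :
    a ≤ NN Z b ∧ ∃ m ∈ NN Z b ⊓ centralizer (NN Z a : Set G), ∃ l, LnOn Z U a l ∧ m ∉ centralizer (l : Set G) := by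
  obtain ⟨m, hm, hmQ, hmX, hn⟩ := redX P F hN hti hNO hG h
  obtain ⟨l, hl, hml⟩ : ∃ l, LnOn Z U a l ∧ m ∉ centralizer (l : Set G) := by
    by_contra hcon
    push Not at hcon
    apply hmX
    have h1 : XW Z U a ≤ centralizer ({m} : Set G) := by
      refine sup_le (fun n hn => ?_) (iSup_le fun l n hn => ?_)
      · exact mem_centralizer_singleton_iff.2 (mem_centralizer_iff.1 hm.2 n hn)
      · exact mem_centralizer_singleton_iff.2 (mem_centralizer_iff.1 (hcon l l.2) n hn)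
    exact mem_centralizer_iff.2 fun x hx => mem_centralizer_singleton_iff.1 (h1 hx)
  refine ⟨fun z hz => ?_, m, hm, l, hl, hml⟩
  obtain ⟨x, hx, e⟩ := hS.ln hl hmQ hml hz
  rw [← e]
  exact mul_mem ((mem_normalizer_iff.1 (hn (ln_le_XW hl hx)) m).1 hm.1) (inv_mem hm.1)

theorem redQ' (P : PP Z U) (F : XF Z (XW Z U)) (hN : NobX Z (XW Z U)) (hti : TIp Z) (hNO : NoP Z)
    (hG : TA Z (XW Z U)) (hS : Sur Z U) (h : CX Z (XW Z U) d a b) : a ≤ NN Z b ∧ b ≤ NN Z a :=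
  ⟨(redQ P F hN hti hNO hG hS h).1, (redQ P F hN hti hNO hG hS (h.symm P)).1⟩

omit [Finite G] in
theorem pt_ne (P : PP Z U) {a : Subgroup G} (ha : IsPt Z a) : a ≠ ⊥ := by
  obtain ⟨k, rfl⟩ := ha
  intro e
  apply P.ne
  have h4 : MulAut.conj k • Z 0 ≤ MulAut.conj k • (⊥ : Subgroup G) := by rw [e]; exact bot_le
  exact le_bot_iff.1 (conj_le_iff.1 h4)

/-- `X`-distance `2` is impossible if the only points in `N_u ∩ N_b`, `u ~ b`, are `u` and `b`. -/
theorem false_of_twoQ (P : PP Z U) (F : XF Z (XW Z U)) (hN : NobX Z (XW Z U)) (hti : TIp Z) (hNO : NoP Z)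
    (hG : TA Z (XW Z U)) (hS : Sur Z U)
    (hdis : ∀ a u b : Subgroup G, Adj Z u b → IsPt Z a → a ≤ NN Z u → a ≤ NN Z b → a = u ∨ a = b)
    (h : CX Z (XW Z U) 1 a b) : False := by
  have h1 := (redQ P F hN hti hNO hG hS h).1
  have h2 := h.pth
  have hap : IsPt Z a := PP.pth_pt h2
  cases h2 with
  | @succ _ _ u _ h3 h4 =>
    cases h3 with
    | @succ _ _ v _ h5 h6 =>
      cases h5 with
      | zero h7 =>
        rcases hdis a u b h4 hap (P.adj_symm h6).le_NN h1 with h8 | h8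
        · subst h8
          exact h.ne (h.com 1 le_rfl _ _ (PP.pth_one h4))
        · subst h8
          exact h.ne (eab_iff.1 (F.eab a hap)).1

/-- a critical pair of distance `1` -/
theorem zero_one (h : CX Z (XW Z U) 0 a b) : CX Z (XW Z U) 0 (Z 0) (Z 1) := by
  obtain ⟨hp, hne, hcom⟩ := h
  cases hp with
  | @succ _ _ u _ h1 h2 =>
    cases h1 with
    | zero h3 =>
      obtain ⟨k, rfl, rfl⟩ := h2
      refine ⟨PP.pth_one ⟨1, by rw [map_one, one_smul], by rw [map_one, one_smul]⟩, fun h4 => hne ?_, hcom⟩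
      rw [XW_conj, XW_conj]
      exact Cfsg.Agent.Omega.NoFF.Basic.conj_le_centralizer h4

/-- **The least `X`-distance is `1` or `2`** (`CX .. d a b` is a pair at distance `d + 1`). -/
theorem exists_cx (P : PP Z U) (hab : IsElementaryAbelian 2 (XW Z U (Z 0)))
    (hle : XW Z U (Z 0) ≤ QQ (Z 0)) (hN : NobX Z (XW Z U)) (hti : TIp Z) (hNO : NoP Z) (hB : TB Z (XW Z U))
    (hfx : FixN Z) : CX Z (XW Z U) 0 (Z 0) (Z 1) ∨ ∃ a b, CX Z (XW Z U) 1 a b := by
  obtain ⟨d, a, b, hd, hp, hne, hcom⟩ := farQ P hab hle hN hNO hB hti hfx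
  have h : CX Z (XW Z U) d a b := ⟨hp, hne, hcom⟩
  have hd' : d = 0 ∨ d = 1 := by omega
  rcases hd' with rfl | rfl
  · exact Or.inl (zero_one h)
  · exact Or.inr ⟨a, b, h⟩

/-- **(E), `N_a ∩ N_b`, `a ~ b`, contains no point `≠ a, b`: `[X_1, X_2] ≠ 1`.** -/
theorem dist_oneQ (P : PP Z U) (hab : IsElementaryAbelian 2 (XW Z U (Z 0)))
    (hle : XW Z U (Z 0) ≤ QQ (Z 0)) (hN : NobX Z (XW Z U)) (hti : TIp Z) (hNO : NoP Z) (hG : TA Z (XW Z U))
    (hB : TB Z (XW Z U)) (hfx : FixN Z) (hS : Sur Z U)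
    (hdis : ∀ a u b : Subgroup G, Adj Z u b → IsPt Z a → a ≤ NN Z u → a ≤ NN Z b → a = u ∨ a = b) :
    CX Z (XW Z U) 0 (Z 0) (Z 1) := by
  rcases exists_cx P hab hle hN hti hNO hB hfx with h | ⟨a, b, h⟩
  · exact h
  · exact (false_of_twoQ P (xf P hab hle) hN hti hNO hG hS hdis h).elim

end frame

end Cfsg.Agent.Omega.OM.PG.ExactQ

end

section


/-!
# (E), radical, PURE TRANSVECTIONS (helper997, TEXT Q4 #20474 (3) PC)

`Z 0 ≤ N_1`, `[N_a, N_u] = 1` for `a ~ u`: then `X_u` (`= W_u N_u`) centralises `N_a` (`pc`).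

* `FusP Z` : an element `≠ 1` of `Z 0 Z 1` in a point `a` : `a = Z 0` or `a = Z 1`;
* `IrrN Z` : `N_1 / Z 0` is irreducible for `H_1 = N_G(Z 0)`;
* `RegX Z X` : `X_a` acts on `Q_a` as an `F_q`-space of maps to `a`;
* `L0 Z` : LEMMA 0. `K ≤ C_G(Z 0)` normalised by `H_1`, a 2-element of `K` moves `N_1`: `K` is transitive on the
  neighbours of `Z 0`;
* `false_of_zero` : the pair `(Z 0, Z 1)` is not critical if `[N_1, N_2] = 1` (with `X_a = W_a N_a`).
-/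

set_option autoImplicit false
set_option linter.unusedSectionVars false

namespace Cfsg.Agent.Omega.OM.PG.PcQ

open Subgroup Cfsg
open Cfsg.Agent.ZN Cfsg.Agent.Omega.OM.PG.Peel Cfsg.Agent.Omega.OM.PG.PeelQ Cfsg.Agent.Omega.OM.PG.ExactQ
open Cfsg.Agent.Omega.NO3S.EThree Cfsg.Agent.Omega.NO3S.EThree.ExactA
open Cfsg.Agent.Omega.NoFF.Basic (comm_symm conj_conj conj_le_iff)
open Cfsg.Agent.Omega.OmThm.Grp (GD Mv)
open scoped Pointwise

universe u

variable {G : Type u} [Group G]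

/-- an element `≠ 1` of `Z 0 Z 1` in a point `a` : `a = Z 0` or `a = Z 1` -/
def FusP (Z : Fin 2 → Subgroup G) : Prop :=
  ∀ a : Subgroup G, IsPt Z a → ∀ x ∈ a, x ∈ Z 0 ⊔ Z 1 → x ≠ 1 → a = Z 0 ∨ a = Z 1

/-- `N_1 / Z 0` is irreducible for `H_1` -/
def IrrN (Z : Fin 2 → Subgroup G) : Prop :=
  ∀ K : Subgroup G, K ≤ NN Z (Z 0) → Z 0 ≤ K → HH (Z 0) ≤ normalizer (K : Set G) → K ≤ Z 0 ∨ NN Z (Z 0) ≤ K

/-- `X_a` acts on `Q_a` as an `F_q`-space of maps to `a` -/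
def RegX (Z : Fin 2 → Subgroup G) (X : Subgroup G → Subgroup G) : Prop :=
  ∀ a : Subgroup G, IsPt Z a → ∀ w ∈ X a, ∀ b ∈ QQ a, w * b ≠ b * w → ∀ z ∈ a,
    ∃ w' ∈ X a, w' * b * w'⁻¹ * b⁻¹ = z ∧ ∀ v ∈ QQ a, w * v = v * w → w' * v = v * w'

/-- LEMMA 0 -/
def L0 (Z : Fin 2 → Subgroup G) : Prop :=
  ∀ K : Subgroup G, K ≤ centralizer (Z 0 : Set G) → HH (Z 0) ≤ normalizer (K : Set G) →
    (∃ x ∈ K, IsPGroup 2 (zpowers x) ∧ x ∉ centralizer (NN Z (Z 0) : Set G)) →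
    ∀ u u' : Subgroup G, Adj Z (Z 0) u → Adj Z (Z 0) u' → ∃ x ∈ K, MulAut.conj x • u = u'

theorem FusP.adj {Z : Fin 2 → Subgroup G} (hf : FusP Z) {a b c : Subgroup G} (h : Adj Z a b) (hc : IsPt Z c) {x : G}
    (hx : x ∈ c) (hx' : x ∈ a ⊔ b) (hx1 : x ≠ 1) : c = a ∨ c = b := by
  obtain ⟨k, rfl, rfl⟩ := h
  have h1 : k⁻¹ * x * k ∈ Z 0 ⊔ Z 1 := by
    rw [← Subgroup.smul_sup] at hx'
    obtain ⟨y, hy, rfl⟩ := hx'
    change k⁻¹ * (k * y * k⁻¹) * k ∈ _
    have e : k⁻¹ * (k * y * k⁻¹) * k = y := by group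
    rw [e]
    exact hy
  have h2 : k⁻¹ * x * k ∈ MulAut.conj k⁻¹ • c := by
    refine ⟨x, hx, ?_⟩
    change k⁻¹ * x * k⁻¹⁻¹ = _
    group
  have h3 : k⁻¹ * x * k ≠ 1 := by
    intro e
    apply hx1
    calc x = k * (k⁻¹ * x * k) * k⁻¹ := by group
      _ = 1 := by rw [e]; group
  rcases hf _ (hc.conj k⁻¹) _ h2 h1 h3 with e | e
  · left
    rw [← e, conj_inv_conj]
  · right
    rw [← e, conj_inv_conj]

theorem not_adj_self {Z : Fin 2 → Subgroup G} (h01 : Z 0 ≠ Z 1) {a : Subgroup G} (h : Adj Z a a) : False := by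
  obtain ⟨k, h1, h2⟩ := h
  apply h01
  have h3 : MulAut.conj k • Z 0 = MulAut.conj k • Z 1 := h1.symm.trans h2
  have h4 := congrArg (fun A => MulAut.conj k⁻¹ • A) h3
  simpa only [inv_conj_conj] using h4

section main

variable [Finite G] {Z U : Fin 2 → Subgroup G} (P : PP Z U) {X : Subgroup G → Subgroup G} (F : XF Z X)
include P F

/-- **PC.** -/
theorem pc (hcom : ∀ a u : Subgroup G, Adj Z a u → Com Z a u) (hti : TIp Z) (hfus : FusP Z) (hirr : IrrN Z)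
    (hreg : RegX Z X) (hL0 : L0 Z) (hq : 3 ≤ Nat.card (Z 0)) (h01 : Z 0 ≠ Z 1) (hrad : Z 0 ≤ NN Z (Z 0))
    {u : Subgroup G} (hu : Adj Z (Z 0) u) : X u ≤ centralizer (NN Z (Z 0) : Set G) := by
  by_contra hmov
  have h0 : IsPt Z (Z 0) := ⟨1, by rw [map_one, one_smul]⟩
  set N := NN Z (Z 0) with hN
  set Pt : Set (Subgroup G) := {p | Adj Z (Z 0) p} with hPt
  have hNe := eab_iff.1 (NN_eab P h0)
  have hNQ : ∀ p, Adj Z (Z 0) p → N ≤ QQ p := fun p hp =>
    P.f3 (P.adj_symm hp) (P.NN_le_QQ h0) (hcom _ _ hp)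
  have hXa : ∀ p, Adj Z (Z 0) p → X p ≤ centralizer (Z 0 : Set G) := fun p hp =>
    (F.XQ p (P.adj_pt hp)).trans (P.QQ_le_cent_of_adj hp)
  have hw0 : ∀ p, Adj Z (Z 0) p → ∀ w ∈ X p, MulAut.conj w • Z 0 = Z 0 := fun p hp w hw =>
    Cfsg.Agent.Omega.NOThreeL.Pair.conj_eq_of_mem (centralizer_le_normalizer _ (hXa p hp hw))
  have hmv : ∀ p ∈ Pt, ∀ w ∈ X p, ∀ x ∈ Pt, MulAut.conj w • x ∈ Pt := by
    intro p hp w hw x hx
    have h1 := Adj.conj hx w
    rw [hw0 p hp w hw] at h1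
    exact h1
  have hXX : ∀ p, Adj Z (Z 0) p → ∀ x ∈ X p, ∀ y ∈ X p, x * y = y * x := fun p hp x hx y hy =>
    mem_centralizer_iff.1 ((eab_iff.1 (F.eab p (P.adj_pt hp))).1 hy) x hx
  have D : GD N Pt X (Nat.card (Z 0)) :=
    { comm := fun x hx y hy => mem_centralizer_iff.1 (hNe.1 hy) x hx
      sq := fun x hx => by rw [← pow_two]; exact hNe.2 x hx
      hq := hq
      le := fun p hp => Adj.le_NN hp
      card := by
        intro p hp
        obtain ⟨k, rfl⟩ := P.adj_pt hp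
        exact ZN.ChoiceBase.card_cj k _
      ti := by
        intro p hp x hx v hvp hvx hv1
        by_contra hne
        exact hv1 (ti_one hti (P.adj_pt hp) (P.adj_pt hx) hne hvp hvx)
      XN := fun p hp w hw v hv => F.com p (P.adj_pt hp) w hw v (hNQ p hp hv)
      Xp := fun p hp w hw v hv => hXX p hp w hw v (F.aX p (P.adj_pt hp) hv)
      mv := hmv
      Xc := fun p hp w hw x hx => F.conj w x (P.adj_pt hx)
      reg := by
        intro x hx w hw b hb hne z hz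
        obtain ⟨w', hw', h1, h2⟩ := hreg x (P.adj_pt hx) w hw b (hNQ x hx hb) hne z hz
        exact ⟨w', hw', h1, fun v hv => h2 v (hNQ x hx hv)⟩
      cardT := by
        have key : ∀ p ∈ Pt, (centralizer (N : Set G)).relIndex (X p) = (centralizer (N : Set G)).relIndex (X (Z 1)) := by
          rintro _ ⟨k, hk, rfl⟩
          have h1 : IsPt Z (Z 1) := P.adj_pt ⟨1, by rw [map_one, one_smul], by rw [map_one, one_smul]⟩
          have e1 : MulAut.conj k • centralizer (N : Set G) = centralizer (N : Set G) := by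
            have e2 : MulAut.conj k • centralizer (N : Set G) = centralizer ((MulAut.conj k • N : Subgroup G) : Set G) :=
              ZN.ChoiceBase.cj_centralizer k _
            rw [e2, hN, ← NN_conj, ← hk]
          rw [F.conj k (Z 1) h1]
          conv_lhs => rw [← e1]
          rw [relIndex_pointwise_smul]
        intro p hp x hx
        rw [key p hp, key x hx]
      span := le_rfl }
  have hadj0 : ∀ p ∈ Pt, p ≠ Z 0 := by
    rintro p hp rfl
    exact not_adj_self h01 hp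
  -- the killed vectors
  set Y : Subgroup G := ⨆ p : {p : Subgroup G // Adj Z (Z 0) p}, X p with hY
  have hYle : ∀ p, Adj Z (Z 0) p → X p ≤ Y := fun p hp =>
    le_iSup (fun p : {p : Subgroup G // Adj Z (Z 0) p} => X p) ⟨p, hp⟩
  have hYc : Y ≤ centralizer (Z 0 : Set G) := iSup_le fun p => hXa p p.2
  have hHY : HH (Z 0) ≤ normalizer (Y : Set G) := by
    have key : ∀ g ∈ HH (Z 0), MulAut.conj g • Y ≤ Y := by
      intro g hg
      have hg0 : MulAut.conj g • Z 0 = Z 0 := Cfsg.Agent.Omega.NOThreeL.Pair.conj_eq_of_mem hg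
      have h1 : Y ≤ MulAut.conj g⁻¹ • Y := by
        refine iSup_le fun p => ?_
        have h2 : Adj Z (Z 0) (MulAut.conj g • (p : Subgroup G)) := by
          have := p.2.conj g
          rwa [hg0] at this
        have h3 := conj_le_iff (g := g⁻¹) |>.2 (hYle _ h2)
        rwa [F.conj g _ (P.adj_pt p.2), inv_conj_conj] at h3
      have h2 := conj_le_iff (g := g) |>.2 h1
      rwa [conj_inv_conj] at h2
    intro g hg
    refine ChoiceBase.mem_normalizer_iff_cj.2 (le_antisymm (key g hg) ?_)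
    have h2 := conj_le_iff (g := g) |>.2 (key g⁻¹ (inv_mem hg))
    rwa [conj_inv_conj] at h2
  have hkill : ∀ v ∈ N, (∀ p ∈ Pt, ∀ g ∈ X p, g * v = v * g) → v ∈ Z 0 := by
    have h1 : HH (Z 0) ≤ normalizer ((N ⊓ centralizer (Y : Set G) : Subgroup G) : Set G) :=
      NO3L.LemP.le_normalizer_inf (PP.HH_le_NN _) (hHY.trans (NO3L.LemP.normalizer_le_normalizer_cent Y))
    have h2 : Z 0 ≤ N ⊓ centralizer (Y : Set G) := le_inf hrad (comm_symm hYc)
    rcases hirr _ inf_le_left h2 h1 with h3 | h3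
    · intro v hv h4
      refine h3 ⟨hv, ?_⟩
      have h5 : Y ≤ centralizer ({v} : Set G) := iSup_le fun p g hg =>
        mem_centralizer_singleton_iff.2 (h4 p p.2 g hg)
      exact mem_centralizer_iff.2 fun y hy => mem_centralizer_singleton_iff.1 (h5 hy)
    · exfalso
      exact hmov ((hYle u hu).trans (comm_symm (h3.trans inf_le_right)))
  -- no vector of a sum of two points is killed
  have nk : ∀ p ∈ Pt, ∀ x ∈ Pt, ∀ a ∈ p, ∀ b ∈ x, a * b ≠ 1 → ∃ w ∈ Pt, ∃ g ∈ X w, g * (a * b) ≠ (a * b) * g := by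
    intro p hp x hx a ha b hb hab
    by_contra hcon
    push Not at hcon
    have h1 : a * b ∈ Z 0 := hkill _ (mul_mem (D.le p hp ha) (D.le x hx hb)) hcon
    by_cases hb1 : b = 1
    · subst hb1
      rw [mul_one] at h1 hab
      exact hab (ti_one hti (P.adj_pt hp) h0 (hadj0 p hp) ha h1)
    · have h2 : b ∈ Z 0 ⊔ p := by
        have e : b = a⁻¹ * (a * b) := by group
        rw [e]
        exact mul_mem (mem_sup_right (inv_mem ha)) (mem_sup_left h1)
      rcases hfus.adj hp (P.adj_pt hx) hb h2 hb1 with h3 | h3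
      · exact hadj0 x hx h3
      · subst h3
        exact hab (ti_one hti (P.adj_pt hp) h0 (hadj0 x hp) (mul_mem ha hb) h1)
  -- one class
  have conn : ∀ p ∈ Pt, ∀ x ∈ Pt,
      Relation.ReflTransGen (fun a b => a ∈ Pt ∧ b ∈ Pt ∧ (Mv X a b ∨ Mv X b a)) p x := by
    have hex : ∃ x ∈ Y, IsPGroup 2 (zpowers x) ∧ x ∉ centralizer (N : Set G) := by
      obtain ⟨w, hw, hwN⟩ := SetLike.not_le_iff_exists.1 hmov
      exact ⟨w, hYle u hu hw, (MinSimple.VModule.o2_isPGroup _).to_le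
        (zpowers_le.2 (F.XQ u (P.adj_pt hu) hw)), hwN⟩
    have hstep : ∀ g ∈ Y, (∀ p ∈ Pt, MulAut.conj g • p ∈ Pt ∧
        Relation.ReflTransGen (fun a b => a ∈ Pt ∧ b ∈ Pt ∧ (Mv X a b ∨ Mv X b a)) p (MulAut.conj g • p)) := by
      intro g hg
      refine Subgroup.iSup_induction (fun p : {p : Subgroup G // Adj Z (Z 0) p} => X p)
        (C := fun g => ∀ p ∈ Pt, MulAut.conj g • p ∈ Pt ∧
          Relation.ReflTransGen (fun a b => a ∈ Pt ∧ b ∈ Pt ∧ (Mv X a b ∨ Mv X b a)) p (MulAut.conj g • p))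
        hg ?_ ?_ ?_
      · rintro ⟨y, hy⟩ w hw p hp
        refine ⟨hmv y hy w hw p hp, ?_⟩
        by_cases hc : X y ≤ centralizer (p : Set G)
        · have e : MulAut.conj w • p = p :=
            Cfsg.Agent.Omega.NOThreeL.Pair.conj_eq_of_mem (centralizer_le_normalizer _ (hc hw))
          rw [e]
        · have hc' : ¬ X y ≤ centralizer ((MulAut.conj w • p : Subgroup G) : Set G) := by
            intro h1
            apply hc
            intro t ht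
            have h2 : w * t * w⁻¹ ∈ X y := mul_mem (mul_mem hw ht) (inv_mem hw)
            exact (mem_cent_conj (g := w)).1 (h1 h2)
          exact (Relation.ReflTransGen.single ⟨hp, hy, Or.inr hc⟩).tail ⟨hy, hmv y hy w hw p hp, Or.inl hc'⟩
      · intro p hp
        rw [map_one, one_smul]
        exact ⟨hp, Relation.ReflTransGen.refl⟩
      · intro g g' h1 h2 p hp
        obtain ⟨h3, h4⟩ := h2 p hp
        obtain ⟨h5, h6⟩ := h1 _ h3
        rw [← conj_conj]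
        exact ⟨h5, h4.trans h6⟩
    intro p hp x hx
    obtain ⟨g, hg, e⟩ := hL0 Y hYc hHY hex p x hp hx
    rw [← e]
    exact (hstep g hg p hp).2
  -- `Z 0` would lie in a point
  obtain ⟨z, hz, hz1⟩ : ∃ z ∈ Z 0, z ≠ 1 := by
    by_contra hcon
    push Not at hcon
    exact P.ne ((eq_bot_iff_forall _).2 hcon)
  obtain ⟨p, hp, hzp⟩ := D.mem_point conn nk ⟨u, hu, hmov⟩ (hrad hz) hz1
  exact hz1 (ti_one hti (P.adj_pt hp) h0 (hadj0 p hp) hzp hz)

/-- The same for all adjacent points. -/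
theorem pc' (hcom : ∀ a u : Subgroup G, Adj Z a u → Com Z a u) (hti : TIp Z) (hfus : FusP Z) (hirr : IrrN Z)
    (hreg : RegX Z X) (hL0 : L0 Z) (hq : 3 ≤ Nat.card (Z 0)) (h01 : Z 0 ≠ Z 1) (hrad : Z 0 ≤ NN Z (Z 0))
    {a u : Subgroup G} (hu : Adj Z a u) : X u ≤ centralizer (NN Z a : Set G) := by
  obtain ⟨k, rfl, rfl⟩ := hu
  have h1 : Adj Z (Z 0) (Z 1) := ⟨1, by rw [map_one, one_smul], by rw [map_one, one_smul]⟩
  rw [F.conj k _ (P.adj_pt h1), NN_conj]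
  exact Cfsg.Agent.Omega.NoFF.Basic.conj_le_centralizer
    (pc P F hcom hti hfus hirr hreg hL0 hq h01 hrad h1)

end main

/-- **PC: the pair `(Z 0, Z 1)` is not critical** (radical, `[N_1, N_2] = 1`). -/
theorem false_of_zero [Finite G] {Z U : Fin 2 → Subgroup G} (P : PP Z U) (F : XF Z (XW Z U))
    (hN : NobX Z (XW Z U)) (hNO : NoP Z) (hG : TA Z (XW Z U)) (hS : Sur Z U)
    (hcom : ∀ a u : Subgroup G, Adj Z a u → Com Z a u) (hti : TIp Z) (hfus : FusP Z) (hirr : IrrN Z)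
    (hreg : RegX Z (XW Z U)) (hL0 : L0 Z) (hq : 3 ≤ Nat.card (Z 0)) (h01 : Z 0 ≠ Z 1) (hrad : Z 0 ≤ NN Z (Z 0))
    (h : CX Z (XW Z U) 0 (Z 0) (Z 1)) : False := by
  have h1 : Adj Z (Z 0) (Z 1) := ⟨1, by rw [map_one, one_smul], by rw [map_one, one_smul]⟩
  obtain ⟨-, m, hm, l, hl, hml⟩ := redQ P F hN hti hNO hG hS h
  apply hml
  -- `m ∈ N_2` centralises `X_1`
  have h2 : XW Z U (Z 0) ≤ centralizer (NN Z (Z 1) : Set G) :=
    pc' P F hcom hti hfus hirr hreg hL0 hq h01 hrad (P.adj_symm h1)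
  exact (comm_symm ((ln_le_XW hl).trans h2)) hm.1

end Cfsg.Agent.Omega.OM.PG.PcQ

end

section


/-!
# THEOREM R / THEOREM N, form (1a) (all `q`, all levels)

`(a, b)` an `X`-critical pair with `X_a = N_a C_{X_a}(X_b)`, `y ≤ X_a` moved by `N_b`, `n ∈ Q_a` a square root of `1`
which centralises `X_a`, with `[n, C(X_a)] ≤ y`.  Then **`[n, N_b] ≤ N_a`** (`comm_mem`).

`comm_mem'` : the same for a point `y` with `y ∩ N_a = 1`.
-/

set_option autoImplicit false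
set_option linter.unusedSectionVars false

namespace Cfsg.Agent.Omega.TCQ.R.OneA

open Subgroup Cfsg
open Cfsg.Agent.ZN Cfsg.Agent.Omega.OM.PG Cfsg.Agent.Omega.OM.PG.Peel Cfsg.Agent.Omega.OM.PG.PeelQ Cfsg.Agent.Omega.OM.PG.ExactQ
open Cfsg.Agent.Omega.NO3S.EThree Cfsg.Agent.Omega.NO3S.EThree.ExactA
open Cfsg.Agent.Omega.NoFF.Basic (comm_symm)
open scoped Pointwise

universe u

variable {G : Type u} [Group G] [Finite G]

/-- `|W : C_W(B)| ≤ |N : C_N(B)|`, `N ≤ W` : `W = N C_W(B)`. -/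
theorem sup_of_relIndex {N W B : Subgroup G} (hNW : N ≤ W)
    (h : (centralizer (B : Set G)).relIndex W ≤ (centralizer (B : Set G)).relIndex N) :
    W ≤ N ⊔ (W ⊓ centralizer (B : Set G)) := by
  set D := W ⊓ centralizer (B : Set G) with hD
  have f1 : D.relIndex W = (centralizer (B : Set G)).relIndex W := inf_relIndex_left _ _
  have f3 : D.relIndex N = (centralizer (B : Set G)).relIndex N := by
    rw [← inf_relIndex_right D, ← inf_relIndex_right (centralizer (B : Set G)), hD, inf_comm W, inf_assoc,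
      inf_eq_right.2 hNW]
  have f6 := relIndex_mul_relIndex D (N ⊔ D) W le_sup_right (sup_le hNW inf_le_left)
  have f7 : D.relIndex N ≤ D.relIndex (N ⊔ D) := relIndex_le_of_le_right le_sup_left index_ne_zero_of_finite
  have f8 := rel_pos D (N ⊔ D)
  have f9 : (N ⊔ D).relIndex W ≤ 1 := by
    have f10 : D.relIndex (N ⊔ D) * (N ⊔ D).relIndex W ≤ D.relIndex (N ⊔ D) * 1 := by
      rw [f6, f1, mul_one]
      exact (h.trans f3.ge).trans f7
    exact Nat.le_of_mul_le_mul_left f10 f8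
  have f11 := rel_pos (N ⊔ D) W
  exact relIndex_eq_one.1 (by omega)

section main

variable {Z U : Fin 2 → Subgroup G} {X : Subgroup G → Subgroup G} {d : ℕ} {a b : Subgroup G}

/-- **(1a).** -/
theorem comm_mem (P : PP Z U) (F : XF Z X) (hNO : NoP Z) (h : CX Z X d a b)
    (hex : X a ≤ NN Z a ⊔ (X a ⊓ centralizer (X b : Set G))) {y : Subgroup G}
    (hTI : ∀ u ∈ y, u ≠ 1 → (∀ f ∈ NN Z b, f * u = u * f) → NN Z b ≤ centralizer (y : Set G))
    (hmv : ¬ NN Z b ≤ centralizer (y : Set G)) {n : G} (hnQ : n ∈ QQ a) (hn2 : n * n = 1)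
    (hnX : n ∈ centralizer (X a : Set G)) (hny : ∀ c ∈ centralizer (X a : Set G), n * c * n⁻¹ * c⁻¹ ∈ y)
    {f : G} (hf : f ∈ NN Z b) : n * f * n⁻¹ * f⁻¹ ∈ NN Z a := by
  have hap : IsPt Z a := PP.pth_pt h.pth
  have hbp : IsPt Z b := P.pth_pt' h.pth
  -- an element of `y` which commutes with `N_b` is `1`
  have hy1 : ∀ u ∈ y, (∀ f ∈ NN Z b, f * u = u * f) → u = 1 := by
    intro u hu hc
    by_contra hne
    exact hmv (hTI u hu hne hc)
  -- down the path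
  have key : ∀ m : ℕ, m ≤ d → ∀ c : Subgroup G, Pth Z m a c → ∀ e : ℕ, e + m = d + 1 → Pth Z e c b → n ∈ QQ c := by
    intro m
    induction m with
    | zero =>
      intro _ c hc e _ _
      cases hc with
      | zero _ => exact hnQ
    | succ m ih =>
      intro hm c hc e he hcb
      have hXX := h.com _ hm a c hc
      have hcp := PP.pth_pt hcb
      cases hc with
      | @succ _ _ c' _ h2 h3 =>
        have hn' : n ∈ QQ c' := ih (by omega) c' h2 (e + 1) (by omega) (PP.pth_cons h3 hcb)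
        have hnH : n ∈ HH c := P.QQ_le_HH (P.adj_symm h3) hn'
        have hnn : n ∈ normalizer (X c : Set G) := CX.nor_X F hcp hnH
        have hcb' : X c ≤ centralizer (X b : Set G) := h.com e (by omega) c b hcb
        refine P.f3 (P.adj_symm h3) (E := zpowers n) (by rwa [zpowers_le]) ?_ (mem_zpowers n)
        rw [zpowers_le]
        refine mem_centralizer_iff.2 fun x hx => ?_
        have hxX : x ∈ X c := F.NX _ hcp hx
        have hxa : x ∈ centralizer (X a : Set G) := (comm_symm hXX) hxX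
        have h4 : n * x * n⁻¹ * x⁻¹ ∈ y := hny x hxa
        have h5 : n * x * n⁻¹ * x⁻¹ ∈ X c := mul_mem ((mem_normalizer_iff.1 hnn x).1 hxX) (inv_mem hxX)
        have h6 : n * x * n⁻¹ * x⁻¹ = 1 := hy1 _ h4 fun f hf =>
          mem_centralizer_iff.1 (hcb' h5) f (F.NX _ hbp hf)
        exact ((mul_inv_eq_iff_eq_mul.1 ((mul_inv_eq_one.1 h6)))).symm
  -- the last vertex before `b`
  obtain ⟨c', hc', hcb, hnc⟩ : ∃ c', Pth Z d a c' ∧ Adj Z c' b ∧ n ∈ QQ c' := by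
    have hp := h.pth
    cases hp with
    | @succ _ _ c' _ h1 h2 => exact ⟨c', h1, h2, key d le_rfl c' h1 1 (by omega) (PP.pth_one h2)⟩
  have hXc : X a ≤ QQ c' := h.X_le_QQ P F d le_rfl _ _ hc'
  -- the first vertex
  obtain ⟨a', b', ha', -, -, hXb⟩ := h.ends P F
  have hnb : n ∈ centralizer (b : Set G) := P.QQ_le_cent_of_adj (P.adj_symm hcb) hnc
  have hnN : n ∈ normalizer (NN Z b : Set G) := PP.HH_le_NN b (PP.cent_le_HH b hnb)
  have hNb := (eab_iff.1 (NN_eab P hbp)).1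
  have hNa := (eab_iff.1 (NN_eab P hap)).1
  have hXa := eab_iff.1 (F.eab a hap)
  -- `C_{N_b}(N_a)` centralises `X_a` and `n`
  have hL1 : NN Z b ⊓ centralizer (NN Z a : Set G) ≤ centralizer (X a : Set G) := by
    intro g hg
    refine mem_centralizer_iff.2 fun x hx => ?_
    obtain ⟨m, hm, c, hc, rfl⟩ := exists_mul_of_comm (V := NN Z a) (D := X a ⊓ centralizer (X b : Set G))
      ((F.NX a hap).trans (hXa.1.trans (centralizer_le inf_le_left))) (hex hx)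
    have e1 : m * g = g * m := mem_centralizer_iff.1 hg.2 m hm
    have e2 : c * g = g * c := (mem_centralizer_iff.1 hc.2 g (F.NX _ hbp hg.1)).symm
    calc m * c * g = m * (c * g) := by group
      _ = (m * g) * c := by rw [e2]; group
      _ = g * (m * c) := by rw [e1]; group
  have hL2 : ∀ g ∈ NN Z b ⊓ centralizer (NN Z a : Set G), n * g = g * n := by
    intro g hg
    have h4 : n * g * n⁻¹ * g⁻¹ ∈ y := hny g (hL1 hg)
    have h5 : n * g * n⁻¹ * g⁻¹ ∈ NN Z b := mul_mem ((mem_normalizer_iff.1 hnN g).1 hg.1) (inv_mem hg.1)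
    have h6 : n * g * n⁻¹ * g⁻¹ = 1 := hy1 _ h4 fun f hf => mem_centralizer_iff.1 (hNb h5) f hf
    exact mul_inv_eq_iff_eq_mul.1 (mul_inv_eq_one.1 h6)
  -- `X_* = X_a ⟨n⟩`
  set W := X a ⊔ zpowers n with hW
  have hzX : zpowers n ≤ centralizer (X a : Set G) := by rwa [zpowers_le]
  have hWe : IsElementaryAbelian 2 W := by
    refine eab_sup (F.eab a hap) ?_ (comm_symm hzX)
    rw [eab_iff]
    refine ⟨by rw [zpowers_le]; exact mem_centralizer_iff.2 (by rintro _ ⟨k, rfl⟩; exact (Commute.refl n).zpow_left k),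
      ?_⟩
    rintro _ ⟨k, rfl⟩
    change (n ^ k) ^ 2 = 1
    rw [← zpow_natCast, ← zpow_mul, mul_comm, zpow_mul, zpow_natCast, pow_two, hn2, one_zpow]
  have hWQ : W ≤ QQ c' := sup_le hXc (by rwa [zpowers_le])
  have h1 := hNO c' b hcb W hWe hWQ
  have h2 := hNO a' a ha' (NN Z b) (NN_eab P hbp) ((F.NX b hbp).trans hXb)
  have h3 : (centralizer (W : Set G)).relIndex (NN Z b) = (centralizer (NN Z a : Set G)).relIndex (NN Z b) := by
    rw [← inf_relIndex_left, ← inf_relIndex_left (NN Z b) (centralizer (NN Z a : Set G))]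
    congr 1
    refine le_antisymm (inf_le_inf_left _ (centralizer_le ((F.NX a hap).trans le_sup_left))) (le_inf inf_le_left ?_)
    refine comm_symm (sup_le (comm_symm hL1) ?_)
    rw [zpowers_le]
    exact mem_centralizer_iff.2 fun g hg => (hL2 g hg).symm
  have h4 : W ≤ NN Z a ⊔ (W ⊓ centralizer (NN Z b : Set G)) :=
    sup_of_relIndex ((F.NX a hap).trans le_sup_left) ((h1.trans h3.le).trans h2)
  have hnW : n ∈ W := mem_sup_right (mem_zpowers n)
  obtain ⟨m, hm, c, hc, rfl⟩ := exists_mul_of_comm (V := NN Z a) (D := W ⊓ centralizer (NN Z b : Set G))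
    ((((F.NX a hap).trans le_sup_left).trans (eab_iff.1 hWe).1).trans (centralizer_le inf_le_left)) (h4 hnW)
  have hfN : f ∈ normalizer (NN Z a : Set G) :=
    PP.HH_le_NN a (P.QQ_le_HH (P.adj_symm ha') (hXb (F.NX b hbp hf)))
  have e1 : c * f = f * c := (mem_centralizer_iff.1 hc.2 f hf).symm
  have e2 : m * c * f * (m * c)⁻¹ * f⁻¹ = m * (f * m⁻¹ * f⁻¹) := by
    calc m * c * f * (m * c)⁻¹ * f⁻¹ = m * (c * f) * c⁻¹ * m⁻¹ * f⁻¹ := by group
      _ = m * (f * c) * c⁻¹ * m⁻¹ * f⁻¹ := by rw [e1]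
      _ = _ := by group
  rw [e2]
  exact mul_mem hm ((mem_normalizer_iff.1 hfN _).1 (inv_mem hm))

/-- `[X_a, N_b] ≤ N_a` -/
theorem comm_X (P : PP Z U) (F : XF Z X) (h : CX Z X d a b)
    (hex : X a ≤ NN Z a ⊔ (X a ⊓ centralizer (X b : Set G))) {x f : G} (hx : x ∈ X a) (hf : f ∈ NN Z b) :
    x * f * x⁻¹ * f⁻¹ ∈ NN Z a := by
  have hap : IsPt Z a := PP.pth_pt h.pth
  have hbp : IsPt Z b := P.pth_pt' h.pth
  obtain ⟨a', b', ha', -, -, hXb⟩ := h.ends P F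
  have hXa := eab_iff.1 (F.eab a hap)
  have hfN : f ∈ normalizer (NN Z a : Set G) :=
    PP.HH_le_NN a (P.QQ_le_HH (P.adj_symm ha') (hXb (F.NX b hbp hf)))
  obtain ⟨m, hm, c, hc, rfl⟩ := exists_mul_of_comm (V := NN Z a) (D := X a ⊓ centralizer (X b : Set G))
    ((F.NX a hap).trans (hXa.1.trans (centralizer_le inf_le_left))) (hex hx)
  have e1 : c * f = f * c := (mem_centralizer_iff.1 hc.2 f (F.NX b hbp hf)).symm
  have e2 : m * c * f * (m * c)⁻¹ * f⁻¹ = m * (f * m⁻¹ * f⁻¹) := by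
    calc m * c * f * (m * c)⁻¹ * f⁻¹ = m * (c * f) * c⁻¹ * m⁻¹ * f⁻¹ := by group
      _ = m * (f * c) * c⁻¹ * m⁻¹ * f⁻¹ := by rw [e1]
      _ = _ := by group
  rw [e2]
  exact mul_mem hm ((mem_normalizer_iff.1 hfN _).1 (inv_mem hm))

/-- **(1a) for a point `y ≤ X_a` with `y ∩ N_a = 1`.** -/
theorem comm_mem' (P : PP Z U) (F : XF Z X) (hNO : NoP Z) (hti : TIp Z) (h : CX Z X d a b)
    (hex : X a ≤ NN Z a ⊔ (X a ⊓ centralizer (X b : Set G))) {y : Subgroup G} (hy : IsPt Z y) (hyX : y ≤ X a)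
    (hyN : y ⊓ NN Z a = ⊥) (hmv : ¬ NN Z b ≤ centralizer (y : Set G)) {n : G} (hnQ : n ∈ QQ a) (hn2 : n * n = 1)
    (hnX : n ∈ centralizer (X a : Set G)) (hny : ∀ c ∈ centralizer (X a : Set G), n * c * n⁻¹ * c⁻¹ ∈ y)
    {f : G} (hf : f ∈ NN Z b) : n * f * n⁻¹ * f⁻¹ ∈ NN Z a := by
  refine comm_mem P F hNO h hex (y := y) ?_ hmv hnQ hn2 hnX hny hf
  intro u hu hu1 hc g hg
  have h1 : MulAut.conj g • y = y := by
    by_contra hne
    refine hu1 (ti_one hti (hy.conj g) hy hne ?_ hu)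
    refine ⟨u, hu, ?_⟩
    change g * u * g⁻¹ = u
    rw [hc g hg, mul_inv_cancel_right]
  refine mem_centralizer_iff.2 fun v hv => ?_
  have h2 : v * g * v⁻¹ * g⁻¹ ∈ NN Z a := comm_X P F h hex (hyX hv) hg
  have h3 : g * v⁻¹ * g⁻¹ ∈ y := by
    rw [← h1]
    exact ⟨v⁻¹, inv_mem hv, rfl⟩
  have h4 : v * g * v⁻¹ * g⁻¹ ∈ y ⊓ NN Z a := by
    refine ⟨?_, h2⟩
    have e : v * g * v⁻¹ * g⁻¹ = v * (g * v⁻¹ * g⁻¹) := by group
    rw [e]
    exact mul_mem hv h3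
  rw [hyN, mem_bot] at h4
  exact mul_inv_eq_iff_eq_mul.1 (mul_inv_eq_one.1 h4)

end main

end Cfsg.Agent.Omega.TCQ.R.OneA

end

section


/-!
# Connectivity of the geometry of `N_a` without radical (instead of LEMMA 0)

`conn_of_fix` : no vector `≠ 1` of `N` is centralised by all `X p`, a 2-group `B ≥ N` permutes the points (and the groups
`X p`), fixes `p₀` and all vectors of `N` fixed by `B` lie in `p₀`: the graph 'some element of `X p` moves `x`' is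
connected.
-/

set_option autoImplicit false
set_option linter.unusedSectionVars false

namespace Cfsg.Agent.Omega.NO3S.EThree.NrConn

open Subgroup Cfsg Cfsg.Agent.ZN Cfsg.Agent.Omega.OM.PG Cfsg.Agent.Omega.OM.PG.Peel
open Cfsg.Agent.Omega.NoFF.Basic (conj_conj conj_le_iff conj_le_centralizer)
open Cfsg.Agent.Omega.OmThm.Grp
open scoped Pointwise

universe u

variable {G : Type u} [Group G]

/-- **Connectivity from a fixed point property.** -/
theorem conn_of_fix [Finite G] {N B : Subgroup G} {Pt : Set (Subgroup G)} {X : Subgroup G → Subgroup G}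
    (le : ∀ p ∈ Pt, p ≤ N) (ne : ∀ p ∈ Pt, p ≠ ⊥)
    (nk : ∀ v ∈ N, (∀ p ∈ Pt, ∀ g ∈ X p, g * v = v * g) → v = 1)
    (h2 : IsPGroup 2 B) (hNB : N ≤ B) (hB : ∀ b ∈ B, ∀ p ∈ Pt, MulAut.conj b • p ∈ Pt)
    (hX : ∀ b ∈ B, ∀ p ∈ Pt, X (MulAut.conj b • p) = MulAut.conj b • X p)
    {p₀ : Subgroup G} (hp₀ : p₀ ∈ Pt) (hB0 : ∀ b ∈ B, MulAut.conj b • p₀ = p₀)
    (hfix : ∀ n ∈ N, (∀ b ∈ B, b * n = n * b) → n ∈ p₀) {p x : Subgroup G} (hp : p ∈ Pt) (hx : x ∈ Pt) :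
    Relation.ReflTransGen (fun a b => a ∈ Pt ∧ b ∈ Pt ∧ (Mv X a b ∨ Mv X b a)) p x := by
  set R : Subgroup G → Subgroup G → Prop := fun a b => a ∈ Pt ∧ b ∈ Pt ∧ (Mv X a b ∨ Mv X b a) with hR
  have hsymm : ∀ {a b}, Relation.ReflTransGen R a b → Relation.ReflTransGen R b a := by
    intro a b h
    induction h with
    | refl => exact Relation.ReflTransGen.refl
    | tail _ h1 ih => exact Relation.ReflTransGen.head ⟨h1.2.1, h1.1, h1.2.2.symm⟩ ih
  suffices key : ∀ x ∈ Pt, Relation.ReflTransGen R p₀ x from (hsymm (key p hp)).trans (key x hx)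
  clear hx hp x p
  by_contra hcon
  push Not at hcon
  obtain ⟨x, hx, hxC⟩ := hcon
  -- conjugation with `b ∈ B` preserves the graph
  have hmv : ∀ b ∈ B, ∀ a ∈ Pt, ∀ c ∈ Pt, Mv X a c → Mv X (MulAut.conj b • a) (MulAut.conj b • c) := by
    intro b hb a ha c hc h h1
    apply h
    rw [hX b hb a ha] at h1
    have h2 := conj_le_centralizer (g := b⁻¹) h1
    rwa [inv_conj_conj, inv_conj_conj] at h2
  have hstep : ∀ b ∈ B, ∀ a c, R a c → R (MulAut.conj b • a) (MulAut.conj b • c) := by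
    rintro b hb a c ⟨ha, hc, h⟩
    exact ⟨hB b hb a ha, hB b hb c hc, h.imp (hmv b hb a ha c hc) (hmv b hb c hc a ha)⟩
  have hC : ∀ b ∈ B, ∀ a, Relation.ReflTransGen R p₀ a → Relation.ReflTransGen R p₀ (MulAut.conj b • a) := by
    intro b hb a h
    rw [← hB0 b hb]
    induction h with
    | refl => exact Relation.ReflTransGen.refl
    | tail _ h1 ih => exact ih.tail (hstep b hb _ _ h1)
  -- the points outside the component of `p₀`
  set M : Subgroup G := ⨆ y : {y : Subgroup G // y ∈ Pt ∧ ¬ Relation.ReflTransGen R p₀ y}, (y : Subgroup G) with hM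
  have hMle : ∀ y ∈ Pt, ¬ Relation.ReflTransGen R p₀ y → y ≤ M := fun y hy hyC =>
    le_iSup (fun y : {y : Subgroup G // y ∈ Pt ∧ ¬ Relation.ReflTransGen R p₀ y} => (y : Subgroup G)) ⟨y, hy, hyC⟩
  have hMN : M ≤ N := iSup_le fun y => le y y.2.1
  have hBM : B ≤ normalizer (M : Set G) := by
    have key : ∀ b ∈ B, MulAut.conj b • M ≤ M := by
      intro b hb
      have h1 : M ≤ MulAut.conj b⁻¹ • M := by
        refine iSup_le fun y => ?_
        have h2 : ¬ Relation.ReflTransGen R p₀ (MulAut.conj b • (y : Subgroup G)) := by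
          intro h2
          apply y.2.2
          have h3 := hC b⁻¹ (inv_mem hb) _ h2
          rwa [inv_conj_conj] at h3
        have h3 := conj_le_iff (g := b⁻¹) |>.2 (hMle _ (hB b hb _ y.2.1) h2)
        rwa [inv_conj_conj] at h3
      have h2 := conj_le_iff (g := b) |>.2 h1
      rwa [conj_inv_conj] at h2
    intro b hb
    refine ChoiceBase.mem_normalizer_iff_cj.2 (le_antisymm (key b hb) ?_)
    have h2 := conj_le_iff (g := b) |>.2 (key b⁻¹ (inv_mem hb))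
    rwa [conj_inv_conj] at h2
  obtain ⟨v, hv, hv1⟩ : ∃ v ∈ M, v ≠ 1 := by
    by_contra hcon
    push Not at hcon
    exact ne x hx ((eq_bot_iff_forall _).2 fun v hv => hcon v (hMle x hx hxC hv))
  obtain ⟨n, hnM, hn1, hn⟩ := Cfsg.Agent.Omega.OM.PG.Ten.exists_fix (B := {1}) h2 (hMN.trans hNB) hBM
    (Set.mem_singleton 1) hv hv1
  have hnB : ∀ b ∈ B, b * n = n * b := fun b hb =>
    mul_inv_eq_iff_eq_mul.1 (mul_inv_eq_one.1 (Set.mem_singleton_iff.1 (hn b hb)))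
  have hnp : n ∈ p₀ := hfix n (hMN hnM) hnB
  refine hn1 (nk n (hMN hnM) fun p hp g hg => ?_)
  by_cases hpC : Relation.ReflTransGen R p₀ p
  · -- `X p` centralises `M`
    have h1 : X p ≤ centralizer (M : Set G) := by
      rw [le_centralizer_iff]
      refine iSup_le fun y => ?_
      rw [le_centralizer_iff]
      by_contra h3
      exact y.2.2 (hpC.tail ⟨hp, y.2.1, Or.inl h3⟩)
    exact (mem_centralizer_iff.1 (h1 hg) n hnM).symm
  · have h1 : X p ≤ centralizer (p₀ : Set G) := by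
      by_contra h3
      exact hpC (Relation.ReflTransGen.single ⟨hp₀, hp, Or.inr h3⟩)
    exact (mem_centralizer_iff.1 (h1 hg) n hnp).symm

end Cfsg.Agent.Omega.NO3S.EThree.NrConn

end

section


/-!
# (E): no canonical vectors (helper381, THEOREM N #23328), the abstract end: (3) - (5)

`NV.false : NV E b l Np Zc W B S T C K X0 L' q → False`.
-/

set_option autoImplicit false
set_option linter.unusedSectionVars false

namespace Cfsg.Agent.Omega.TCQ.R.ThN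

open Subgroup Cfsg Cfsg.Agent.ZN
open Cfsg.Agent.ZN.ChoiceSit (Syl)

universe u

variable {G : Type u} [Group G]

/-- `m = n_b(v)` for some `v` -/
def Mm (l Np X0 : Subgroup G) (m : G) : Prop := m ∈ Np ∧ ∃ v ∈ l, v * m ∈ X0

/-- `F = l ⟨n_y(v)⟩` -/
def FF (E l Np X0 : Subgroup G) : Subgroup G :=
  closure {f | f ∈ l ∨ ∃ e ∈ E, ∃ m, Mm l Np X0 m ∧ f = e * m * e⁻¹}

/-- `e ∈ E`, `[S, e] ≤ C(F)` -/
def InD (E l Np S X0 : Subgroup G) (e : G) : Prop :=
  e ∈ E ∧ ∀ t ∈ S, e * t * e⁻¹ * t⁻¹ ∈ centralizer (FF E l Np X0 : Set G)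

theorem lF {E l Np X0 : Subgroup G} : l ≤ FF E l Np X0 := fun _ hx => subset_closure (Or.inl hx)

theorem eF {E l Np X0 : Subgroup G} {e m : G} (he : e ∈ E) (hm : Mm l Np X0 m) : e * m * e⁻¹ ∈ FF E l Np X0 :=
  subset_closure (Or.inr ⟨e, he, m, hm, rfl⟩)

namespace NV

variable [Finite G] {E b l Np Zc W B S T C K X0 L' : Subgroup G} {q : ℕ} (h : NV E b l Np Zc W B S T C K X0 L' q)
include h

theorem FW : FF E l Np X0 ≤ W := (closure_le _).2 (by
  rintro x (hx | ⟨e, he, m, hm, rfl⟩)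
  · exact h.lW hx
  · exact h.MW e he m hm.1 hm.2)

theorem Mm_conj {e m : G} (he : e ∈ E) (heb : e ∈ normalizer (b : Set G)) (hm : Mm l Np X0 m) :
    Mm l Np X0 (e * m * e⁻¹) := by
  obtain ⟨h1, v, hv, h2⟩ := hm
  refine ⟨nm (h.EN ⟨he, heb⟩) h1, e * v * e⁻¹, nm (h.El he) hv, ?_⟩
  have h3 := nm (h.EX ⟨he, heb⟩) h2
  have e1 : e * v * e⁻¹ * (e * m * e⁻¹) = e * (v * m) * e⁻¹ := by group
  rwa [e1]

theorem Mm_cmp {v m m' : G} (hv : v ∈ l) (hm : m ∈ Np) (hm' : m' ∈ Np) (h1 : v * m ∈ X0) (h2 : v * m' ∈ X0) :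
    m' * m⁻¹ ∈ b := by
  refine h.XN _ ?_ (mul_mem hm' (inv_mem hm))
  have h3 := mul_mem h2 (inv_mem h1)
  have e1 : v * m' * (v * m)⁻¹ = m' * m⁻¹ := by
    have h4 := h.Wc _ (h.lW hv) _ (h.NW (mul_mem hm' (inv_mem hm)))
    calc v * m' * (v * m)⁻¹ = v * (m' * m⁻¹) * v⁻¹ := by group
      _ = m' * m⁻¹ := by rw [h4]; group
  rwa [e1] at h3

theorem cl_nb {c : G} (hc : c ∈ centralizer (l : Set G)) : c ∈ normalizer (b : Set G) :=
  cn (centralizer_le h.bl hc)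

theorem Mm_ct {c m : G} (hcE : c ∈ E) (hc : c ∈ centralizer (l : Set G)) (hm : Mm l Np X0 m) : ct c m ∈ b := by
  obtain ⟨h1, v, hv, h2⟩ := hm
  refine h.Mm_cmp hv h1 (nm (h.EN ⟨hcE, h.cl_nb hc⟩) h1) h2 ?_
  have h3 := nm (h.EX ⟨hcE, h.cl_nb hc⟩) h2
  have e1 : c * (v * m) * c⁻¹ = (c * v * c⁻¹) * (c * m * c⁻¹) := by group
  rw [e1, cm hc hv] at h3
  exact h3

theorem Mm_ct' {c e m : G} (he : e ∈ E) (hcE : c ∈ E) (hc : c ∈ centralizer (l : Set G)) (hm : Mm l Np X0 m) :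
    e⁻¹ * ct c (e * m * e⁻¹) * e ∈ b := by
  have h1 := h.Mm_ct (c := e⁻¹ * c * e) (mul_mem (mul_mem (inv_mem he) hcE) he) (nc' (h.El he) hc) hm
  have e1 : e⁻¹ * ct c (e * m * e⁻¹) * e = ct (e⁻¹ * c * e) m := by
    change e⁻¹ * (c * (e * m * e⁻¹) * c⁻¹ * (e * m * e⁻¹)⁻¹) * e =
      e⁻¹ * c * e * m * (e⁻¹ * c * e)⁻¹ * m⁻¹
    group
  rwa [e1]

theorem mem_l_of {e x : G} (he : e ∈ E) (hx : e⁻¹ * x * e ∈ b) : x ∈ l := by
  have h1 := nm (h.El he) (h.bl hx)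
  have e1 : e * (e⁻¹ * x * e) * e⁻¹ = x := by group
  rwa [e1] at h1

theorem F_conj {e f : G} (he : e ∈ E) (hf : f ∈ FF E l Np X0) : e * f * e⁻¹ ∈ FF E l Np X0 := by
  unfold FF at hf
  induction hf using closure_induction with
  | mem x hx =>
    rcases hx with hx | ⟨g, hg, m, hm, rfl⟩
    · exact lF (nm (h.El he) hx)
    · have e1 : e * (g * m * g⁻¹) * e⁻¹ = (e * g) * m * (e * g)⁻¹ := by group
      rw [e1]
      exact eF (mul_mem he hg) hm
  | one => rw [mul_one, mul_inv_cancel]; exact one_mem _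
  | mul x y _ _ hx hy =>
    have e1 : e * (x * y) * e⁻¹ = (e * x * e⁻¹) * (e * y * e⁻¹) := by group
    rw [e1]
    exact mul_mem hx hy
  | inv x _ hx =>
    have e1 : e * x⁻¹ * e⁻¹ = (e * x * e⁻¹)⁻¹ := by group
    rw [e1]
    exact inv_mem hx

theorem EF : E ≤ normalizer (FF E l Np X0 : Set G) := fun _ he => norm_of fun _ hx => h.F_conj he hx

/-- an induction principle for the elements of `F` -/
theorem F_ind {p : G → Prop} (h1 : ∀ x ∈ l, p x) (h2 : ∀ e ∈ E, ∀ m, Mm l Np X0 m → p (e * m * e⁻¹))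
    (h3 : ∀ x ∈ FF E l Np X0, ∀ y ∈ FF E l Np X0, p x → p y → p (x * y)) {x : G} (hx : x ∈ FF E l Np X0) : p x := by
  have key : ∀ x, x ∈ FF E l Np X0 → p x ∧ p x⁻¹ := by
    intro x hx
    have hx' := hx
    unfold FF at hx
    induction hx using closure_induction with
    | mem x hx =>
      rcases hx with hx | ⟨e, he, m, hm, rfl⟩
      · exact ⟨h1 x hx, h1 _ (inv_mem hx)⟩
      · refine ⟨h2 e he m hm, ?_⟩
        have h4 := h.Wsq _ (h.FW (eF he hm))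
        have h5 : (e * m * e⁻¹)⁻¹ = e * m * e⁻¹ := by
          rw [inv_eq_iff_mul_eq_one, ← pow_two]; exact h4
        rw [h5]
        exact h2 e he m hm
    | one => exact ⟨h1 1 (one_mem _), by rw [inv_one]; exact h1 1 (one_mem _)⟩
    | mul x y hx hy ihx ihy =>
      have a := ihx hx
      have c := ihy hy
      refine ⟨h3 x hx y hy a.1 c.1, ?_⟩
      rw [mul_inv_rev]
      exact h3 _ (inv_mem hy) _ (inv_mem hx) c.2 a.2
    | inv x hx ihx =>
      have a := ihx hx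
      exact ⟨a.2, by rw [inv_inv]; exact a.1⟩
  exact (key x hx).1

theorem SE : S ≤ E := h.SB.trans h.BE

theorem SC : S ≤ C := h.SB.trans h.BC

theorem F_ct {c f : G} (hcE : c ∈ E) (hcW : c ∈ normalizer (W : Set G)) (hc : c ∈ centralizer (l : Set G))
    (hf : f ∈ FF E l Np X0) : ct c f ∈ l := by
  refine h.F_ind (p := fun f => ct c f ∈ l) (fun x hx => ?_) (fun e he m hm => ?_)
    (fun x hx y hy ihx ihy => ?_) hf
  · rw [ct_eq_one.2 (cm' hc hx)]; exact one_mem _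
  · exact h.mem_l_of he (h.Mm_ct' he hcE hc hm)
  · rw [ct_mul h.Wc hcW (h.FW hx) (h.FW hy)]
    exact mul_mem ihx ihy

/-- **(3), first half** -/
theorem claimA {s t f : G} (hs : s ∈ K) (hsl : s ∈ normalizer (l : Set G)) (ht : t ∈ S)
    (hf : f ∈ FF E l Np X0) : ct t (s * f * s⁻¹) = s * ct t f * s⁻¹ := by
  have hsE : s ∈ E := h.KE ⟨hs, hsl⟩
  have hsC : s ∈ C := h.KC hs
  have hsb : s ∈ centralizer (b : Set G) := h.Cb hsC
  have htl := h.Sl ht
  have htW := h.SW ht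
  have htE := h.SE ht
  have hsW := h.CW hsC
  refine h.F_ind (p := fun f => ct t (s * f * s⁻¹) = s * ct t f * s⁻¹) (fun x hx => ?_) (fun e he m hm => ?_)
    (fun x hx y hy ihx ihy => ?_) hf
  · rw [ct_eq_one.2 (cm' htl hx), ct_eq_one.2 (cm' htl (nm hsl hx))]
    group
  · by_cases heb : e ∈ normalizer (b : Set G)
    · -- `e ∈ N(b)`
      have hm' := h.Mm_conj he heb hm
      set f := e * m * e⁻¹ with hfdef
      have hm2 := hm'
      obtain ⟨h1, v, hv, h2⟩ := hm2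
      -- `s f s⁻¹ f⁻¹ ∈ b`
      have h3 : s * f * s⁻¹ * f⁻¹ ∈ b := by
        refine h.Mm_cmp hv h1 (nm (h.CN hsC) h1) h2 ?_
        have h4 := nm (h.KX hs) h2
        have h5 : s * v * s⁻¹ * v⁻¹ ∈ b := h.lN _ (mul_mem (nm hsl hv) (inv_mem hv)) (h.Kl s hs v hv)
        have e1 : v * (s * f * s⁻¹) = (s * v * s⁻¹ * v⁻¹)⁻¹ * (s * (v * f) * s⁻¹) := by
          have h6 := h.Wc _ (h.lW hv) _ (h.lW (nm hsl hv))
          calc v * (s * f * s⁻¹) = v * (s * v⁻¹ * s⁻¹) * (s * (v * f) * s⁻¹) := by group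
            _ = (s * v * s⁻¹ * v⁻¹)⁻¹ * (s * (v * f) * s⁻¹) := by group
        rw [e1]
        exact mul_mem (inv_mem (h.bX h5)) h4
      have h7 : ct t f ∈ b := h.Mm_ct htE htl hm'
      have e2 : s * f * s⁻¹ = (s * f * s⁻¹ * f⁻¹) * f := by group
      rw [e2, ct_mul h.Wc htW (h.bW h3) (h.NW h1), ct_eq_one.2 (cm' htl (h.bl h3)), one_mul, cm hsb h7]
    · -- `e ∉ N(b)`
      obtain ⟨u, hu, n, hn, e1⟩ := h.mv s hs hsl e he heb m hm.1 hm.2
      have hfW : e * m * e⁻¹ ∈ W := h.FW (eF he hm)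
      have huW : e * u * e⁻¹ ∈ l := nm (h.El he) (h.bl hu)
      have hA : ct t (s * (e * m * e⁻¹) * s⁻¹) = ct t (e * m * e⁻¹) * ct t n := by
        rw [e1, ct_mul h.Wc htW (mul_mem hfW (h.lW huW)) (h.NW hn), ct_mul h.Wc htW hfW (h.lW huW),
          ct_eq_one.2 (cm' htl huW), mul_one]
      set f := e * m * e⁻¹ with hfdef
      -- `[t, f] ∈ l`
      have h1 : e⁻¹ * ct t f * e ∈ b := h.Mm_ct' he htE htl hm
      have h2 : ct t f ∈ l := h.mem_l_of he h1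
      have h3 : ct t n ∈ Np := ct_mem (h.CN (h.SC ht)) hn
      have h4 : s * ct t f * s⁻¹ * (ct t f)⁻¹ ∈ Np := h.Kl s hs _ h2
      have hse : s * e ∈ E := mul_mem hsE he
      have h5 : (s * e)⁻¹ * ct t (s * f * s⁻¹) * (s * e) ∈ b := by
        have e2 : s * f * s⁻¹ = (s * e) * m * (s * e)⁻¹ := by rw [hfdef]; group
        rw [e2]
        exact h.Mm_ct' hse htE htl hm
      have h6 : (s * e)⁻¹ * (s * ct t f * s⁻¹) * (s * e) ∈ b := by
        have e2 : (s * e)⁻¹ * (s * ct t f * s⁻¹) * (s * e) = e⁻¹ * ct t f * e := by group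
        rwa [e2]
      have h7 : ct t (s * f * s⁻¹) * (s * ct t f * s⁻¹)⁻¹ ∈ Np := by
        have e2 : ct t (s * f * s⁻¹) * (s * ct t f * s⁻¹)⁻¹ = ct t n * (s * ct t f * s⁻¹ * (ct t f)⁻¹)⁻¹ := by
          rw [hA]
          have c1 := h.Wc _ (h.lW h2) _ (h.NW h3)
          calc ct t f * ct t n * (s * ct t f * s⁻¹)⁻¹ = ct t n * ct t f * (s * ct t f * s⁻¹)⁻¹ := by rw [c1]
            _ = ct t n * (s * ct t f * s⁻¹ * (ct t f)⁻¹)⁻¹ := by group
        rw [e2]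
        exact mul_mem h3 (inv_mem h4)
      set w := ct t (s * f * s⁻¹) * (s * ct t f * s⁻¹)⁻¹ with hw
      have h8 : (s * e)⁻¹ * w * (s * e) ∈ b := by
        have e2 : (s * e)⁻¹ * w * (s * e) = ((s * e)⁻¹ * ct t (s * f * s⁻¹) * (s * e)) *
          ((s * e)⁻¹ * (s * ct t f * s⁻¹) * (s * e))⁻¹ := by rw [hw]; group
        rw [e2]
        exact mul_mem h5 (inv_mem h6)
      have h9 : w ∈ b := h.lN w (h.mem_l_of hse h8) h7
      have h10 : w = 1 := by
        by_contra hne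
        have h11 := h.ti (s * e) hse _ h8 (fun h12 => hne (by
          calc w = (s * e) * ((s * e)⁻¹ * w * (s * e)) * (s * e)⁻¹ := by group
            _ = 1 := by rw [h12]; group)) (by
          have e2 : (s * e) * ((s * e)⁻¹ * w * (s * e)) * (s * e)⁻¹ = w := by group
          rwa [e2])
        apply heb
        have h13 := mul_mem (inv_mem (cn hsb)) h11
        have e3 : s⁻¹ * (s * e) = e := by group
        rwa [e3] at h13
      exact mul_inv_eq_one.1 h10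
  · have e1 : s * (x * y) * s⁻¹ = (s * x * s⁻¹) * (s * y * s⁻¹) := by group
    rw [e1, ct_mul h.Wc htW (nm hsW (h.FW hx)) (nm hsW (h.FW hy)), ihx, ihy,
      ct_mul h.Wc htW (h.FW hx) (h.FW hy)]
    group

/-- **(3)**: `[S, s] ≤ C(F)` for `s ∈ K ∩ N(l)`. -/
theorem inD_K {s : G} (hs : s ∈ K) (hsl : s ∈ normalizer (l : Set G)) : InD E l Np S X0 s := by
  have hsE : s ∈ E := h.KE ⟨hs, hsl⟩
  refine ⟨hsE, fun t ht => mem_centralizer_iff.2 fun f hf => ?_⟩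
  -- `t g t⁻¹ = t' g t'⁻¹` on `F`, `t' = s t s⁻¹`
  have key : ∀ g ∈ FF E l Np X0, t * g * t⁻¹ = (s * t * s⁻¹) * g * (s * t * s⁻¹)⁻¹ := by
    intro g hg
    have hg' : s⁻¹ * g * s ∈ FF E l Np X0 := nm' (h.EF hsE) hg
    have h1 := h.claimA hs hsl ht hg'
    have e1 : s * (s⁻¹ * g * s) * s⁻¹ = g := by group
    rw [e1] at h1
    have e2 : s * ct t (s⁻¹ * g * s) * s⁻¹ = (s * t * s⁻¹) * g * (s * t * s⁻¹)⁻¹ * g⁻¹ := by
      change s * (t * (s⁻¹ * g * s) * t⁻¹ * (s⁻¹ * g * s)⁻¹) * s⁻¹ = _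
      group
    rw [e2] at h1
    exact mul_right_cancel h1
  have h2 := key (t⁻¹ * f * t) (nm' (h.EF (h.SE ht)) hf)
  have e1 : t * (t⁻¹ * f * t) * t⁻¹ = f := by group
  rw [e1] at h2
  calc f * (s * t * s⁻¹ * t⁻¹) = (s * t * s⁻¹ * (t⁻¹ * f * t) * (s * t * s⁻¹)⁻¹) * (s * t * s⁻¹ * t⁻¹) := by
        rw [← h2]
    _ = s * t * s⁻¹ * t⁻¹ * f := by group

theorem inD_mul {e g : G} (he : InD E l Np S X0 e) (hg : InD E l Np S X0 g) : InD E l Np S X0 (e * g) := by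
  refine ⟨mul_mem he.1 hg.1, fun t ht => ?_⟩
  have e1 : e * g * t * (e * g)⁻¹ * t⁻¹ = (e * (g * t * g⁻¹ * t⁻¹) * e⁻¹) * (e * t * e⁻¹ * t⁻¹) := by group
  rw [e1]
  exact mul_mem (nc (h.EF he.1) (hg.2 t ht)) (he.2 t ht)

theorem inD_inv {e : G} (he : InD E l Np S X0 e) : InD E l Np S X0 e⁻¹ := by
  refine ⟨inv_mem he.1, fun t ht => ?_⟩
  have h1 := nc' (h.EF he.1) (inv_mem (he.2 t ht))
  have e1 : e⁻¹ * (e * t * e⁻¹ * t⁻¹)⁻¹ * e = e⁻¹ * t * e⁻¹⁻¹ * t⁻¹ := by group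
  rwa [e1] at h1

theorem inD_conj {e g : G} (he : InD E l Np S X0 e) (hgE : g ∈ E) (hgS : g ∈ normalizer (S : Set G)) :
    InD E l Np S X0 (g * e * g⁻¹) := by
  refine ⟨mul_mem (mul_mem hgE he.1) (inv_mem hgE), fun t ht => ?_⟩
  have h1 := nc (h.EF hgE) (he.2 _ (nm' hgS ht))
  have e1 : g * (e * (g⁻¹ * t * g) * e⁻¹ * (g⁻¹ * t * g)⁻¹) * g⁻¹ =
    g * e * g⁻¹ * t * (g * e * g⁻¹)⁻¹ * t⁻¹ := by group
  rwa [e1] at h1

/-! ### points of `l`, flags -/

/-- two points of `l` with a common vector `≠ 1` coincide -/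
theorem ti' {e e' x : G} (he : e ∈ E) (he' : e' ∈ E) (hx : x ≠ 1) (h1 : e⁻¹ * x * e ∈ b)
    (h2 : e'⁻¹ * x * e' ∈ b) : e'⁻¹ * e ∈ normalizer (b : Set G) := by
  refine h.ti (e'⁻¹ * e) (mul_mem (inv_mem he') he) _ h1 (fun h3 => hx ?_) ?_
  · calc x = e * (e⁻¹ * x * e) * e⁻¹ := by group
      _ = 1 := by rw [h3]; group
  · have e1 : e'⁻¹ * e * (e⁻¹ * x * e) * (e'⁻¹ * e)⁻¹ = e'⁻¹ * x * e' := by group
    rwa [e1]

theorem pt_eq {e e' x : G} (h1 : e'⁻¹ * e ∈ normalizer (b : Set G)) (h2 : e⁻¹ * x * e ∈ b) :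
    e'⁻¹ * x * e' ∈ b := by
  have h3 := nm h1 h2
  have e1 : e'⁻¹ * e * (e⁻¹ * x * e) * (e'⁻¹ * e)⁻¹ = e'⁻¹ * x * e' := by group
  rwa [e1] at h3

theorem cov' {v : G} (hv : v ∈ l) (hv1 : v ≠ 1) : ∃ e ∈ E, e⁻¹ * v * e ∈ b := by
  obtain ⟨e, he, x, hx, rfl⟩ := h.cov v hv hv1
  refine ⟨e, he, ?_⟩
  have e1 : e⁻¹ * (e * x * e⁻¹) * e = x := by group
  rwa [e1]

theorem exists_v0 : ∃ v ∈ l, v ∉ b := by
  by_contra hc
  push Not at hc
  have h1 := Subgroup.card_le_of_le (show l ≤ b from hc)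
  rw [h.cb, h.cl] at h1
  have := h.q2
  nlinarith

theorem exists_b : ∃ x ∈ b, x ≠ 1 := by
  by_contra hc
  push Not at hc
  have h1 : b = ⊥ := (eq_bot_iff_forall b).2 hc
  have h2 := h.cb
  rw [h1, card_bot] at h2
  have := h.q2
  omega

/-- full root groups in `D` -/
theorem rootD {e v u : G} (he : e ∈ E) (hv : v ∈ l) (hve : e⁻¹ * v * e ∉ b) (hu : e⁻¹ * u * e ∈ b) :
    ∃ d, InD E l Np S X0 d ∧ d * v * d⁻¹ * v⁻¹ = u ∧ ∀ z, e⁻¹ * z * e ∈ b → d * z * d⁻¹ = z := by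
  obtain ⟨g, hg, hgS, hge⟩ := h.pts e he
  have hge' : e⁻¹ * g ∈ normalizer (b : Set G) := by
    have := inv_mem hge
    rwa [mul_inv_rev, inv_inv] at this
  have hv1 : g⁻¹ * v * g ∉ b := fun h1 => hve (h.pt_eq hge' h1)
  have hu1 : g⁻¹ * u * g ∈ b := h.pt_eq hge hu
  obtain ⟨s, hs, hsl, e1⟩ := h.root h.exists_mv _ (nm' (h.El hg) hv) hv1 _ hu1
  refine ⟨g * s * g⁻¹, h.inD_conj (h.inD_K hs hsl) hg hgS, ?_, fun z hz => ?_⟩
  · calc g * s * g⁻¹ * v * (g * s * g⁻¹)⁻¹ * v⁻¹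
        = g * (s * (g⁻¹ * v * g) * s⁻¹ * (g⁻¹ * v * g)⁻¹) * g⁻¹ := by group
      _ = u := by rw [e1]; group
  · have h2 := cm (h.Cb (h.KC hs)) (h.pt_eq hge hz)
    calc g * s * g⁻¹ * z * (g * s * g⁻¹)⁻¹ = g * (s * (g⁻¹ * z * g) * s⁻¹) * g⁻¹ := by group
      _ = z := by rw [h2]; group

/-- `D` is transitive on `l - 1` -/
theorem trans_v {v w : G} (hv : v ∈ l) (hv1 : v ≠ 1) (hw : w ∈ l) (hw1 : w ≠ 1) :
    ∃ d, InD E l Np S X0 d ∧ d * v * d⁻¹ = w := by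
  have step : ∀ v ∈ l, v ≠ 1 → ∀ w ∈ l, w ≠ 1 → (∀ e ∈ E, e⁻¹ * v * e ∈ b → e⁻¹ * w * e ∉ b) →
      ∃ d, InD E l Np S X0 d ∧ d * v * d⁻¹ = w := by
    intro v hv hv1 w hw hw1 hne
    have hx1 : w * v⁻¹ ≠ 1 := by
      intro h1
      obtain ⟨e, he, h2⟩ := h.cov' hv hv1
      exact hne e he h2 (by rw [mul_inv_eq_one.1 h1]; exact h2)
    obtain ⟨e, he, h2⟩ := h.cov' (mul_mem hw (inv_mem hv)) hx1
    have hve : e⁻¹ * v * e ∉ b := by
      intro h3
      apply hne e he h3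
      have e1 : e⁻¹ * w * e = (e⁻¹ * (w * v⁻¹) * e) * (e⁻¹ * v * e) := by group
      rw [e1]
      exact mul_mem h2 h3
    obtain ⟨d, hd, h3, -⟩ := h.rootD he hv hve h2
    exact ⟨d, hd, mul_right_cancel h3⟩
  by_cases hc : ∀ e ∈ E, e⁻¹ * v * e ∈ b → e⁻¹ * w * e ∉ b
  · exact step v hv hv1 w hw hw1 hc
  · push Not at hc
    obtain ⟨e, he, hve, hwe⟩ := hc
    obtain ⟨u0, hu0, hu0b⟩ := h.exists_v0
    have hu : e * u0 * e⁻¹ ∈ l := nm (h.El he) hu0
    have hue : e⁻¹ * (e * u0 * e⁻¹) * e ∉ b := by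
      have e1 : e⁻¹ * (e * u0 * e⁻¹) * e = u0 := by group
      rwa [e1]
    set u := e * u0 * e⁻¹ with hudef
    have hu1 : u ≠ 1 := by
      rintro h1
      rw [h1] at hue
      apply hue
      have e1 : e⁻¹ * 1 * e = 1 := by group
      rw [e1]; exact one_mem _
    obtain ⟨d, hd, h1⟩ := step v hv hv1 u hu hu1 (fun e' he' h2 h3 =>
      hue (h.pt_eq (h.ti' he' he hv1 h2 hve) h3))
    obtain ⟨d', hd', h2⟩ := step u hu hu1 w hw hw1 (fun e' he' h2 h3 =>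
      hue (h.pt_eq (h.ti' he' he hw1 h3 hwe) h2))
    refine ⟨d' * d, h.inD_mul hd' hd, ?_⟩
    calc d' * d * v * (d' * d)⁻¹ = d' * (d * v * d⁻¹) * d'⁻¹ := by group
      _ = w := by rw [h1, h2]

/-- `l = y₁ y₂` for two points `y₁ ≠ y₂` -/
theorem decomp {e₁ e₂ : G} (h1 : e₁ ∈ E) (h2 : e₂ ∈ E) (hne : e₂⁻¹ * e₁ ∉ normalizer (b : Set G)) {a : G}
    (ha : a ∈ l) : ∃ y, e₁⁻¹ * y * e₁ ∈ b ∧ e₂⁻¹ * (y * a) * e₂ ∈ b := by
  let f : b × b → l := fun p => ⟨e₁ * p.1 * e₁⁻¹ * (e₂ * p.2 * e₂⁻¹),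
    mul_mem (nm (h.El h1) (h.bl p.1.2)) (nm (h.El h2) (h.bl p.2.2))⟩
  have hinj : Function.Injective f := by
    rintro ⟨x, y⟩ ⟨x', y'⟩ hxy
    have h3 : e₁ * (x : G) * e₁⁻¹ * (e₂ * y * e₂⁻¹) = e₁ * (x' : G) * e₁⁻¹ * (e₂ * y' * e₂⁻¹) :=
      congrArg Subtype.val hxy
    -- `z = x'⁻¹ x` in both points
    have h4 : e₁ * ((x' : G)⁻¹ * x) * e₁⁻¹ = e₂ * ((y' : G) * (y : G)⁻¹) * e₂⁻¹ := by
      calc e₁ * ((x' : G)⁻¹ * x) * e₁⁻¹
          = (e₁ * (x' : G) * e₁⁻¹)⁻¹ * (e₁ * (x : G) * e₁⁻¹ * (e₂ * y * e₂⁻¹)) * (e₂ * y * e₂⁻¹)⁻¹ := by group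
        _ = (e₁ * (x' : G) * e₁⁻¹)⁻¹ * (e₁ * (x' : G) * e₁⁻¹ * (e₂ * y' * e₂⁻¹)) * (e₂ * y * e₂⁻¹)⁻¹ := by rw [h3]
        _ = e₂ * ((y' : G) * (y : G)⁻¹) * e₂⁻¹ := by group
    have h5 : e₁ * ((x' : G)⁻¹ * x) * e₁⁻¹ = 1 := by
      by_contra hne1
      apply hne
      refine h.ti' h1 h2 hne1 ?_ ?_
      · have e1 : e₁⁻¹ * (e₁ * ((x' : G)⁻¹ * x) * e₁⁻¹) * e₁ = (x' : G)⁻¹ * x := by group
        rw [e1]
        exact mul_mem (inv_mem x'.2) x.2
      · rw [h4]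
        have e1 : e₂⁻¹ * (e₂ * ((y' : G) * (y : G)⁻¹) * e₂⁻¹) * e₂ = (y' : G) * (y : G)⁻¹ := by group
        rw [e1]
        exact mul_mem y'.2 (inv_mem y.2)
    have h6 : (x' : G)⁻¹ * x = 1 := by
      calc (x' : G)⁻¹ * x = e₁⁻¹ * (e₁ * ((x' : G)⁻¹ * x) * e₁⁻¹) * e₁ := by group
        _ = 1 := by rw [h5]; group
    have h7 : (y' : G) * (y : G)⁻¹ = 1 := by
      calc (y' : G) * (y : G)⁻¹ = e₂⁻¹ * (e₂ * ((y' : G) * (y : G)⁻¹) * e₂⁻¹) * e₂ := by group
        _ = 1 := by rw [← h4, h5]; group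
    exact Prod.ext (Subtype.ext (inv_mul_eq_one.1 h6).symm) (Subtype.ext (mul_inv_eq_one.1 h7).symm)
  have hcard : Nat.card l ≤ Nat.card (b × b) := by
    rw [Nat.card_prod, h.cb, h.cl, pow_two]
  have hbij := hinj.bijective_of_nat_card_le hcard
  obtain ⟨⟨x, y⟩, hxy⟩ := hbij.2 ⟨a, ha⟩
  have h3 : e₁ * (x : G) * e₁⁻¹ * (e₂ * y * e₂⁻¹) = a := congrArg Subtype.val hxy
  refine ⟨(e₁ * (x : G) * e₁⁻¹)⁻¹, ?_, ?_⟩
  · have e1 : e₁⁻¹ * (e₁ * (x : G) * e₁⁻¹)⁻¹ * e₁ = (x : G)⁻¹ := by group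
    rw [e1]; exact inv_mem x.2
  · rw [← h3]
    have e1 : e₂⁻¹ * ((e₁ * (x : G) * e₁⁻¹)⁻¹ * (e₁ * x * e₁⁻¹ * (e₂ * y * e₂⁻¹))) * e₂ = y := by group
    rw [e1]; exact y.2

/-- the stabiliser of `v` in `D` is transitive on the points without `v` -/
theorem trans_p {v e e' : G} (hv : v ∈ l) (he : e ∈ E) (he' : e' ∈ E) (h1 : e⁻¹ * v * e ∉ b)
    (h2 : e'⁻¹ * v * e' ∉ b) : ∃ d, InD E l Np S X0 d ∧ d * v * d⁻¹ = v ∧
      e'⁻¹ * (d * e) ∈ normalizer (b : Set G) := by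
  have hv1 : v ≠ 1 := by
    rintro rfl
    apply h1
    have e1 : e⁻¹ * 1 * e = 1 := by group
    rw [e1]; exact one_mem _
  obtain ⟨g, hg, hgv⟩ := h.cov' hv hv1
  obtain ⟨a, ha, ha1⟩ := h.exists_b
  have hal : e * a * e⁻¹ ∈ l := nm (h.El he) (h.bl ha)
  have hae : e⁻¹ * (e * a * e⁻¹) * e ∈ b := by
    have e1 : e⁻¹ * (e * a * e⁻¹) * e = a := by group
    rwa [e1]
  have ha1' : e * a * e⁻¹ ≠ 1 := by
    intro h3
    apply ha1
    calc a = e⁻¹ * (e * a * e⁻¹) * e := by group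
      _ = 1 := by rw [h3]; group
  set α := e * a * e⁻¹ with hα
  have hgα : g⁻¹ * α * g ∉ b := fun h3 => h1 (h.pt_eq (h.ti' hg he ha1' h3 hae) hgv)
  have hne : e'⁻¹ * g ∉ normalizer (b : Set G) := fun h3 => h2 (h.pt_eq h3 hgv)
  obtain ⟨u, hu, hu2⟩ := h.decomp hg he' hne hal
  obtain ⟨d, hd, hd1, hd2⟩ := h.rootD hg hal hgα hu
  refine ⟨d, hd, hd2 v hgv, ?_⟩
  have h3 : d * α * d⁻¹ = u * α := by rw [← hd1]; group
  have h4 : u * α ≠ 1 := by
    rw [← h3]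
    intro h5
    apply ha1'
    calc α = d⁻¹ * (d * α * d⁻¹) * d := by group
      _ = 1 := by rw [h5]; group
  refine h.ti' (mul_mem hd.1 he) he' h4 ?_ hu2
  rw [← h3]
  have e1 : (d * e)⁻¹ * (d * α * d⁻¹) * (d * e) = e⁻¹ * α * e := by group
  rwa [e1]

/-- `D` is transitive on the flags -/
theorem trans_f {v w e e' : G} (hv : v ∈ l) (hw : w ∈ l) (he : e ∈ E) (he' : e' ∈ E) (h1 : e⁻¹ * v * e ∉ b)
    (h2 : e'⁻¹ * w * e' ∉ b) : ∃ d, InD E l Np S X0 d ∧ d * v * d⁻¹ = w ∧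
      e'⁻¹ * (d * e) ∈ normalizer (b : Set G) := by
  have one : ∀ {v e : G}, e⁻¹ * v * e ∉ b → v ≠ 1 := by
    rintro v e h1 rfl
    apply h1
    have e1 : e⁻¹ * 1 * e = 1 := by group
    rw [e1]; exact one_mem _
  obtain ⟨d, hd, h3⟩ := h.trans_v hv (one h1) hw (one h2)
  have h4 : (d * e)⁻¹ * w * (d * e) ∉ b := by
    rw [← h3]
    have e1 : (d * e)⁻¹ * (d * v * d⁻¹) * (d * e) = e⁻¹ * v * e := by group
    rwa [e1]
  obtain ⟨d', hd', h5, h6⟩ := h.trans_p hw (mul_mem hd.1 he) he' h4 h2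
  refine ⟨d' * d, h.inD_mul hd' hd, ?_, ?_⟩
  · calc d' * d * v * (d' * d)⁻¹ = d' * (d * v * d⁻¹) * d'⁻¹ := by group
      _ = w := by rw [h3, h5]
  · rwa [mul_assoc]

/-! ### the indices -/

/-- `C_S(n₀) = C_S(F)` -/
theorem cent_F {v₀ n₀ t : G} (hv : v₀ ∈ l) (hvb : v₀ ∉ b) (hn : n₀ ∈ Np) (hX : v₀ * n₀ ∈ X0) (ht : t ∈ S)
    (hc : t * n₀ = n₀ * t) : t ∈ centralizer (FF E l Np X0 : Set G) := by
  have hm0 : Mm l Np X0 n₀ := ⟨hn, v₀, hv, hX⟩
  have hn0F : n₀ ∈ FF E l Np X0 := by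
    have := eF (one_mem E) hm0
    have e1 : 1 * n₀ * (1 : G)⁻¹ = n₀ := by group
    rwa [e1] at this
  refine mem_centralizer_iff.2 fun f hf => ?_
  refine (h.F_ind (p := fun f => f * t = t * f) (fun x hx => (cm' (h.Sl ht) hx).symm) (fun e he m hm => ?_)
    (fun x _ y _ ihx ihy => by rw [mul_assoc, ihy, ← mul_assoc, ihx, mul_assoc]) hf)
  obtain ⟨h1, v, hvl, h2⟩ := hm
  by_cases hvb' : v ∈ b
  · -- `m ∈ b`
    have h3 : m ∈ b := by
      refine h.XN m ?_ h1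
      have := mul_mem (inv_mem (h.bX hvb')) h2
      rwa [inv_mul_cancel_left] at this
    exact (cm' (h.Sl ht) (nm (h.El he) (h.bl h3))).symm
  · have e1 : (1 : G)⁻¹ * v₀ * 1 = v₀ := by group
    have e2 : e⁻¹ * (e * v * e⁻¹) * e = v := by group
    obtain ⟨d, hd, h3, h4⟩ := h.trans_f (e := 1) (e' := e) hv (nm (h.El he) hvl) (one_mem E) he
      (by rwa [e1]) (by rwa [e2])
    rw [mul_one] at h4
    -- `d n₀ d⁻¹ ∈ (e m e⁻¹) y`
    have hgE : e⁻¹ * d ∈ E := mul_mem (inv_mem he) hd.1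
    have h5 : (e⁻¹ * d) * (v₀ * n₀) * (e⁻¹ * d)⁻¹ ∈ X0 := nm (h.EX ⟨hgE, h4⟩) hX
    have h6 : (e⁻¹ * d) * (v₀ * n₀) * (e⁻¹ * d)⁻¹ = v * ((e⁻¹ * d) * n₀ * (e⁻¹ * d)⁻¹) := by
      calc (e⁻¹ * d) * (v₀ * n₀) * (e⁻¹ * d)⁻¹ =
          e⁻¹ * (d * v₀ * d⁻¹) * e * ((e⁻¹ * d) * n₀ * (e⁻¹ * d)⁻¹) := by group
        _ = v * ((e⁻¹ * d) * n₀ * (e⁻¹ * d)⁻¹) := by rw [h3]; group
    rw [h6] at h5
    have h7 := h.Mm_cmp hvl h1 (nm (h.EN ⟨hgE, h4⟩) hn) h2 h5
    -- `t` commutes with `d n₀ d⁻¹`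
    have h8 : t * (d * n₀ * d⁻¹) = (d * n₀ * d⁻¹) * t := by
      have h9 := (h.inD_inv hd).2 t ht
      rw [inv_inv] at h9
      have h10 := mem_centralizer_iff.1 h9 n₀ hn0F
      -- `n₀ (d⁻¹ t d t⁻¹) = (d⁻¹ t d t⁻¹) n₀`
      have h11 : n₀ * (d⁻¹ * t * d) = (d⁻¹ * t * d) * n₀ := by
        calc n₀ * (d⁻¹ * t * d) = n₀ * (d⁻¹ * t * d * t⁻¹) * t := by group
          _ = d⁻¹ * t * d * t⁻¹ * n₀ * t := by rw [h10]
          _ = d⁻¹ * t * d * t⁻¹ * (n₀ * t) := by group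
          _ = d⁻¹ * t * d * t⁻¹ * (t * n₀) := by rw [hc]
          _ = (d⁻¹ * t * d) * n₀ := by group
      calc t * (d * n₀ * d⁻¹) = d * ((d⁻¹ * t * d) * n₀) * d⁻¹ := by group
        _ = d * (n₀ * (d⁻¹ * t * d)) * d⁻¹ := by rw [h11]
        _ = (d * n₀ * d⁻¹) * t := by group
    have h9 : e * m * e⁻¹ = (e * ((e⁻¹ * d) * n₀ * (e⁻¹ * d)⁻¹ * m⁻¹) * e⁻¹)⁻¹ * (d * n₀ * d⁻¹) := by group
    have h10 : (e * ((e⁻¹ * d) * n₀ * (e⁻¹ * d)⁻¹ * m⁻¹) * e⁻¹) ∈ l := nm (h.El he) (h.bl h7)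
    have h11 := cm' (h.Sl ht) (inv_mem h10)
    rw [h9]
    calc (e * ((e⁻¹ * d) * n₀ * (e⁻¹ * d)⁻¹ * m⁻¹) * e⁻¹)⁻¹ * (d * n₀ * d⁻¹) * t
        = (e * ((e⁻¹ * d) * n₀ * (e⁻¹ * d)⁻¹ * m⁻¹) * e⁻¹)⁻¹ * ((d * n₀ * d⁻¹) * t) := by group
      _ = (e * ((e⁻¹ * d) * n₀ * (e⁻¹ * d)⁻¹ * m⁻¹) * e⁻¹)⁻¹ * (t * (d * n₀ * d⁻¹)) := by rw [h8]
      _ = (e * ((e⁻¹ * d) * n₀ * (e⁻¹ * d)⁻¹ * m⁻¹) * e⁻¹)⁻¹ * t * (d * n₀ * d⁻¹) := by group
      _ = t * (e * ((e⁻¹ * d) * n₀ * (e⁻¹ * d)⁻¹ * m⁻¹) * e⁻¹)⁻¹ * (d * n₀ * d⁻¹) := by rw [← h11]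
      _ = _ := by group

theorem idx_S {A : Subgroup G} (hA : A ≤ S) : (centralizer (FF E l Np X0 : Set G)).relIndex A ≤ q := by
  obtain ⟨v₀, hv, hvb⟩ := h.exists_v0
  obtain ⟨n₀, hn, hX⟩ := h.Xex v₀ hv
  have h1 := relIndex_le_card (H := centralizer (FF E l Np X0 : Set G)) (S := A) (X := b) (fun t => ct t n₀)
    (fun t ht => h.Mm_ct (h.SE (hA ht)) (h.Sl (hA ht)) ⟨hn, v₀, hv, hX⟩) (fun t ht t' ht' e => by
      refine h.cent_F hv hvb hn hX (mul_mem (inv_mem (hA ht)) (hA ht')) ?_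
      have e1 : t * n₀ * t⁻¹ = t' * n₀ * t'⁻¹ := mul_right_cancel e
      calc t⁻¹ * t' * n₀ = t⁻¹ * (t' * n₀ * t'⁻¹) * t' := by group
        _ = t⁻¹ * (t * n₀ * t⁻¹) * t' := by rw [e1]
        _ = n₀ * (t⁻¹ * t') := by group)
  rwa [h.cb] at h1

/-- `[F, t] = l` for `t ∈ S - C(F)` -/
theorem idx_t {t : G} (ht : t ∈ S) (hc : t ∉ centralizer (FF E l Np X0 : Set G)) :
    q ^ 2 ≤ (centralizer ({t} : Set G)).relIndex (FF E l Np X0) := by
  rw [rel_eq h.Wc h.FW (h.SW ht), ← h.cl]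
  refine Subgroup.card_le_of_le fun w hw => ?_
  have h0 : ∃ f ∈ FF E l Np X0, ct t f ≠ 1 := by
    by_contra hc1
    push Not at hc1
    exact hc (mem_centralizer_iff.2 fun f hf => (ct_eq_one.1 (hc1 f hf)).symm)
  obtain ⟨f, hf, hne⟩ := h0
  by_cases hw1 : w = 1
  · rw [hw1]; exact one_mem _
  obtain ⟨d, hd, h1⟩ := h.trans_v (h.F_ct (h.SE ht) (h.SW ht) (h.Sl ht) hf) hne hw hw1
  have hf' := h.F_conj hd.1 hf
  refine ⟨⟨d * f * d⁻¹, hf'⟩, ?_⟩
  change ct t (d * f * d⁻¹) = w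
  have h2 := mem_centralizer_iff.1 (hd.2 t ht) _ (nm (h.EF (h.SE ht)) hf')
  rw [← h1]
  symm
  calc d * (t * f * t⁻¹ * f⁻¹) * d⁻¹
      = (d * t * d⁻¹ * t⁻¹) * (t * (d * f * d⁻¹) * t⁻¹) * (d * t * d⁻¹ * t⁻¹)⁻¹ * (d * f * d⁻¹)⁻¹ := by group
    _ = (t * (d * f * d⁻¹) * t⁻¹) * (d * t * d⁻¹ * t⁻¹) * (d * t * d⁻¹ * t⁻¹)⁻¹ * (d * f * d⁻¹)⁻¹ := by rw [h2]
    _ = t * (d * f * d⁻¹) * t⁻¹ * (d * f * d⁻¹)⁻¹ := by group

theorem card_inf_relIndex (A C : Subgroup G) : C.relIndex A * Nat.card ↥(A ⊓ C) = Nat.card A := by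
  have e := relIndex_inf_mul_relIndex (⊥ : Subgroup G) C A
  rw [relIndex_bot_left, bot_inf_eq, relIndex_bot_left, mul_comm, inf_comm] at e
  exact e

/-- an element of `E ∩ N(S)` which moves `b` -/
theorem exists_g : ∃ g ∈ E, g ∈ normalizer (S : Set G) ∧ g ∉ normalizer (b : Set G) := by
  obtain ⟨v₀, hv, hvb⟩ := h.exists_v0
  obtain ⟨e, he, hve⟩ := h.cov' hv (fun h1 => hvb (by rw [h1]; exact one_mem _))
  obtain ⟨g, hg, hgS, hge⟩ := h.pts e he
  refine ⟨g, hg, hgS, fun h1 => hvb ?_⟩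
  have h2 : e ∈ normalizer (b : Set G) := by
    have := mul_mem h1 hge
    rwa [mul_inv_cancel_left] at this
  have h3 := nm h2 hve
  have e1 : e * (e⁻¹ * v₀ * e) * e⁻¹ = v₀ := by group
  rwa [e1] at h3

/-- `|F : C_F(x)| > q` for `x ∈ B - C(l)` -/
theorem idx_x {x : G} (hx : x ∈ B) (hxl : x ∉ centralizer (l : Set G))
    (hS : ¬ S ≤ centralizer (FF E l Np X0 : Set G)) :
    q < (centralizer ({x} : Set G)).relIndex (FF E l Np X0) := by
  by_contra hle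
  push Not at hle
  rw [rel_eq h.Wc h.FW (h.BW hx)] at hle
  -- `[x, l] ≤ b` has order `≥ q`
  have h1 : q ≤ Nat.card (phi h.Wc h.lW (h.BW hx)).range := by
    rw [← rel_eq h.Wc h.lW (h.BW hx)]
    have h2 := h.card_inf_relIndex l (centralizer ({x} : Set G))
    have h3 : l ⊓ centralizer ({x} : Set G) ≤ b := by
      rintro v ⟨hv, hvx⟩
      by_contra hvb
      exact hxl (h.free x hx v hv hvb (mem_centralizer_singleton_iff.1 hvx).symm)
    have h4 := Subgroup.card_le_of_le h3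
    rw [h.cb] at h4
    rw [h.cl] at h2
    by_contra h5
    push Not at h5
    have h6 : (centralizer ({x} : Set G)).relIndex l * Nat.card ↥(l ⊓ centralizer ({x} : Set G)) ≤
      (centralizer ({x} : Set G)).relIndex l * q := Nat.mul_le_mul_left _ h4
    have := h.q2
    nlinarith
  have h2 : (phi h.Wc h.lW (h.BW hx)).range ≤ (phi h.Wc h.FW (h.BW hx)).range := by
    rintro _ ⟨v, rfl⟩
    exact ⟨⟨v, lF v.2⟩, rfl⟩
  have h3 := Subgroup.eq_of_le_of_card_ge h2 (hle.trans h1)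
  -- `[x, F] ≤ b`
  have h4 : ∀ f ∈ FF E l Np X0, ct x f ∈ b := by
    intro f hf
    have h5 : ct x f ∈ (phi h.Wc h.FW (h.BW hx)).range := ⟨⟨f, hf⟩, rfl⟩
    rw [← h3] at h5
    obtain ⟨v, hv⟩ := h5
    rw [← hv]
    exact h.com x hx v v.2
  -- `S` centralises `n_y(v)`, `y ≠ b`
  have h5 : ∀ e ∈ E, e ∉ normalizer (b : Set G) → ∀ m, Mm l Np X0 m → ∀ t ∈ S,
      ct t (e * m * e⁻¹) = 1 := by
    intro e he heb m hm t ht
    by_contra hne
    have hfF := eF he hm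
    set f := e * m * e⁻¹ with hf
    have h6 : ct t (x * f * x⁻¹) = ct t f := by
      have e1 : x * f * x⁻¹ = ct x f * f := by change _ = x * f * x⁻¹ * f⁻¹ * f; group
      rw [e1, ct_mul h.Wc (h.SW ht) (h.bW (h4 f hfF)) (h.FW hfF), ct_eq_one.2 (cm' (h.Sl ht) (h.bl (h4 f hfF))),
        one_mul]
    have h7 : e⁻¹ * ct t f * e ∈ b := h.Mm_ct' he (h.SE ht) (h.Sl ht) hm
    have h8 : (x * e)⁻¹ * ct t f * (x * e) ∈ b := by
      rw [← h6]
      have e1 : x * f * x⁻¹ = (x * e) * m * (x * e)⁻¹ := by rw [hf]; group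
      rw [e1]
      exact h.Mm_ct' (mul_mem (h.BE hx) he) (h.SE ht) (h.Sl ht) hm
    have h9 := h.ti' (mul_mem (h.BE hx) he) he hne h8 h7
    -- `x` normalises the point of `e`
    obtain ⟨a, ha, ha1⟩ := h.exists_b
    have hal : e * a * e⁻¹ ∈ l := nm (h.El he) (h.bl ha)
    have hab : e * a * e⁻¹ ∉ b := fun h10 => heb (h.ti e he a ha ha1 h10)
    have hxa : ct x (e * a * e⁻¹) ≠ 1 := fun h10 =>
      hxl (h.free x hx _ hal hab (ct_eq_one.1 h10))
    apply heb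
    have h10 : e⁻¹ * ct x (e * a * e⁻¹) * e ∈ b := by
      have h11 := mul_mem (nm h9 ha) (inv_mem ha)
      have e1 : e⁻¹ * (x * e) * a * (e⁻¹ * (x * e))⁻¹ * a⁻¹ = e⁻¹ * ct x (e * a * e⁻¹) * e := by
        change _ = e⁻¹ * (x * (e * a * e⁻¹) * x⁻¹ * (e * a * e⁻¹)⁻¹) * e
        group
      rwa [e1] at h11
    have h11 : (1 : G)⁻¹ * ct x (e * a * e⁻¹) * 1 ∈ b := by
      rw [inv_one, one_mul, mul_one]
      exact h.com x hx _ hal
    have h12 := h.ti' he (one_mem E) hxa h10 h11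
    rwa [inv_one, one_mul] at h12
  apply hS
  intro t ht
  refine mem_centralizer_iff.2 fun f hf => ?_
  refine (h.F_ind (p := fun f => f * t = t * f) (fun x hx => (cm' (h.Sl ht) hx).symm) (fun e he m hm => ?_)
    (fun x _ y _ ihx ihy => by rw [mul_assoc, ihy, ← mul_assoc, ihx, mul_assoc]) hf)
  by_cases heb : e ∈ normalizer (b : Set G)
  · obtain ⟨g, hg, hgS, hgb⟩ := h.exists_g
    have h6 := h5 (g * e) (mul_mem hg he) (fun h7 => hgb (by
      have := mul_mem h7 (inv_mem heb)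
      rwa [mul_inv_cancel_right] at this)) m hm _ (nm hgS ht)
    have h7 := ct_eq_one.1 h6
    calc e * m * e⁻¹ * t = g⁻¹ * (g * e * m * (g * e)⁻¹ * (g * t * g⁻¹)) * g := by group
      _ = g⁻¹ * (g * t * g⁻¹ * (g * e * m * (g * e)⁻¹)) * g := by rw [h7]
      _ = t * (e * m * e⁻¹) := by group
  · exact (ct_eq_one.1 (h5 e he heb m hm t ht)).symm

/-- **(4)** -/
theorem not_cent : ¬ S ≤ centralizer (FF E l Np X0 : Set G) := by
  intro hS
  apply h.done
  intro s hs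
  refine norm_of fun v hv => ?_
  obtain ⟨n, hn, hX⟩ := h.Xex v hv
  have hm : Mm l Np X0 n := ⟨hn, v, hv, hX⟩
  have hnF : n ∈ FF E l Np X0 := by
    have := eF (one_mem E) hm
    have e1 : 1 * n * (1 : G)⁻¹ = n := by group
    rwa [e1] at this
  have h1 : n ∈ l ⊔ Zc := h.zS n (h.WS (h.NW hn)) (h.Wsq n (h.NW hn)) (fun t ht => cm' (hS ht) hnF)
    (fun g hg => h.Mm_ct (h.L'E hg) (h.L'l hg) hm)
  obtain ⟨a, ha, z, hz, e⟩ := mem_sup_comm (fun x hx z hz => h.Wc x (h.lW hx) z (h.NW (h.ZcN hz))) h1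
  have hab : a ∈ b := by
    refine h.lN a ha ?_
    have e1 : a = n * z⁻¹ := by rw [← e]; group
    rw [e1]
    exact mul_mem hn (inv_mem (h.ZcN hz))
  have hz1 : s * z * s⁻¹ = z := by
    have := mem_centralizer_iff.1 (h.ZcC hz) s (h.KC hs)
    rw [this, mul_inv_cancel_right]
  have hsn : s * n * s⁻¹ = n := by
    rw [← e]
    calc s * (a * z) * s⁻¹ = (s * a * s⁻¹) * (s * z * s⁻¹) := by group
      _ = a * z := by rw [cm (h.Cb (h.KC hs)) hab, hz1]
  have h2 := mul_mem (nm (h.KX hs) hX) (inv_mem hX)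
  have e1 : s * (v * n) * s⁻¹ * (v * n)⁻¹ = s * v * s⁻¹ * v⁻¹ := by
    calc s * (v * n) * s⁻¹ * (v * n)⁻¹ = s * v * s⁻¹ * (s * n * s⁻¹) * n⁻¹ * v⁻¹ := by group
      _ = s * v * s⁻¹ * v⁻¹ := by rw [hsn]; group
  rw [e1] at h2
  have h3 := h.bl (h.XN _ h2 (h.Kl s hs v hv))
  have e2 : s * v * s⁻¹ = (s * v * s⁻¹ * v⁻¹) * v := by group
  rw [e2]
  exact mul_mem h3 hv

/-- **THEOREM N, (2) - (5).** -/
theorem false : False := by
  have hS := h.not_cent
  have hq := h.q2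
  obtain ⟨A, hA, hAF, hoff⟩ := h.off (FF E l Np X0) h.FW (h.BE.trans h.EF)
    (fun x hx y hy => h.Wc x (h.FW hx) y (h.FW hy)) (fun x hx => h.Wsq x (h.FW hx)) lF
  have mono : ∀ t ∈ A, (centralizer ({t} : Set G)).relIndex (FF E l Np X0) ≤
      (centralizer (A : Set G)).relIndex (FF E l Np X0) := fun t ht =>
    Subgroup.relIndex_le_of_le_left (centralizer_le (by simpa using ht)) index_ne_zero_of_finite
  by_cases hAS : A ≤ S
  · obtain ⟨t, ht, htF⟩ := SetLike.not_le_iff_exists.1 hAF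
    have h1 := h.idx_t (hAS ht) htF
    have h2 := h.idx_S hAS
    have h3 := mono t ht
    nlinarith
  · obtain ⟨x, hxA, hxS⟩ := SetLike.not_le_iff_exists.1 hAS
    have hxB := hA hxA
    have hxl : x ∉ centralizer (l : Set G) := fun h1 => hxS ((h.Sm x).2 ⟨hxB, h1⟩)
    set F := FF E l Np X0 with hF
    have hCl : centralizer (F : Set G) ≤ centralizer (l : Set G) := centralizer_le (lF (E := E) (Np := Np) (X0 := X0))
    -- `|A : C_A(F)| = |A ∩ S : C_A(F)| |A : A ∩ S|`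
    have hprod : (centralizer (F : Set G)).relIndex (A ⊓ S) * (A ⊓ S).relIndex A =
        (centralizer (F : Set G)).relIndex A := by
      have h1 := relIndex_mul_relIndex (A ⊓ centralizer (F : Set G)) (A ⊓ S) A
        (fun y hy => ⟨hy.1, (h.Sm y).2 ⟨hA hy.1, hCl hy.2⟩⟩) inf_le_left
      have h2 : (A ⊓ centralizer (F : Set G)).relIndex A = (centralizer (F : Set G)).relIndex A :=
        inf_relIndex_left _ _
      have h3 : (A ⊓ centralizer (F : Set G)).relIndex (A ⊓ S) = (centralizer (F : Set G)).relIndex (A ⊓ S) := by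
        rw [← inf_relIndex_right, ← inf_relIndex_right (centralizer (F : Set G))]
        congr 1
        exact le_antisymm (le_inf (inf_le_left.trans inf_le_right) inf_le_right)
          (le_inf (le_inf (inf_le_right.trans inf_le_left) inf_le_left) inf_le_right)
      rw [h2, h3] at h1
      exact h1
    -- `|A : A ∩ S| ≤ q`
    obtain ⟨v₀, hv, hvb⟩ := h.exists_v0
    have hidx : (A ⊓ S).relIndex A ≤ q := by
      have h1 := relIndex_le_card (H := A ⊓ S) (S := A) (X := b) (fun t => ct t v₀)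
        (fun t ht => h.com t (hA ht) v₀ hv) (fun t ht t' ht' e => by
          have hm : t⁻¹ * t' ∈ A := mul_mem (inv_mem ht) ht'
          refine ⟨hm, (h.Sm _).2 ⟨hA hm, h.free _ (hA hm) v₀ hv hvb ?_⟩⟩
          have e1 : t * v₀ * t⁻¹ = t' * v₀ * t'⁻¹ := mul_right_cancel e
          calc t⁻¹ * t' * v₀ = t⁻¹ * (t' * v₀ * t'⁻¹) * t' := by group
            _ = t⁻¹ * (t * v₀ * t⁻¹) * t' := by rw [e1]
            _ = v₀ * (t⁻¹ * t') := by group)
      rwa [h.cb] at h1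
    by_cases hA0 : A ⊓ S ≤ centralizer (F : Set G)
    · have h1 : (centralizer (F : Set G)).relIndex (A ⊓ S) = 1 := relIndex_eq_one.2 hA0
      rw [h1, one_mul] at hprod
      have h2 := h.idx_x hxB hxl hS
      have h3 := mono x hxA
      exact absurd ((h3.trans hoff).trans (hprod.symm.le.trans hidx)) (not_le.2 h2)
    · obtain ⟨t, ht, htF⟩ := SetLike.not_le_iff_exists.1 hA0
      have h1 := h.idx_t ht.2 htF
      have h2 := h.idx_S (A := A ⊓ S) inf_le_right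
      -- `C_F(A) < C_F(t)`
      have h3 := relIndex_mul_relIndex (F ⊓ centralizer (A : Set G)) (F ⊓ centralizer ({t} : Set G)) F
        (inf_le_inf_left _ (centralizer_le (by simpa using ht.1))) inf_le_left
      rw [inf_relIndex_left, inf_relIndex_left] at h3
      have h4 : (F ⊓ centralizer (A : Set G)).relIndex (F ⊓ centralizer ({t} : Set G)) ≠ 1 := by
        intro h5
        have h6 := relIndex_eq_one.1 h5
        apply hxl
        refine mem_centralizer_iff.2 fun v hv => ?_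
        have h7 : v ∈ F ⊓ centralizer ({t} : Set G) :=
          ⟨lF hv, mem_centralizer_singleton_iff.2 (cm' (h.Sl ht.2) hv).symm⟩
        exact ((mem_centralizer_iff.1 (h6 h7).2) x hxA).symm
      have h5 : (F ⊓ centralizer (A : Set G)).relIndex (F ⊓ centralizer ({t} : Set G)) ≠ 0 :=
        index_ne_zero_of_finite
      have h6 : 2 ≤ (F ⊓ centralizer (A : Set G)).relIndex (F ⊓ centralizer ({t} : Set G)) := by omega
      have h7 : (centralizer (F : Set G)).relIndex A ≤ q * q := by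
        rw [← hprod]; exact Nat.mul_le_mul h2 hidx
      have h8 : 2 * q ^ 2 ≤ (centralizer (A : Set G)).relIndex F := by
        rw [← h3]; exact Nat.mul_le_mul h6 h1
      nlinarith

end NV

end Cfsg.Agent.Omega.TCQ.R.ThN

end

section


/-!
# Partner points and lines, two types, no swap (helper918, TEXT W2 #24006; port of `OM/PG/Base.lean`)

Points are the conjugates of `Z 0` and of `Z 1` (of arbitrary orders), lines the conjugates of `U 0` and of `U 1`.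

* `Adj Z a u`: `(a, u)` is conjugate to `(Z i, Z (i + 1))`, `i : Fin 2`; `NN Z a = ⟨u : u ~ a⟩`;
  `LnOn Z U a l`: `(a, l)` is conjugate to `(Z i, U i)`;
* `PP Z U` : the axioms; `PP.con`, `PP.con_ln` : `N_G(a)` is transitive on the neighbours and on the lines of `a`;
* `PP.f3`, `PP.lemP`, `MM`, `XF`, `XW`.
-/

set_option autoImplicit false
set_option linter.unusedSectionVars false

namespace Cfsg.Agent.Omega.OM.PT

open Subgroup Cfsg Cfsg.Agent.ZN Cfsg.Agent.Omega.MinPar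
open Cfsg.Agent.Omega.OM.PG (HH QQ HH_conj QQ_conj conj_inv_conj inv_conj_conj)
open Cfsg.Agent.Omega.NO3S.EThree.ExactA (eab_iff eab_sup eab_mono)
open Cfsg.Agent.Omega.NoFF.Basic (conj_conj mem_conj conj_le_iff conj_le_centralizer comm_symm comm_mono)
open Cfsg.Agent.Omega.NOThreeL.Pair (conj_eq_of_mem)
open scoped Pointwise

universe u

variable {G : Type u} [Group G]

theorem add2 (i : Fin 2) : i + 1 + 1 = i := by fin_cases i <;> rfl

theorem eq_or (i j : Fin 2) : j = i ∨ j = i + 1 := by fin_cases i <;> fin_cases j <;> simp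

/-- `a` is a point. -/
def IsPt (Z : Fin 2 → Subgroup G) (a : Subgroup G) : Prop := ∃ (i : Fin 2) (k : G), a = MulAut.conj k • Z i

/-- `a ~ u` -/
def Adj (Z : Fin 2 → Subgroup G) (a u : Subgroup G) : Prop :=
  ∃ (i : Fin 2) (k : G), a = MulAut.conj k • Z i ∧ u = MulAut.conj k • Z (i + 1)

/-- `l` is a line on the point `a`. -/
def LnOn (Z U : Fin 2 → Subgroup G) (a l : Subgroup G) : Prop :=
  ∃ (i : Fin 2) (k : G), a = MulAut.conj k • Z i ∧ l = MulAut.conj k • U i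

/-- `N_a = ⟨u : u ~ a⟩` -/
def NN (Z : Fin 2 → Subgroup G) (a : Subgroup G) : Subgroup G := sSup {u | Adj Z a u}

/-- `F_a = C_{N_G(a)}(N_a)` -/
abbrev FF (Z : Fin 2 → Subgroup G) (a : Subgroup G) : Subgroup G := HH a ⊓ centralizer (NN Z a : Set G)

/-- `N_a` and `N_b` commute. -/
abbrev Com (Z : Fin 2 → Subgroup G) (a b : Subgroup G) : Prop := NN Z a ≤ centralizer (NN Z b : Set G)

section conj

variable {Z U : Fin 2 → Subgroup G} {a u l : Subgroup G}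

theorem Com.symm {a b : Subgroup G} (h : Com Z a b) : Com Z b a := comm_symm h

theorem isPt (Z : Fin 2 → Subgroup G) (i : Fin 2) : IsPt Z (Z i) := ⟨i, 1, by rw [map_one, one_smul]⟩

theorem adj (Z : Fin 2 → Subgroup G) (i : Fin 2) : Adj Z (Z i) (Z (i + 1)) :=
  ⟨i, 1, by rw [map_one, one_smul], by rw [map_one, one_smul]⟩

theorem lnOn (Z U : Fin 2 → Subgroup G) (i : Fin 2) : LnOn Z U (Z i) (U i) :=
  ⟨i, 1, by rw [map_one, one_smul], by rw [map_one, one_smul]⟩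

theorem IsPt.conj (h : IsPt Z a) (g : G) : IsPt Z (MulAut.conj g • a) := by
  obtain ⟨i, k, rfl⟩ := h
  exact ⟨i, g * k, conj_conj _ _ _⟩

theorem Adj.conj (h : Adj Z a u) (g : G) : Adj Z (MulAut.conj g • a) (MulAut.conj g • u) := by
  obtain ⟨i, k, rfl, rfl⟩ := h
  exact ⟨i, g * k, conj_conj _ _ _, conj_conj _ _ _⟩

theorem LnOn.conj (h : LnOn Z U a l) (g : G) : LnOn Z U (MulAut.conj g • a) (MulAut.conj g • l) := by
  obtain ⟨i, k, rfl, rfl⟩ := h
  exact ⟨i, g * k, conj_conj _ _ _, conj_conj _ _ _⟩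

theorem Adj.pt (h : Adj Z a u) : IsPt Z a := by
  obtain ⟨i, k, rfl, -⟩ := h
  exact ⟨i, k, rfl⟩

theorem LnOn.pt (h : LnOn Z U a l) : IsPt Z a := by
  obtain ⟨i, k, rfl, -⟩ := h
  exact ⟨i, k, rfl⟩

theorem Adj.symm (h : Adj Z a u) : Adj Z u a := by
  obtain ⟨i, k, rfl, rfl⟩ := h
  exact ⟨i + 1, k, rfl, by rw [add2]⟩

theorem Adj.pt' (h : Adj Z a u) : IsPt Z u := h.symm.pt

theorem IsPt.exists_adj (h : IsPt Z a) : ∃ u, Adj Z a u := by
  obtain ⟨i, k, rfl⟩ := h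
  exact ⟨_, (adj Z i).conj k⟩

theorem Adj.le_NN (h : Adj Z a u) : u ≤ NN Z a := le_sSup h

theorem NN_conj (g : G) (a : Subgroup G) : NN Z (MulAut.conj g • a) = MulAut.conj g • NN Z a := by
  have key : ∀ (g : G) (a : Subgroup G), MulAut.conj g • NN Z a ≤ NN Z (MulAut.conj g • a) := by
    intro g a
    have h1 : NN Z a ≤ MulAut.conj g⁻¹ • NN Z (MulAut.conj g • a) := by
      refine sSup_le fun u hu => ?_
      have h2 := (Adj.conj hu g).le_NN
      have h3 := conj_le_iff (g := g⁻¹) |>.2 h2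
      rwa [inv_conj_conj] at h3
    have h3 := conj_le_iff (g := g) |>.2 h1
    rwa [conj_inv_conj] at h3
  refine le_antisymm ?_ (key g a)
  have h1 := key g⁻¹ (MulAut.conj g • a)
  rw [inv_conj_conj] at h1
  have h3 := conj_le_iff (g := g) |>.2 h1
  rwa [conj_inv_conj] at h3

end conj

/-! ### The axioms -/

/-- **Partner points and partner lines of two types.** -/
structure PP (Z U : Fin 2 → Subgroup G) : Prop where
  /-- if `Z 0` and `Z 1` are conjugate, the two types are exchanged by an element -/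
  fus : ∀ (i : Fin 2) (k : G), MulAut.conj k • Z i = Z (i + 1) →
    ∃ s : G, ∀ j, MulAut.conj s • Z j = Z (j + 1) ∧ MulAut.conj s • U j = U (j + 1)
  ZU : ∀ i, Z i ≤ U i
  UN : ∀ i, U i ≤ NN Z (Z (i + 1))
  sq : ∀ i, ∀ x ∈ Z i, x ^ 2 = 1
  ne : ∀ i, Z i ≠ ⊥
  N_le_Q : ∀ i, NN Z (Z i) ≤ QQ (Z i)
  Q_le_cent : ∀ i, QQ (Z i) ≤ centralizer (NN Z (Z i) : Set G)
  UQ : ∀ i, ∀ x ∈ U i, ∀ y ∈ QQ (Z i), x * y * x⁻¹ * y⁻¹ ∈ Z i
  nonLoc : NonLoc (HH (Z 0)) (HH (Z 1))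

/-- Paths of length `n`. -/
inductive Pth (Z : Fin 2 → Subgroup G) : ℕ → Subgroup G → Subgroup G → Prop
  | zero {a : Subgroup G} (h : IsPt Z a) : Pth Z 0 a a
  | succ {n : ℕ} {a b c : Subgroup G} (h : Pth Z n a b) (h' : Adj Z b c) : Pth Z (n + 1) a c

namespace PP

variable {Z U : Fin 2 → Subgroup G} (P : PP Z U)

include P

theorem nonLoc' (i : Fin 2) : NonLoc (HH (Z i)) (HH (Z (i + 1))) := by
  fin_cases i
  · exact P.nonLoc
  · exact fun R hR h1 h2 => P.nonLoc R hR h2 h1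

/-- two pairs `(Z i, Z (i+1), U i)` over the same point -/
theorem con_aux {i j : Fin 2} {k l : G} (h : MulAut.conj k • Z i = MulAut.conj l • Z j) :
    ∃ g : G, MulAut.conj g • (MulAut.conj k • Z i) = MulAut.conj l • Z j ∧
      MulAut.conj g • (MulAut.conj k • Z (i + 1)) = MulAut.conj l • Z (j + 1) ∧
      MulAut.conj g • (MulAut.conj k • U i) = MulAut.conj l • U j ∧
      MulAut.conj g • (MulAut.conj k • U (i + 1)) = MulAut.conj l • U (j + 1) := by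
  have e : ∀ (m : G) (A : Subgroup G), MulAut.conj (l * m * k⁻¹) • (MulAut.conj k • A) =
      MulAut.conj l • (MulAut.conj m • A) := by
    intro m A
    rw [conj_conj, conj_conj, mul_assoc, mul_assoc, inv_mul_cancel, mul_one]
  rcases eq_or i j with rfl | rfl
  · refine ⟨l * 1 * k⁻¹, ?_, ?_, ?_, ?_⟩ <;> rw [e, map_one, one_smul]
  · have h1 : MulAut.conj (l⁻¹ * k) • Z i = Z (i + 1) := by
      rw [← conj_conj, h, inv_conj_conj]
    obtain ⟨s, hs⟩ := P.fus i _ h1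
    refine ⟨l * s * k⁻¹, ?_, ?_, ?_, ?_⟩
    · rw [e, (hs _).1]
    · rw [e, (hs _).1]
    · rw [e, (hs _).2]
    · rw [e, (hs _).2]

/-- `N_G(a)` is transitive on the neighbours of `a` -/
theorem con {a u u' : Subgroup G} (h : Adj Z a u) (h' : Adj Z a u') :
    ∃ g : G, MulAut.conj g • a = a ∧ MulAut.conj g • u = u' := by
  obtain ⟨i, k, h1, rfl⟩ := h
  obtain ⟨j, l, h2, rfl⟩ := h'
  obtain ⟨g, hg1, hg2, -, -⟩ := P.con_aux (i := i) (j := j) (k := k) (l := l) (by rw [← h1, ← h2])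
  exact ⟨g, by rw [← h1, ← h2] at hg1; exact hg1, hg2⟩

/-- `N_G(a)` is transitive on the lines of `a` -/
theorem con_ln {a l l' : Subgroup G} (h : LnOn Z U a l) (h' : LnOn Z U a l') :
    ∃ g : G, MulAut.conj g • a = a ∧ MulAut.conj g • l = l' := by
  obtain ⟨i, k, h1, rfl⟩ := h
  obtain ⟨j, m, h2, rfl⟩ := h'
  obtain ⟨g, hg1, -, hg2, -⟩ := P.con_aux (i := i) (j := j) (k := k) (l := m) (by rw [← h1, ← h2])
  exact ⟨g, by rw [← h1, ← h2] at hg1; exact hg1, hg2⟩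

theorem NN_le_QQ {a : Subgroup G} (h : IsPt Z a) : NN Z a ≤ QQ a := by
  obtain ⟨i, k, rfl⟩ := h
  rw [NN_conj, QQ_conj]
  exact conj_le_iff.2 (P.N_le_Q i)

theorem QQ_le_cent {a : Subgroup G} (h : IsPt Z a) : QQ a ≤ centralizer (NN Z a : Set G) := by
  obtain ⟨i, k, rfl⟩ := h
  rw [NN_conj, QQ_conj]
  exact conj_le_centralizer (P.Q_le_cent i)

theorem NN_comm {a : Subgroup G} (h : IsPt Z a) : Com Z a a := (P.NN_le_QQ h).trans (P.QQ_le_cent h)

/-- `a ~ u`: `Q_u` centralises `a`. -/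
theorem QQ_le_cent_of_adj {a u : Subgroup G} (h : Adj Z a u) : QQ u ≤ centralizer (a : Set G) :=
  (P.QQ_le_cent h.pt').trans (centralizer_le h.symm.le_NN)

omit P in
theorem cent_le_HH (a : Subgroup G) : centralizer (a : Set G) ≤ HH a := centralizer_le_normalizer _

theorem QQ_le_HH {a u : Subgroup G} (h : Adj Z a u) : QQ u ≤ HH a :=
  (P.QQ_le_cent_of_adj h).trans (cent_le_HH a)

theorem FF_le_HH {a u : Subgroup G} (h : Adj Z a u) : FF Z a ≤ HH u :=
  inf_le_right.trans ((centralizer_le h.le_NN).trans (cent_le_HH u))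

omit P in
theorem HH_le_NN (a : Subgroup G) : HH a ≤ normalizer (NN Z a : Set G) := by
  intro g hg
  have h0 : MulAut.conj g • a = a := conj_eq_of_mem hg
  refine ChoiceBase.mem_normalizer_iff_cj.2 ?_
  change MulAut.conj g • NN Z a = NN Z a
  rw [← NN_conj, h0]

omit P in
theorem HH_le_FF (a : Subgroup G) : HH a ≤ normalizer (FF Z a : Set G) :=
  NO3L.LemP.le_normalizer_inf le_normalizer
    ((HH_le_NN a).trans (NO3L.LemP.normalizer_le_normalizer_cent (NN Z a)))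

/-- **(f3)** -/
theorem f3 {a u E : Subgroup G} (h : Adj Z a u) (hE : E ≤ QQ u) (hc : E ≤ centralizer (NN Z a : Set G)) :
    E ≤ QQ a := by
  have h1 : E ≤ QQ u ⊓ FF Z a := le_inf hE (le_inf (hE.trans (P.QQ_le_HH h)) hc)
  have h2 : QQ u ⊓ FF Z a ≤ o2 (FF Z a) := by
    refine MinSimple.VModule.le_o2 inf_le_right ((MinSimple.VModule.o2_isPGroup _).to_le inf_le_left) ?_
    refine NO3L.LemP.le_normalizer_inf ?_ le_normalizer
    exact (P.FF_le_HH h).trans (MinSimple.VModule.le_normalizer_o2 _)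
  have h3 : o2 (FF Z a) ≤ QQ a := by
    refine MinSimple.VModule.le_o2 ((MinSimple.VModule.o2_le _).trans inf_le_left) (MinSimple.VModule.o2_isPGroup _) ?_
    exact (HH_le_FF a).trans (Cfsg.Agent.Omega.normalizer_le_normalizer_o2' _)
  exact h1.trans (h2.trans h3)

/-! ### Paths -/

omit P in
theorem pth_pt {n : ℕ} {a b : Subgroup G} (h : Pth Z n a b) : IsPt Z a := by
  induction h with
  | zero h => exact h
  | succ _ _ ih => exact ih

omit P in
theorem pth_pt' {n : ℕ} {a b : Subgroup G} (h : Pth Z n a b) : IsPt Z b := by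
  cases h with
  | zero h => exact h
  | succ _ h' => exact h'.pt'

omit P in
theorem pth_cons {n : ℕ} {a b c : Subgroup G} (h : Adj Z a b) (h' : Pth Z n b c) : Pth Z (n + 1) a c := by
  induction h' with
  | zero _ => exact Pth.succ (Pth.zero h.pt) h
  | succ _ h1 ih => exact Pth.succ (ih h) h1

omit P in
theorem pth_symm {n : ℕ} {a b : Subgroup G} (h : Pth Z n a b) : Pth Z n b a := by
  induction h with
  | zero h => exact Pth.zero h
  | succ _ h1 ih => exact pth_cons h1.symm ih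

omit P in
theorem pth_trans {m n : ℕ} {a b c : Subgroup G} (h : Pth Z m a b) (h' : Pth Z n b c) : Pth Z (m + n) a c := by
  induction h' with
  | zero _ => exact h
  | succ _ h1 ih => exact Pth.succ (ih h) h1

omit P in
theorem pth_one {a b : Subgroup G} (h : Adj Z a b) : Pth Z 1 a b := Pth.succ (Pth.zero h.pt) h

omit P in
theorem pth_conj {n : ℕ} {a b : Subgroup G} (h : Pth Z n a b) (g : G) :
    Pth Z n (MulAut.conj g • a) (MulAut.conj g • b) := by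
  induction h with
  | zero h => exact Pth.zero (h.conj g)
  | succ _ h1 ih => exact Pth.succ ih (h1.conj g)

/-- **LEMMA P.** -/
theorem lemP {n : ℕ} (h : ∀ m ≤ n, ∀ a b, Pth Z m a b → Com Z a b) :
    ∀ m ≤ n, ∀ x c, Pth Z m x c → NN Z x ≤ QQ c := by
  intro m
  induction m with
  | zero =>
    intro _ x c hx
    cases hx with
    | zero h0 => exact P.NN_le_QQ h0
  | succ m ih =>
    intro hm x c hx
    have h1 := h _ hm x c hx
    cases hx with
    | succ h2 h3 => exact P.f3 h3.symm (ih (by omega) _ _ h2) h1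

theorem ZsqConj {a : Subgroup G} (h : IsPt Z a) : ∀ x ∈ a, x ^ 2 = 1 := by
  obtain ⟨i, k, rfl⟩ := h
  exact NoFF.Lines.Geo.conj_sq (P.sq i) k

theorem pt_ne {a : Subgroup G} (ha : IsPt Z a) : a ≠ ⊥ := by
  obtain ⟨i, k, rfl⟩ := ha
  intro e
  apply P.ne i
  have h4 : MulAut.conj k • Z i ≤ MulAut.conj k • (⊥ : Subgroup G) := by rw [e]; exact bot_le
  exact le_bot_iff.1 (conj_le_iff.1 h4)

theorem NN_eab {a : Subgroup G} (h : IsPt Z a) : IsElementaryAbelian 2 (NN Z a) := by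
  rw [eab_iff]
  refine ⟨P.NN_comm h, ?_⟩
  refine NoFF.Lines.Geo.sq_of_comm (P.NN_comm h) (ι := {u : Subgroup G // Adj Z a u}) (B := fun u => (u : Subgroup G))
    (fun u => u.2.le_NN) ?_ fun u => P.ZsqConj u.2.pt'
  exact sSup_le fun u hu => le_iSup (fun u : {u : Subgroup G // Adj Z a u} => (u : Subgroup G)) ⟨u, hu⟩

/-- a line on `a` lies in `N_u` for some `u ~ a` -/
theorem ln_le {a l : Subgroup G} (h : LnOn Z U a l) : ∃ u, Adj Z a u ∧ l ≤ NN Z u := by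
  obtain ⟨i, k, rfl, rfl⟩ := h
  refine ⟨MulAut.conj k • Z (i + 1), (adj Z i).conj k, ?_⟩
  rw [NN_conj]
  exact conj_le_iff.2 (P.UN i)

theorem pt_le_ln {a l : Subgroup G} (h : LnOn Z U a l) : a ≤ l := by
  obtain ⟨i, k, rfl, rfl⟩ := h
  exact conj_le_iff.2 (P.ZU i)

/-- `[l, Q_a] ≤ a` -/
theorem comm_mem {a l : Subgroup G} (h : LnOn Z U a l) {x y : G} (hx : x ∈ l) (hy : y ∈ QQ a) :
    x * y * x⁻¹ * y⁻¹ ∈ a := by
  obtain ⟨i, k, rfl, rfl⟩ := h
  rw [QQ_conj] at hy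
  obtain ⟨x0, hx0, rfl⟩ := hx
  obtain ⟨y0, hy0, rfl⟩ := hy
  refine ⟨x0 * y0 * x0⁻¹ * y0⁻¹, P.UQ i x0 hx0 y0 hy0, ?_⟩
  change k * (x0 * y0 * x0⁻¹ * y0⁻¹) * k⁻¹ =
    k * x0 * k⁻¹ * (k * y0 * k⁻¹) * (k * x0 * k⁻¹)⁻¹ * (k * y0 * k⁻¹)⁻¹
  group

end PP

/-! ### The groups `M_a`, `X_a`, `Y_a` -/

/-- `M_a = ⟨N_u : u ~ a⟩` -/
def MM (Z : Fin 2 → Subgroup G) (a : Subgroup G) : Subgroup G := ⨆ u : {u : Subgroup G // Adj Z a u}, NN Z u

/-- The groups `X_a`. -/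
structure XF (Z : Fin 2 → Subgroup G) (X : Subgroup G → Subgroup G) : Prop where
  conj : ∀ (g : G) (a : Subgroup G), IsPt Z a → X (MulAut.conj g • a) = MulAut.conj g • X a
  NX : ∀ a : Subgroup G, IsPt Z a → NN Z a ≤ X a
  aX : ∀ a : Subgroup G, IsPt Z a → a ≤ X a
  XQ : ∀ a : Subgroup G, IsPt Z a → X a ≤ QQ a
  eab : ∀ a : Subgroup G, IsPt Z a → IsElementaryAbelian 2 (X a)
  com : ∀ a : Subgroup G, IsPt Z a → ∀ x ∈ X a, ∀ y ∈ QQ a, x * y * x⁻¹ * y⁻¹ ∈ a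

/-- `Y_a = ⟨X_u : u ~ a⟩` -/
def YY (Z : Fin 2 → Subgroup G) (X : Subgroup G → Subgroup G) (a : Subgroup G) : Subgroup G :=
  ⨆ u : {u : Subgroup G // Adj Z a u}, X u

theorem MM_conj {Z : Fin 2 → Subgroup G} (g : G) (a : Subgroup G) :
    MM Z (MulAut.conj g • a) = MulAut.conj g • MM Z a := by
  have key : ∀ (g : G) (a : Subgroup G), MM Z (MulAut.conj g • a) ≤ MulAut.conj g • MM Z a := by
    intro g a
    refine iSup_le ?_
    rintro ⟨u, hu⟩
    have h1 : Adj Z a (MulAut.conj g⁻¹ • u) := by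
      have h2 := hu.conj g⁻¹
      rwa [inv_conj_conj] at h2
    have h2 : NN Z (MulAut.conj g⁻¹ • u) ≤ MM Z a :=
      le_iSup (fun u : {u : Subgroup G // Adj Z a u} => NN Z u) ⟨_, h1⟩
    have h3 := conj_le_iff (g := g) |>.2 h2
    rwa [← NN_conj, conj_inv_conj] at h3
  refine le_antisymm (key g a) ?_
  have h1 := key g⁻¹ (MulAut.conj g • a)
  rw [inv_conj_conj] at h1
  have h2 := conj_le_iff (g := g) |>.2 h1
  rwa [conj_inv_conj] at h2

/-- `X_a = W_a N_a` -/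
def XW (Z U : Fin 2 → Subgroup G) (a : Subgroup G) : Subgroup G :=
  NN Z a ⊔ ⨆ l : {l : Subgroup G // LnOn Z U a l}, (l : Subgroup G)

section XW

variable {Z U : Fin 2 → Subgroup G}

theorem XW_conj (g : G) (a : Subgroup G) : XW Z U (MulAut.conj g • a) = MulAut.conj g • XW Z U a := by
  have key : ∀ (g : G) (a : Subgroup G), XW Z U (MulAut.conj g • a) ≤ MulAut.conj g • XW Z U a := by
    intro g a
    refine sup_le ?_ (iSup_le ?_)
    · rw [NN_conj]
      exact conj_le_iff.2 le_sup_left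
    · rintro ⟨l, hl⟩
      have h1 : LnOn Z U a (MulAut.conj g⁻¹ • l) := by
        have h2 := hl.conj g⁻¹
        rwa [inv_conj_conj] at h2
      have h2 : MulAut.conj g⁻¹ • l ≤ XW Z U a :=
        (le_iSup (fun l : {l : Subgroup G // LnOn Z U a l} => (l : Subgroup G)) ⟨_, h1⟩).trans le_sup_right
      have h3 := conj_le_iff (g := g) |>.2 h2
      rwa [conj_inv_conj] at h3
  refine le_antisymm (key g a) ?_
  have h1 := key g⁻¹ (MulAut.conj g • a)
  rw [inv_conj_conj] at h1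
  have h2 := conj_le_iff (g := g) |>.2 h1
  rwa [conj_inv_conj] at h2

theorem ln_le_XW {a l : Subgroup G} (h : LnOn Z U a l) : l ≤ XW Z U a :=
  (le_iSup (fun l : {l : Subgroup G // LnOn Z U a l} => (l : Subgroup G)) ⟨_, h⟩).trans le_sup_right

/-- `[N_a, Q_a] = 1`, `[l, Q_a] ≤ a`: `[X_a, Q_a] ≤ a` -/
theorem XW_com (P : PP Z U) {a : Subgroup G} (ha : IsPt Z a) (hXX : XW Z U a ≤ centralizer (XW Z U a : Set G)) :
    ∀ x ∈ XW Z U a, ∀ y ∈ QQ a, x * y * x⁻¹ * y⁻¹ ∈ a := by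
  intro x hx y hy
  have haX : a ≤ XW Z U a := by
    obtain ⟨i, k, rfl⟩ := ha
    exact (P.pt_le_ln ((lnOn Z U i).conj k)).trans (ln_le_XW ((lnOn Z U i).conj k))
  let K : Subgroup G :=
    { carrier := {x | x ∈ XW Z U a ∧ x * y * x⁻¹ * y⁻¹ ∈ a}
      one_mem' := ⟨one_mem _, by simp⟩
      mul_mem' := by
        rintro x₁ x₂ ⟨h1, h2⟩ ⟨h3, h4⟩
        refine ⟨mul_mem h1 h3, ?_⟩
        have e1 := mem_centralizer_iff.1 (hXX h1) _ (haX h4)
        have e2 : x₁ * x₂ * y * (x₁ * x₂)⁻¹ * y⁻¹ =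
            x₂ * y * x₂⁻¹ * y⁻¹ * (x₁ * y * x₁⁻¹ * y⁻¹) := by
          calc x₁ * x₂ * y * (x₁ * x₂)⁻¹ * y⁻¹ =
              x₁ * (x₂ * y * x₂⁻¹ * y⁻¹) * (y * x₁⁻¹ * y⁻¹) := by group
            _ = (x₂ * y * x₂⁻¹ * y⁻¹) * x₁ * (y * x₁⁻¹ * y⁻¹) := by rw [← e1]
            _ = _ := by group
        rw [e2]
        exact mul_mem h4 h2
      inv_mem' := by
        rintro x₁ ⟨h1, h2⟩
        refine ⟨inv_mem h1, ?_⟩
        have e1 := mem_centralizer_iff.1 (hXX (inv_mem h1)) _ (haX (inv_mem h2))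
        have e2 : x₁⁻¹ * y * x₁⁻¹⁻¹ * y⁻¹ = (x₁ * y * x₁⁻¹ * y⁻¹)⁻¹ := by
          calc x₁⁻¹ * y * x₁⁻¹⁻¹ * y⁻¹ = x₁⁻¹ * (x₁ * y * x₁⁻¹ * y⁻¹)⁻¹ * x₁ := by group
            _ = (x₁ * y * x₁⁻¹ * y⁻¹)⁻¹ * x₁⁻¹ * x₁ := by rw [e1]
            _ = _ := by group
        rw [e2]
        exact inv_mem h2 }
  have h1 : XW Z U a ≤ K := by
    refine sup_le (fun n hn => ⟨mem_sup_left hn, ?_⟩) (iSup_le fun l x hx => ⟨ln_le_XW l.2 hx, ?_⟩)
    · have e := mem_centralizer_iff.1 (P.QQ_le_cent ha hy) n hn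
      rw [e]
      simp
    · exact P.comm_mem l.2 hx hy
  exact (h1 hx).2

/-- The axioms of `X_a` for `W_a N_a`. -/
theorem xf (P : PP Z U) (hab : ∀ i, IsElementaryAbelian 2 (XW Z U (Z i))) (hle : ∀ i, XW Z U (Z i) ≤ QQ (Z i)) :
    XF Z (XW Z U) := by
  have hxx : ∀ a, IsPt Z a → IsElementaryAbelian 2 (XW Z U a) := by
    rintro _ ⟨i, k, rfl⟩
    rw [XW_conj]
    exact PG.Peel.eab_conj (hab i) k
  refine ⟨fun g a _ => XW_conj g a, fun a _ => le_sup_left, ?_, ?_, hxx, ?_⟩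
  · rintro _ ⟨i, k, rfl⟩
    exact (P.pt_le_ln ((lnOn Z U i).conj k)).trans (ln_le_XW ((lnOn Z U i).conj k))
  · rintro _ ⟨i, k, rfl⟩
    rw [XW_conj, QQ_conj]
    exact conj_le_iff.2 (hle i)
  · exact fun a ha => XW_com P ha (eab_iff.1 (hxx a ha)).1

end XW

end Cfsg.Agent.Omega.OM.PT

end

section


/-!
# Two types, no swap: least distance at least 3 is impossible (helper918, TEXT W2 #24006 (8); port of `EThree/ExactA`,
`OM/PG/Peel`, `OM/PG/PeelQ`)

* `NoP`, `TIp`, `NobX`, `ThmC2`, `TB`, `FixN`: the inputs;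
* `mm_adj`, `exact'`, `moves` : `r(Q_a) = r(Q_u)`; some `A ∈ AA Q_a` moves `N_u` (both types, from `TB`);
* `tb_of`, `false_of_three`, `exists_least`.
-/

set_option autoImplicit false
set_option linter.unusedSectionVars false

namespace Cfsg.Agent.Omega.OM.PT

open Subgroup Cfsg Cfsg.Agent.ZN Cfsg.Agent.Omega.MinPar
open Cfsg.Agent.Omega.OM.PG (HH QQ HH_conj QQ_conj conj_inv_conj inv_conj_conj)
open Cfsg.Agent.Omega.NO3S.EThree.ExactA (eab_iff eab_sup eab_mono swp no_sup MinA exists_minA)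
open Cfsg.Agent.Omega.OM.PG.Peel (Nob Exa nob_of_le nob_of exa_peel exists_mul_of_comm mem_cent_conj not_le_iSup)
open Cfsg.Agent.ZN.ChoiceBase (AA mm mm_eq mem_AA_iff AA_nonempty card_le_mm cj_mem_AA mm_cj mm_mono)
open Cfsg.Agent.Omega.NoFF.Basic (conj_conj mem_conj conj_le_iff conj_le_centralizer comm_symm comm_mono)
open Cfsg.Agent.Omega.NO3S.ML (card_mul_relIndex card_sup_mul_of_comm)
open Cfsg.Agent.Omega.NOThreeL.Pair (conj_eq_of_mem)
open scoped Pointwise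

universe u

variable {G : Type u} [Group G]

/-- `(NO)` for `Q_a` on `N_u`, `a ~ u`. -/
def NoP (Z : Fin 2 → Subgroup G) : Prop :=
  ∀ a u : Subgroup G, Adj Z a u → ∀ B : Subgroup G, IsElementaryAbelian 2 B → B ≤ QQ a → Nob (NN Z u) B

/-- THEOREM C for 2-subgroups of `C(a)`. -/
def ThmC2 (Z : Fin 2 → Subgroup G) (X : Subgroup G → Subgroup G) : Prop :=
  ∀ a : Subgroup G, IsPt Z a → ∀ B : Subgroup G, IsPGroup 2 B → B ≤ centralizer (a : Set G) →
    (∀ x ∈ X a, ∀ g ∈ B, x * g * x⁻¹ * g⁻¹ ∈ NN Z a) → B ≤ centralizer (NN Z a : Set G)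

/-- `B ∈ AA Q_a`, `a ~ u`, `C_B(N_u)` centralises `X_u`: `B` centralises `N_u` -/
def TB (Z : Fin 2 → Subgroup G) (X : Subgroup G → Subgroup G) : Prop :=
  ∀ a u : Subgroup G, Adj Z a u → ∀ B ∈ AA (QQ a),
    B ⊓ centralizer (NN Z u : Set G) ≤ centralizer (X u : Set G) → B ≤ centralizer (NN Z u : Set G)

/-- points are t.i. -/
def TIp (Z : Fin 2 → Subgroup G) : Prop :=
  ∀ a b : Subgroup G, IsPt Z a → IsPt Z b → a ≠ b → a ⊓ b = ⊥

/-- `(NO)` for `Q_a` on `X_a` -/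
def NobX (Z : Fin 2 → Subgroup G) (X : Subgroup G → Subgroup G) : Prop :=
  ∀ a : Subgroup G, IsPt Z a → ∀ B : Subgroup G, IsElementaryAbelian 2 B → B ≤ QQ a → Nob (X a) B

/-- an element of `Q_b` which normalises all points `u ~ a` centralises `N_a`, `a ~ b` -/
def FixN (Z : Fin 2 → Subgroup G) : Prop :=
  ∀ a b : Subgroup G, Adj Z a b → ∀ x ∈ QQ b, (∀ u : Subgroup G, Adj Z a u → MulAut.conj x • u = u) →
    x ∈ centralizer (NN Z a : Set G)

/-- some `A ∈ AA Q_a` moves `N_u`, `a ~ u` -/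
def Mvs (Z : Fin 2 → Subgroup G) : Prop :=
  ∀ a u : Subgroup G, Adj Z a u → ∃ A ∈ AA (QQ a), ¬ A ≤ centralizer (NN Z u : Set G)

theorem ti_one {Z : Fin 2 → Subgroup G} (hti : TIp Z) {a b : Subgroup G} (ha : IsPt Z a) (hb : IsPt Z b)
    (hne : a ≠ b) {x : G} (hxa : x ∈ a) (hxb : x ∈ b) : x = 1 := by
  have h1 : x ∈ a ⊓ b := ⟨hxa, hxb⟩
  rwa [hti a b ha hb hne, mem_bot] at h1

variable [Finite G]

/-! ### `EThree/ExactA` -/

section exactA

variable {Z U : Fin 2 → Subgroup G} (P : PP Z U)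

include P

/-- `N_a ≤ A` for `A ∈ AA Q_a`. -/
theorem NN_le {a A : Subgroup G} (h : IsPt Z a) (hA : A ∈ AA (QQ a)) : NN Z a ≤ A := by
  have h1 : IsElementaryAbelian 2 (A ⊔ NN Z a : Subgroup G) :=
    eab_sup hA.1 (P.NN_eab h) (hA.2.1.trans (P.QQ_le_cent h))
  have h2 := hA.2.2 _ h1 (sup_le hA.2.1 (P.NN_le_QQ h))
  have h3 : A = A ⊔ NN Z a := Subgroup.eq_of_le_of_card_ge le_sup_left h2
  rw [h3]
  exact le_sup_right

/-- `J(Q_i) ≠ 1` -/
theorem jj_ne (i : Fin 2) : jj (QQ (Z i)) ≠ ⊥ := by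
  intro e
  obtain ⟨A, hA⟩ := AA_nonempty (QQ (Z i))
  have h1 : A = ⊥ := by
    rw [eq_bot_iff, ← e]
    exact ChoiceBase.le_jj hA
  have h2 := NN_le P (isPt Z i) hA
  rw [h1] at h2
  exact P.ne (i + 1) (le_bot_iff.1 ((adj Z i).le_NN.trans h2))

theorem exact0 (hC : ∀ a u : Subgroup G, Adj Z a u → Com Z a u) (hNO : NoP Z) {a u A : Subgroup G} (h : Adj Z a u)
    (hA : A ∈ AA (QQ a)) :
    (centralizer (NN Z u : Set G)).relIndex A = (centralizer (A : Set G)).relIndex (NN Z u) ∧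
      NN Z u ⊓ centralizer (A : Set G) ≤ A ∧
      (A ⊓ centralizer (NN Z u : Set G)) ⊔ NN Z u ∈ AA (QQ a) ∧
      (A ⊓ centralizer (NN Z u : Set G)) ⊔ NN Z u ≤ QQ u := by
  have hu := h.pt'
  have h1 : NN Z u ≤ QQ a := P.f3 h (P.NN_le_QQ hu) (comm_symm (hC a u h))
  obtain ⟨h2, h3, h4⟩ := swp (P.NN_eab hu) h1 hA (hNO a u h A hA.1 hA.2.1)
  refine ⟨h2, h3, h4, ?_⟩
  exact P.f3 h.symm h4.2.1 (sup_le inf_le_right (P.NN_comm hu))

theorem mm_le (hC : ∀ a u : Subgroup G, Adj Z a u → Com Z a u) (hNO : NoP Z) {a u : Subgroup G} (h : Adj Z a u) :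
    mm (QQ a) ≤ mm (QQ u) := by
  obtain ⟨A, hA⟩ := AA_nonempty (QQ a)
  obtain ⟨-, -, h1, h2⟩ := exact0 P hC hNO h hA
  rw [mm_eq h1]
  exact card_le_mm h1.1 h2

/-- `r(Q_a) = r(Q_u)` -/
theorem mm_adj (hC : ∀ a u : Subgroup G, Adj Z a u → Com Z a u) (hNO : NoP Z) {a u : Subgroup G} (h : Adj Z a u) :
    mm (QQ a) = mm (QQ u) := le_antisymm (mm_le P hC hNO h) (mm_le P hC hNO h.symm)

/-- An `A ∈ AA Q_a` inside `Q_b` lies in `AA Q_b`, `a ~ b`. -/
theorem mem_AA_of_le (hC : ∀ a u : Subgroup G, Adj Z a u → Com Z a u) (hNO : NoP Z) {a b A : Subgroup G}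
    (h : Adj Z a b) (hA : A ∈ AA (QQ a)) (hle : A ≤ QQ b) : A ∈ AA (QQ b) := by
  rw [mem_AA_iff]
  exact ⟨hA.1, hle, by rw [mm_adj P hC hNO h.symm]; exact (mm_eq hA).le⟩

/-- **(2)** -/
theorem exact' (hC : ∀ a u : Subgroup G, Adj Z a u → Com Z a u) (hNO : NoP Z) {a u A : Subgroup G} (h : Adj Z a u)
    (hA : A ∈ AA (QQ a)) :
    (centralizer (NN Z u : Set G)).relIndex A = (centralizer (A : Set G)).relIndex (NN Z u) ∧
      NN Z u ⊓ centralizer (A : Set G) ≤ A ∧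
      (A ⊓ centralizer (NN Z u : Set G)) ⊔ NN Z u ∈ AA (QQ a) ∧
      (A ⊓ centralizer (NN Z u : Set G)) ⊔ NN Z u ∈ AA (QQ u) := by
  obtain ⟨h1, h2, h3, h4⟩ := exact0 P hC hNO h hA
  exact ⟨h1, h2, h3, mem_AA_of_le P hC hNO h h3 h4⟩

omit P in
theorem HH_le_jj (a : Subgroup G) : HH a ≤ normalizer (jj (QQ a) : Set G) := by
  intro g hg
  have h8 : MulAut.conj g • a = a := conj_eq_of_mem hg
  refine ChoiceBase.mem_normalizer_iff_cj.2 ?_
  have h9 : MulAut.conj g • jj (QQ a) = jj (MulAut.conj g • QQ a) := (ChoiceBase.jj_cj g (QQ a)).symm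
  change MulAut.conj g • jj (QQ a) = jj (QQ a)
  rw [h9, ← QQ_conj, h8]

/-- one of the two types moves the other one -/
theorem moves_or (hC : ∀ a u : Subgroup G, Adj Z a u → Com Z a u) (hNO : NoP Z) :
    ∃ i, ∃ A ∈ AA (QQ (Z i)), ¬ A ≤ centralizer (NN Z (Z (i + 1)) : Set G) := by
  by_contra hcon
  push Not at hcon
  have h1 : ∀ i, jj (QQ (Z i)) ≤ jj (QQ (Z (i + 1))) := by
    intro i
    rw [ChoiceBase.jj_eq, ChoiceBase.jj_eq]
    refine sSup_le fun A hA => le_sSup ?_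
    exact mem_AA_of_le P hC hNO (adj Z i) hA (P.f3 (adj Z i).symm hA.2.1 (hcon i A hA))
  have h2 : jj (QQ (Z 0)) = jj (QQ (Z 1)) := le_antisymm (h1 0) (h1 1)
  refine jj_ne P 0 (P.nonLoc (jj (QQ (Z 0))) ?_ (HH_le_jj _) ?_)
  · exact (MinSimple.VModule.o2_isPGroup _).to_le (ChoiceBase.jj_le _)
  · rw [h2]
    exact HH_le_jj _

/-- `A ∈ AA Q_a` moves `N_u`: some `B ∈ AA Q_u` moves `N_a` -/
theorem moves_symm (hC : ∀ a u : Subgroup G, Adj Z a u → Com Z a u) (hNO : NoP Z) (hB : TB Z (XW Z U))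
    {a u A : Subgroup G} (h : Adj Z a u) (hA : A ∈ AA (QQ a)) (hm : ¬ A ≤ centralizer (NN Z u : Set G)) :
    ∃ B ∈ AA (QQ u), ¬ B ≤ centralizer (NN Z a : Set G) := by
  obtain ⟨-, -, -, h1⟩ := exact' P hC hNO h hA
  set B := (A ⊓ centralizer (NN Z u : Set G)) ⊔ NN Z u with hBdef
  have h2 : ¬ B ≤ centralizer (XW Z U u : Set G) := fun h2 => hm (hB a u h A hA (le_sup_left.trans h2))
  obtain ⟨l, hl, hBl⟩ : ∃ l, LnOn Z U u l ∧ ¬ B ≤ centralizer (l : Set G) := by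
    by_contra hcon
    push Not at hcon
    exact h2 (comm_symm (sup_le (comm_symm (h1.2.1.trans (P.QQ_le_cent h.pt')))
      (iSup_le fun l => comm_symm (hcon l l.2))))
  obtain ⟨a', ha', hla⟩ := P.ln_le hl
  have h3 : ¬ B ≤ centralizer (NN Z a' : Set G) := fun h3 => hBl (h3.trans (centralizer_le hla))
  obtain ⟨g, hg1, hg2⟩ := P.con ha' h.symm
  refine ⟨MulAut.conj g • B, ?_, fun h4 => h3 ?_⟩
  · have h5 : MulAut.conj g • B ∈ AA (MulAut.conj g • QQ u) := cj_mem_AA g h1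
    rwa [← QQ_conj, hg1] at h5
  · rw [← hg2, NN_conj] at h4
    have h5 := conj_le_centralizer (g := g⁻¹) h4
    rwa [inv_conj_conj, inv_conj_conj] at h5

/-- **(G3)** -/
theorem moves (hC : ∀ a u : Subgroup G, Adj Z a u → Com Z a u) (hNO : NoP Z) (hB : TB Z (XW Z U)) : Mvs Z := by
  obtain ⟨i, A, hA, hm⟩ := moves_or P hC hNO
  have key : ∀ j, ∃ A ∈ AA (QQ (Z j)), ¬ A ≤ centralizer (NN Z (Z (j + 1)) : Set G) := by
    intro j
    rcases eq_or i j with rfl | rfl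
    · exact ⟨A, hA, hm⟩
    · obtain ⟨B, hB1, hB2⟩ := moves_symm P hC hNO hB (adj Z i) hA hm
      refine ⟨B, hB1, ?_⟩
      rwa [add2]
  rintro _ _ ⟨j, k, rfl, rfl⟩
  obtain ⟨A, hA, hm⟩ := key j
  refine ⟨MulAut.conj k • A, ?_, fun h4 => hm ?_⟩
  · rw [QQ_conj]
    exact cj_mem_AA k hA
  · rw [NN_conj] at h4
    have h5 := conj_le_centralizer (g := k⁻¹) h4
    rwa [inv_conj_conj, inv_conj_conj] at h5

end exactA

/-! ### `Peel`, `PeelQ` -/

section main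

variable {Z U : Fin 2 → Subgroup G} (P : PP Z U) {X : Subgroup G → Subgroup G} (F : XF Z X)
  (hX : ∀ m ≤ 2, ∀ a b : Subgroup G, Pth Z m a b → X a ≤ centralizer (X b : Set G))
  (hN : NobX Z X)

theorem NN_le_MM {Z : Fin 2 → Subgroup G} {a u : Subgroup G} (h : Adj Z a u) : NN Z u ≤ MM Z a :=
  le_iSup (fun u : {u : Subgroup G // Adj Z a u} => NN Z u) ⟨u, h⟩

include P F hX

omit [Finite G] in
theorem hC : ∀ m ≤ 2, ∀ a b : Subgroup G, Pth Z m a b → Com Z a b := fun m hm a b h =>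
  ((F.NX a (PP.pth_pt h)).trans (hX m hm a b h)).trans (centralizer_le (F.NX b (PP.pth_pt' h)))

omit [Finite G] in
theorem hC1 : ∀ a u : Subgroup G, Adj Z a u → Com Z a u := fun _ _ h =>
  hC P F hX 1 (by omega) _ _ (PP.pth_one h)

/-- `X_x ≤ Q_c` at distance `≤ 2` -/
theorem X_le_QQ : ∀ m ≤ 2, ∀ x c : Subgroup G, Pth Z m x c → X x ≤ QQ c := by
  intro m
  induction m with
  | zero =>
    intro _ x c hx
    cases hx with
    | zero h0 => exact F.XQ _ h0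
  | succ m ih =>
    intro hm x c hx
    have h1 := hX _ hm x c hx
    have hcp := PP.pth_pt' hx
    cases hx with
    | succ h2 h3 =>
      exact P.f3 h3.symm (ih (by omega) _ _ h2) (h1.trans (centralizer_le (F.NX _ hcp)))

omit P F hX in
theorem X_le_YY {a u : Subgroup G} (h : Adj Z a u) : X u ≤ YY Z X a :=
  le_iSup (fun u : {u : Subgroup G // Adj Z a u} => X u) ⟨u, h⟩

theorem YY_comm {a : Subgroup G} : YY Z X a ≤ centralizer (YY Z X a : Set G) := by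
  refine iSup_le fun u => comm_symm (iSup_le fun v => ?_)
  exact hX 2 le_rfl _ _ (Pth.succ (PP.pth_one v.2.symm) u.2)

theorem YY_eab {a : Subgroup G} : IsElementaryAbelian 2 (YY Z X a) := by
  rw [eab_iff]
  refine ⟨YY_comm P F hX, NoFF.Lines.Geo.sq_of_comm (YY_comm P F hX) (ι := {u : Subgroup G // Adj Z a u})
    (B := fun u => X u) (fun u => X_le_YY u.2) le_rfl fun u => (eab_iff.1 (F.eab _ u.2.pt')).2⟩

theorem YY_le_QQ {a : Subgroup G} : YY Z X a ≤ QQ a :=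
  iSup_le fun u => X_le_QQ P F hX 1 (by omega) _ _ (PP.pth_one u.2.symm)

theorem YY_le_QQ' {a b : Subgroup G} (h : Adj Z a b) : YY Z X a ≤ QQ b :=
  iSup_le fun u => X_le_QQ P F hX 2 (by omega) _ _ (Pth.succ (PP.pth_one u.2.symm) h)

theorem MM_le_YY {a : Subgroup G} : MM Z a ≤ YY Z X a :=
  iSup_le fun u => (F.NX _ u.2.pt').trans (X_le_YY u.2)

theorem NN_le_YY {a : Subgroup G} : NN Z a ≤ YY Z X a :=
  sSup_le fun _ hu => (F.aX _ (Adj.pt' hu)).trans (X_le_YY hu)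

theorem MM_comm {a : Subgroup G} : MM Z a ≤ centralizer (MM Z a : Set G) := by
  refine iSup_le fun u => comm_symm (iSup_le fun v => ?_)
  exact hC P F hX 2 le_rfl _ _ (Pth.succ (PP.pth_one v.2.symm) u.2)

theorem MM_eab {a : Subgroup G} : IsElementaryAbelian 2 (MM Z a) := by
  rw [eab_iff]
  refine ⟨MM_comm P F hX, NoFF.Lines.Geo.sq_of_comm (MM_comm P F hX) (ι := {u : Subgroup G // Adj Z a u})
    (B := fun u => NN Z u) (fun u => NN_le_MM u.2) le_rfl fun u => (eab_iff.1 (P.NN_eab u.2.pt')).2⟩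

theorem MM_le_QQ {a : Subgroup G} : MM Z a ≤ QQ a :=
  iSup_le fun u => P.lemP (hC P F hX) 1 (by omega) _ _ (PP.pth_one u.2.symm)

/-- `(NO)` for `Q_a` on `M_a` -/
theorem MM_no (hNO : NoP Z) {a : Subgroup G} {B : Subgroup G} (hB : IsElementaryAbelian 2 B) (hBQ : B ≤ QQ a) :
    Nob (MM Z a) B :=
  no_sup (ι := {u : Subgroup G // Adj Z a u}) (N := fun u => NN Z u) (fun u => NN_le_MM u.2) le_rfl
    (fun u B hB hBQ => hNO a u u.2 B hB hBQ) B hB hBQ

/-- `C_{Q_a}(M_a) ≤ Q_u` -/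
theorem cent_MM_le {a u B : Subgroup G} (h : Adj Z a u) (hB : B ≤ QQ a) (hBM : B ≤ centralizer (MM Z a : Set G)) :
    B ≤ QQ u :=
  P.f3 h.symm hB (hBM.trans (centralizer_le (NN_le_MM h)))

include hN

/-- `(NO)` for `C_{Q_a}(M_a)` on `Y_a` -/
theorem nobY0 {a B : Subgroup G} (hB : IsElementaryAbelian 2 B) (hBQ : B ≤ QQ a)
    (hBM : B ≤ centralizer (MM Z a : Set G)) : Nob (YY Z X a) B := by
  refine no_sup (ι := {u : Subgroup G // Adj Z a u}) (N := fun u => X u) (M := YY Z X a)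
    (Q := QQ a ⊓ centralizer (MM Z a : Set G)) (fun u => X_le_YY u.2) le_rfl (fun u B hB hBQ => ?_) B hB (le_inf hBQ hBM)
  exact hN _ u.2.pt' _ hB (cent_MM_le P F hX u.2 (hBQ.trans inf_le_left) (hBQ.trans inf_le_right))

variable (hNO : NoP Z)
include hNO

/-- `(NO)` for `Q_a` on `Y_a` -/
theorem nobY1 {a B : Subgroup G} (hB : IsElementaryAbelian 2 B) (hBQ : B ≤ QQ a) : Nob (YY Z X a) B :=
  nob_of (MM_le_YY P F hX) (MM_no P F hX hNO hB hBQ)
    (nobY0 P F hX hN (eab_mono hB inf_le_left) (inf_le_left.trans hBQ) inf_le_right)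

/-- `(NO)` for `Q_b` on `Y_a`, `a ~ b` -/
theorem nobY2 {a b B : Subgroup G} (h : Adj Z a b) (hB : IsElementaryAbelian 2 B) (hBQ : B ≤ QQ b) :
    Nob (YY Z X a) B :=
  nob_of (NN_le_YY P F hX) (hNO b a h.symm B hB hBQ)
    (nobY1 P F hX hN hNO (eab_mono hB inf_le_left) (P.f3 h (inf_le_left.trans hBQ) inf_le_right))

theorem nobT1 {a B : Subgroup G} (ha : IsPt Z a) (hB : IsElementaryAbelian 2 B) (hBQ : B ≤ QQ a) :
    Nob (MM Z a ⊔ NN Z a) B :=
  nob_of le_sup_left (MM_no P F hX hNO hB hBQ) (nob_of_le (comm_symm (sup_le (comm_symm inf_le_right)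
    (comm_symm (inf_le_left.trans (hBQ.trans (P.QQ_le_cent ha)))))))

theorem nobT2 {a b B : Subgroup G} (h : Adj Z a b) (hB : IsElementaryAbelian 2 B) (hBQ : B ≤ QQ b) :
    Nob (MM Z a ⊔ NN Z a) B :=
  nob_of le_sup_right (hNO b a h.symm B hB hBQ)
    (nobT1 P F hX hN hNO h.pt (eab_mono hB inf_le_left) (P.f3 h (inf_le_left.trans hBQ) inf_le_right))

/-- `AA Q` for `Q ≥ Y` : exact on `Y_a` -/
theorem exaY {a A Q : Subgroup G} (hYQ : YY Z X a ≤ Q) (hA : A ∈ AA Q) (h : Nob (YY Z X a) A) :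
    Exa (YY Z X a) A :=
  (swp (YY_eab P F hX) hYQ hA h).1

/-- THEOREM C for 2-subgroups gives `TB` (critical distance at least `3`) -/
theorem tb_of (hG : ThmC2 Z X) : TB Z X := by
  intro a u hau B hB h3
  obtain ⟨-, h4⟩ := exa_peel (N := YY Z X a) (V := NN Z u) (B := B)
    ((F.NX _ hau.pt').trans (X_le_YY hau))
    (exaY P F hX hN hNO (YY_le_QQ P F hX) hB (nobY1 P F hX hN hNO hB.1 hB.2.1))
    (hNO a u hau B hB.1 hB.2.1)
    (nobY1 P F hX hN hNO (eab_mono hB.1 inf_le_left) (inf_le_left.trans hB.2.1))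
  refine hG u hau.pt' B (MinSimple.VModule.o2_isPGroup _ |>.to_le hB.2.1)
    (hB.2.1.trans ((P.QQ_le_cent hau.pt).trans (centralizer_le hau.le_NN))) fun x hx g hg => ?_
  have hgu : g ∈ HH u := P.QQ_le_HH hau.symm (hB.2.1 hg)
  have h5 : x ∈ YY Z X a ⊓ centralizer ((B ⊓ centralizer (NN Z u : Set G) : Subgroup G) : Set G) :=
    ⟨X_le_YY hau hx, mem_centralizer_iff.2 fun b hb => (mem_centralizer_iff.1 (h3 hb) x hx).symm⟩
  obtain ⟨n, hn, y, hy, rfl⟩ := exists_mul_of_comm (V := NN Z u) (D := YY Z X a ⊓ centralizer (B : Set G))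
    (((F.NX _ hau.pt').trans (X_le_YY hau)).trans ((YY_comm P F hX).trans (centralizer_le inf_le_left))) (h4 h5)
  have e1 : g * y = y * g := mem_centralizer_iff.1 hy.2 g hg
  have e2 : n * y * g * (n * y)⁻¹ * g⁻¹ = n * (g * n⁻¹ * g⁻¹) := by
    calc n * y * g * (n * y)⁻¹ * g⁻¹ = n * (y * g) * y⁻¹ * n⁻¹ * g⁻¹ := by group
      _ = n * (g * y) * y⁻¹ * n⁻¹ * g⁻¹ := by rw [e1]
      _ = _ := by group
  rw [e2]
  exact mul_mem hn ((mem_normalizer_iff.1 (PP.HH_le_NN u hgu) _).1 (inv_mem hn))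

/-- the element `g` of TEXT R5 (4) (a) -/
def Sep (Z : Fin 2 → Subgroup G) (X : Subgroup G → Subgroup G) (a u : Subgroup G) : Prop :=
  ∃ g ∈ QQ a, g ∈ centralizer (MM Z a : Set G) ∧ (∀ p : Subgroup G, Adj Z a p → p ≠ u →
    g ∈ centralizer (X p : Set G)) ∧ g ∉ centralizer (X u : Set G)

omit [Finite G] hX hN hNO in
theorem Sep.conj {a u : Subgroup G} (hau : Adj Z a u) (h : Sep Z X a u) (k : G) :
    Sep Z X (MulAut.conj k • a) (MulAut.conj k • u) := by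
  obtain ⟨g, hg, hgM, hgX, hgu⟩ := h
  refine ⟨k * g * k⁻¹, ?_, ?_, fun p hp hne => ?_, ?_⟩
  · rw [QQ_conj]
    exact ⟨g, hg, rfl⟩
  · rw [MM_conj, mem_cent_conj]
    exact hgM
  · have h1 : Adj Z a (MulAut.conj k⁻¹ • p) := by
      have h2 := hp.conj k⁻¹
      rwa [inv_conj_conj] at h2
    have h2 : MulAut.conj k⁻¹ • p ≠ u := by
      rintro rfl
      exact hne (conj_inv_conj k p).symm
    have h3 := hgX _ h1 h2
    rw [← mem_cent_conj (g := k), ← F.conj k _ h1.pt', conj_inv_conj] at h3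
    exact h3
  · rw [F.conj k _ hau.pt', mem_cent_conj]
    exact hgu

variable (hG : TB Z X) (hti : TIp Z) (hmv : Mvs Z)

include hG hmv in
/-- some `B ∈ AA Q_a` centralises `M_a` and moves `Y_a` -/
theorem exists_B {a u₀ : Subgroup G} (h₀ : Adj Z a u₀) :
    ∃ B ∈ AA (QQ a), B ≤ centralizer (MM Z a : Set G) ∧ ¬ B ≤ centralizer (YY Z X a : Set G) := by
  obtain ⟨A, hA, hm⟩ := hmv a u₀ h₀
  obtain ⟨B, hB⟩ := exists_minA (M := MM Z a) hA fun h1 => hm (h1.trans (centralizer_le (NN_le_MM h₀)))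
  obtain ⟨⟨u, hau⟩, hu⟩ := not_le_iSup hB.mov
  replace hu : ¬ B ≤ centralizer (NN Z u : Set G) := hu
  obtain ⟨h1, -, -, -⟩ := hB.cap (MM_eab P F hX) (MM_le_QQ P F hX) (NN_le_MM hau) hu (hNO a u hau B hB.mem.1 hB.mem.2.1)
  obtain ⟨-, -, h2, -⟩ := exact' P (hC1 P F hX) hNO hau hB.mem
  refine ⟨_, h2, sup_le h1 ((NN_le_MM hau).trans (MM_comm P F hX)), fun hcon => ?_⟩
  -- `C_B(N_u)` centralises `X_u`
  exact hu (hG a u hau B hB.mem ((le_sup_left.trans hcon).trans (centralizer_le (X_le_YY hau))))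

include hG hti hmv in
/-- **(a)** -/
theorem sep {a u : Subgroup G} (h : Adj Z a u) : Sep Z X a u := by
  obtain ⟨B, hB, hBM, hBY⟩ := exists_B P F hX hN hNO hG hmv h
  set Q' := QQ a ⊓ centralizer (MM Z a : Set G) with hQ'
  have hBQ' : B ∈ AA Q' := ⟨hB.1, le_inf hB.2.1 hBM, fun D hD hDQ => hB.2.2 D hD (hDQ.trans inf_le_left)⟩
  obtain ⟨C, hCm⟩ := exists_minA hBQ' hBY
  obtain ⟨⟨u', hau'⟩, hu'⟩ := not_le_iSup hCm.mov
  replace hu' : ¬ C ≤ centralizer (X u' : Set G) := hu'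
  have hCQ : C ≤ QQ a := hCm.mem.2.1.trans inf_le_left
  have hCM : C ≤ centralizer (MM Z a : Set G) := hCm.mem.2.1.trans inf_le_right
  have hCu : ∀ p, Adj Z a p → C ≤ QQ p := fun p hp => cent_MM_le P F hX hp hCQ hCM
  have hYQ' : YY Z X a ≤ Q' :=
    le_inf (YY_le_QQ P F hX) ((YY_comm P F hX).trans (centralizer_le (MM_le_YY P F hX)))
  obtain ⟨-, -, -, h4⟩ := hCm.cap (YY_eab P F hX) hYQ' (X_le_YY hau') hu'
    (hN _ hau'.pt' _ hCm.mem.1 (hCu _ hau'))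
  obtain ⟨g, hgC, hgu⟩ := SetLike.not_le_iff_exists.1 hu'
  have h5 : Sep Z X a u' := by
    refine ⟨g, hCQ hgC, hCM hgC, fun p hp hne' => ?_, hgu⟩
    refine mem_centralizer_iff.2 fun x hx => ?_
    have h6 : x * g * x⁻¹ * g⁻¹ ∈ u' := by
      obtain ⟨v, hv, e⟩ := h4 x (X_le_YY hp hx) g hgC
      rw [e]
      exact F.com u' hau'.pt' v hv g (hCu _ hau' hgC)
    have h7 : x * g * x⁻¹ * g⁻¹ ∈ p := F.com p hp.pt' x hx g (hCu _ hp hgC)
    have h8 := ti_one hti hp.pt' hau'.pt' hne' h7 h6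
    calc x * g = (x * g * x⁻¹ * g⁻¹) * (g * x) := by group
      _ = g * x := by rw [h8, one_mul]
  -- all neighbours are conjugate
  obtain ⟨k, hk1, hk2⟩ := P.con hau' h
  have h9 := h5.conj P F hau' k
  rwa [hk1, hk2] at h9

include hG hti hmv in
/-- **TEXT R5 (4)**: least distance at least three is impossible. -/
theorem false_of_three (hfx : FixN Z) : False := by
  have h0 : IsPt Z (Z 0) := isPt Z 0
  have hab : Adj Z (Z 0) (Z 1) := adj Z 0
  obtain ⟨A, hA, hmov⟩ := hmv _ _ hab.symm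
  set a := Z 0 with ha
  set b := Z 1 with hb
  obtain ⟨x, hxA, hxN⟩ := SetLike.not_le_iff_exists.1 hmov
  obtain ⟨u, hau, hxu⟩ : ∃ u : Subgroup G, Adj Z a u ∧ MulAut.conj x • u ≠ u := by
    by_contra hcon
    push Not at hcon
    exact hxN (hfx a b hab x (hA.2.1 hxA) hcon)
  have hAab := (eab_iff.1 hA.1).1
  have hAa : A ≤ HH a := hA.2.1.trans (P.QQ_le_HH hab)
  have hxa : MulAut.conj x • a = a := Cfsg.Agent.Omega.NOThreeL.Pair.conj_eq_of_mem (hAa hxA)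
  set u' := MulAut.conj x • u with hu'
  have hau' : Adj Z a u' := by
    have h1 := hau.conj x
    rwa [hxa] at h1
  have hupt := hau.pt'
  have hne' : u' ≠ u := hxu
  obtain ⟨g, hgQ, hgM, hgX, hgu⟩ := sep P F hX hN hNO hG hti hmv hau
  set T := MM Z a ⊔ NN Z a with hT
  have hTY : T ≤ YY Z X a := sup_le (MM_le_YY P F hX) (NN_le_YY P F hX)
  set AM := A ⊓ centralizer (T : Set G) with hAM
  have hAMQ : AM ≤ QQ a := P.f3 hab (inf_le_left.trans hA.2.1) (inf_le_right.trans (centralizer_le (le_sup_right : NN Z a ≤ T)))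
  have hAMe : IsElementaryAbelian 2 AM := eab_mono hA.1 inf_le_left
  have hAMM : AM ≤ centralizer (MM Z a : Set G) := inf_le_right.trans (centralizer_le (le_sup_left : MM Z a ≤ T))
  have hAMu : ∀ p, Adj Z a p → AM ≤ QQ p := fun p hp => cent_MM_le P F hX hp hAMQ hAMM
  have hE := exaY P F hX hN hNO (YY_le_QQ' P F hX hab) hA (nobY2 P F hX hN hNO hab hA.1 hA.2.1)
  obtain ⟨h1, h2⟩ := exa_peel hTY hE (nobT2 P F hX hN hNO hab hA.1 hA.2.1) (nobY1 P F hX hN hNO hAMe hAMQ)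
  obtain ⟨-, h3⟩ := exa_peel (X_le_YY hau) h1 (hN _ hupt _ hAMe (hAMu _ hau))
    (nobY1 P F hX hN hNO (eab_mono hAMe inf_le_left) (inf_le_left.trans hAMQ))
  have hYc := YY_comm P F hX (a := a)
  have hXu' : X u' = MulAut.conj x • X u := F.conj x u hupt
  -- `A_M` centralises `X_u'`
  have h4 : AM ≤ centralizer (X u' : Set G) := by
    intro y hy
    refine mem_centralizer_iff.2 fun s hs => ?_
    have h5 : s ∈ YY Z X a ⊓ centralizer ((AM ⊓ centralizer (X u : Set G) : Subgroup G) : Set G) := by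
      refine ⟨X_le_YY hau' hs, mem_centralizer_iff.2 fun w hw => ?_⟩
      rw [hXu'] at hs
      obtain ⟨t, ht, rfl⟩ := hs
      have e1 : x * w = w * x := mem_centralizer_iff.1 (hAab hw.1.1) x hxA
      have e2 : t * w = w * t := mem_centralizer_iff.1 hw.2 t ht
      change w * (x * t * x⁻¹) = x * t * x⁻¹ * w
      have e3 : x⁻¹ * w = w * x⁻¹ := mem_centralizer_iff.1 (hAab hw.1.1) x⁻¹ (inv_mem hxA)
      calc w * (x * t * x⁻¹) = (w * x) * t * x⁻¹ := by group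
        _ = x * (w * t) * x⁻¹ := by rw [← e1]; group
        _ = x * t * (w * x⁻¹) := by rw [← e2]; group
        _ = x * t * x⁻¹ * w := by rw [← e3]; group
    obtain ⟨v, hv, w, hw, rfl⟩ := exists_mul_of_comm (V := X u)
      (D := YY Z X a ⊓ centralizer (AM : Set G)) ((X_le_YY hau).trans (hYc.trans (centralizer_le inf_le_left))) (h3 h5)
    have e1 : y * w = w * y := mem_centralizer_iff.1 hw.2 y hy
    have e2 : v * w * y * (v * w)⁻¹ * y⁻¹ = v * y * v⁻¹ * y⁻¹ := by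
      calc v * w * y * (v * w)⁻¹ * y⁻¹ = v * (w * y) * w⁻¹ * v⁻¹ * y⁻¹ := by group
        _ = v * (y * w) * w⁻¹ * v⁻¹ * y⁻¹ := by rw [e1]
        _ = _ := by group
    have h6 : v * w * y * (v * w)⁻¹ * y⁻¹ ∈ u := by
      rw [e2]
      exact F.com u hupt v hv y (hAMu _ hau hy)
    have h7 : v * w * y * (v * w)⁻¹ * y⁻¹ ∈ u' := F.com u' hau'.pt' _ hs y (hAMu _ hau' hy)
    have h8 := ti_one hti hau'.pt' hupt hne' h7 h6
    calc v * w * y = (v * w * y * (v * w)⁻¹ * y⁻¹) * (y * (v * w)) := by group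
      _ = y * (v * w) := by rw [h8, one_mul]
  -- `A_M` centralises `X_u`
  have h5 : AM ≤ centralizer (X u : Set G) := by
    intro y hy
    have e1 : x * y * x⁻¹ = y := by
      have : x * y = y * x := mem_centralizer_iff.1 (hAab hy.1) x hxA
      rw [this]; group
    have h6 := h4 hy
    rw [hXu', ← e1, mem_cent_conj] at h6
    exact h6
  -- `X_u ≤ T X_u'`
  apply hgu
  refine mem_centralizer_iff.2 fun s hs => ?_
  have hgT : g ∈ centralizer (T : Set G) := by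
    have h6 : T ≤ centralizer ({g} : Set G) := by
      refine sup_le (fun t ht => ?_) fun t ht => ?_
      · rw [mem_centralizer_singleton_iff]
        exact mem_centralizer_iff.1 hgM t ht
      · rw [mem_centralizer_singleton_iff]
        exact mem_centralizer_iff.1 (P.QQ_le_cent h0 hgQ) t ht
    exact mem_centralizer_iff.2 fun t ht => mem_centralizer_singleton_iff.1 (h6 ht)
  have hxT : ∀ t ∈ T, x * t * x⁻¹ ∈ T := by
    intro t ht
    have h6 : MulAut.conj x • T = T := by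
      rw [hT, Subgroup.smul_sup, ← MM_conj, ← NN_conj, hxa]
    rw [← h6]
    exact ⟨t, ht, rfl⟩
  obtain ⟨t, ht, c, hc, rfl⟩ := exists_mul_of_comm (V := T) (D := YY Z X a ⊓ centralizer (A : Set G))
    (hTY.trans (hYc.trans (centralizer_le inf_le_left)))
    (h2 ⟨X_le_YY hau hs, mem_centralizer_iff.2 fun y hy => (mem_centralizer_iff.1 (h5 hy) s hs).symm⟩)
  have e1 : x * c = c * x := mem_centralizer_iff.1 hc.2 x hxA
  have e2 : x * (t * c) * x⁻¹ = x * t * x⁻¹ * c := by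
    calc x * (t * c) * x⁻¹ = x * t * x⁻¹ * (x * c) * x⁻¹ := by group
      _ = x * t * x⁻¹ * (c * x) * x⁻¹ := by rw [e1]
      _ = x * t * x⁻¹ * c := by group
  have k1 : t ∈ centralizer ({g} : Set G) := by
    rw [mem_centralizer_singleton_iff]
    exact mem_centralizer_iff.1 hgT t ht
  have k2 : x * t * x⁻¹ ∈ centralizer ({g} : Set G) := by
    rw [mem_centralizer_singleton_iff]
    exact mem_centralizer_iff.1 hgT _ (hxT t ht)
  have k3 : x * t * x⁻¹ * c ∈ centralizer ({g} : Set G) := by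
    rw [mem_centralizer_singleton_iff, ← e2]
    refine mem_centralizer_iff.1 (hgX u' hau' hne') _ ?_
    rw [hXu']
    exact ⟨_, hs, rfl⟩
  have k4 : c ∈ centralizer ({g} : Set G) := by
    have := mul_mem (inv_mem k2) k3
    rwa [inv_mul_cancel_left] at this
  exact mem_centralizer_singleton_iff.1 (mul_mem k1 k4)

end main

/-- **TEXT R5 (4) / TEXT W2 (8), for `X_a = W_a N_a`, two types**: some pair `X_a`, `X_b` at distance `1` or `2` does not
commute. -/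
theorem exists_least {Z U : Fin 2 → Subgroup G} (P : PP Z U) (hab : ∀ i, IsElementaryAbelian 2 (XW Z U (Z i)))
    (hle : ∀ i, XW Z U (Z i) ≤ QQ (Z i)) (hN : NobX Z (XW Z U)) (hNO : NoP Z) (hG : ThmC2 Z (XW Z U)) (hti : TIp Z)
    (hfx : FixN Z) :
    ∃ d a b, d ≤ 1 ∧ Pth Z (d + 1) a b ∧ ¬ XW Z U a ≤ centralizer (XW Z U b : Set G) ∧
      ∀ m ≤ d, ∀ a b, Pth Z m a b → XW Z U a ≤ centralizer (XW Z U b : Set G) := by
  classical
  have F := xf P hab hle
  have hex : ∃ n ≤ 2, ∃ a b, Pth Z n a b ∧ ¬ XW Z U a ≤ centralizer (XW Z U b : Set G) := by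
    by_contra hcon
    push Not at hcon
    have hB := tb_of P F hcon hN hNO hG
    exact false_of_three P F hcon hN hNO hB hti (moves P (hC1 P F hcon) hNO hB) hfx
  obtain ⟨n, ⟨hn2, a, b, hab', hne⟩, hmin⟩ : ∃ n, (n ≤ 2 ∧ ∃ a b, Pth Z n a b ∧
      ¬ XW Z U a ≤ centralizer (XW Z U b : Set G)) ∧
      ∀ m < n, ¬ (m ≤ 2 ∧ ∃ a b, Pth Z m a b ∧ ¬ XW Z U a ≤ centralizer (XW Z U b : Set G)) :=
    ⟨Nat.find hex, Nat.find_spec hex, fun m hm => Nat.find_min hex hm⟩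
  have hn : n ≠ 0 := by
    rintro rfl
    cases hab' with
    | zero h => exact hne (eab_iff.1 (F.eab _ h)).1
  obtain ⟨d, rfl⟩ := Nat.exists_eq_succ_of_ne_zero hn
  refine ⟨d, a, b, by omega, hab', hne, fun m hm a b h => ?_⟩
  by_contra h1
  exact hmin m (by omega) ⟨by omega, a, b, h, h1⟩

end Cfsg.Agent.Omega.OM.PT

end
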