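import Cfsg.Agent.Mrg.Omega.NO3b.NoEmp
import Cfsg.Agent.Mrg.Omega.NO3S.EThree.ExactB
import Cfsg.Agent.ZN.Block
import Cfsg.Agent.Mrg.Omega.OM.KTwo.Cut
import Cfsg.Agent.Mrg.Omega.ML.MinIrr
import Cfsg.Agent.Mrg.Omega.TC.Int
import Cfsg.Agent.Mrg.Omega.TC.Crit
import Cfsg.Agent.Mrg.Omega.OM.KTwo.LemX
import Cfsg.Agent.Mrg.Omega.OM.PG.NoRad
import Cfsg.Agent.Mrg.Omega.TC.Ranks

section


/-!
# EXACTNESS of a critical pair (helper609, TEXT R4 #19278 (1))

`Cr a b N M X Y`: `N ≤ X`, `M ≤ Y` elementary abelian, `X`, `Y` normalise each other, `N` and `M`;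
`[X, C_Y(N)] ≤ a`, `[Y, C_X(M)] ≤ b`, `|a|, |b| ≤ 2`, `a ∩ b = 1`, and (NO) on `N` and `M`.

* `Cr.sup_eq` : `N C_X(M) = N C_X(Y)`;
* `Cr.dich` : `X = N C_X(Y)`, or `a = [x, m]` for some `x ∈ X`, `m ∈ C_M(N)`, and `a ≤ M`;
* `Cr.red` : the reduction, with THEOREM G (if `[X, Y] ≤ N`, then `Y` centralises `N`);
* `CX Z X d a b` : a critical pair of the frame; `CX.cr` : it is a `Cr`; `CX.red` : the reduction;
  `CX.false_of_two` : no pair at distance `2` if `N_a ∩ N_u = 1` for `a ~ u`;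
* `dist_one` : without radical the pair `(Z 0, Z 1)` is critical.
-/

set_option autoImplicit false
set_option linter.unusedSectionVars false

namespace Cfsg.Agent.Omega.OM.PG

open Subgroup Cfsg
open Cfsg.Agent.Omega.NO3b.NoEmp (comm_mem relIndex_le_of_pairing)
open scoped commutatorElement

universe u

variable {G : Type u} [Group G]

/-- The data of a critical pair. -/
structure Cr (a b N M X Y : Subgroup G) : Prop where
  NX : N ≤ X
  MY : M ≤ Y
  Xc : ∀ x ∈ X, ∀ y ∈ X, x * y = y * x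
  Yc : ∀ x ∈ Y, ∀ y ∈ Y, x * y = y * x
  XnY : X ≤ normalizer (Y : Set G)
  YnX : Y ≤ normalizer (X : Set G)
  XnM : X ≤ normalizer (M : Set G)
  YnN : Y ≤ normalizer (N : Set G)
  ca : ⁅X, Y ⊓ centralizer (N : Set G)⁆ ≤ a
  cb : ⁅Y, X ⊓ centralizer (M : Set G)⁆ ≤ b
  /-- `|a| ≤ 2` -/
  a2 : ∀ x ∈ a, ∀ y ∈ a, x ≠ 1 → y ≠ 1 → x = y
  b2 : ∀ x ∈ b, ∀ y ∈ b, x ≠ 1 → y ≠ 1 → x = y
  ab : a ⊓ b = ⊥
  noN : Nat.card Y * Nat.card (N ⊓ centralizer (Y : Set G) : Subgroup G) ≤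
    Nat.card (Y ⊓ centralizer (N : Set G) : Subgroup G) * Nat.card N
  noM : Nat.card X * Nat.card (M ⊓ centralizer (X : Set G) : Subgroup G) ≤
    Nat.card (X ⊓ centralizer (M : Set G) : Subgroup G) * Nat.card M

theorem card_mul_relIndex' {H K : Subgroup G} (h : H ≤ K) : Nat.card H * H.relIndex K = Nat.card K := by
  rw [← relIndex_bot_left (H := H), ← relIndex_bot_left (H := K)]
  exact relIndex_mul_relIndex _ _ _ bot_le h

namespace Cr

theorem symm {a b N M X Y : Subgroup G} (h : Cr a b N M X Y) : Cr b a M N Y X where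
  NX := h.MY
  MY := h.NX
  Xc := h.Yc
  Yc := h.Xc
  XnY := h.YnX
  YnX := h.XnY
  XnM := h.YnN
  YnN := h.XnM
  ca := h.cb
  cb := h.ca
  a2 := h.b2
  b2 := h.a2
  ab := by rw [inf_comm]; exact h.ab
  noN := h.noM
  noM := h.noN

theorem nor_inf_cent {X Y N : Subgroup G} (h1 : X ≤ normalizer (Y : Set G)) (h2 : X ≤ normalizer (N : Set G)) :
    X ≤ normalizer ((Y ⊓ centralizer (N : Set G) : Subgroup G) : Set G) := by
  intro x hx
  rw [mem_normalizer_iff]
  intro y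
  have hc : ∀ x ∈ X, ∀ y, y ∈ Y ⊓ centralizer (N : Set G) → x * y * x⁻¹ ∈ Y ⊓ centralizer (N : Set G) := by
    intro x hx y hy
    refine ⟨(mem_normalizer_iff.1 (h1 hx) y).1 hy.1, mem_centralizer_iff.2 fun n hn => ?_⟩
    have h3 : x⁻¹ * n * x ∈ N := by
      have h4 := (mem_normalizer_iff.1 (inv_mem (h2 hx)) n).1 hn
      rwa [inv_inv] at h4
    have h5 := mem_centralizer_iff.1 hy.2 _ h3
    calc n * (x * y * x⁻¹) = x * ((x⁻¹ * n * x) * y) * x⁻¹ := by group
      _ = x * (y * (x⁻¹ * n * x)) * x⁻¹ := by rw [h5]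
      _ = x * y * x⁻¹ * n := by group
  refine ⟨hc x hx y, fun hy => ?_⟩
  have h3 := hc x⁻¹ (inv_mem hx) _ hy
  have e : x⁻¹ * (x * y * x⁻¹) * x⁻¹⁻¹ = y := by group
  rwa [e] at h3

variable [Finite G] {a b N M X Y : Subgroup G}

/-- `|F| |N E| ≤ |L| |X|` for `F ≤ Y`, `[X, F] ≤ a`, `|a| = 2`. -/
theorem card_le_of_two {F U : Subgroup G} (Fc : ∀ x ∈ F, ∀ y ∈ F, x * y = y * x)
    (Xc : ∀ x ∈ X, ∀ y ∈ X, x * y = y * x) (hXF : X ≤ normalizer (F : Set G)) (hFX : F ≤ normalizer (X : Set G))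
    (ha : ⁅X, F⁆ ≤ a) (a2 : ∀ x ∈ a, ∀ y ∈ a, x ≠ 1 → y ≠ 1 → x = y) (hU : U ≤ X) (hUF : U ≤ centralizer (F : Set G)) :
    Nat.card F * Nat.card U ≤ Nat.card (F ⊓ centralizer (X : Set G) : Subgroup G) * Nat.card X := by
  have hcardX : Nat.card X = (centralizer (F : Set G)).relIndex X *
      Nat.card (X ⊓ centralizer (F : Set G) : Subgroup G) := by
    rw [← Subgroup.inf_relIndex_left, mul_comm]
    exact (card_mul_relIndex' inf_le_left).symm
  have hcardF : Nat.card F = (centralizer (X : Set G)).relIndex F *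
      Nat.card (F ⊓ centralizer (X : Set G) : Subgroup G) := by
    rw [← Subgroup.inf_relIndex_left, mul_comm]
    exact (card_mul_relIndex' inf_le_left).symm
  have hUle : Nat.card U ≤ Nat.card (X ⊓ centralizer (F : Set G) : Subgroup G) :=
    Subgroup.card_le_of_le (le_inf hU hUF)
  have hrel : (centralizer (X : Set G)).relIndex F ≤ (centralizer (F : Set G)).relIndex X := by
    by_cases hc : F ≤ centralizer (X : Set G)
    · have h1 : (centralizer (X : Set G)).relIndex F = 1 := Subgroup.relIndex_eq_one.2 hc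
      rw [h1]
      exact Nat.one_le_iff_ne_zero.2 index_ne_zero_of_finite
    · obtain ⟨f, hf, hfc⟩ := SetLike.not_le_iff_exists.1 hc
      have hex : ∃ x ∈ X, ⁅f, x⁆ ≠ 1 := by
        by_contra hcon
        push Not at hcon
        apply hfc
        rw [mem_centralizer_iff]
        intro x hx
        exact (commutatorElement_eq_one_iff_mul_comm.1 (hcon x hx)).symm
      obtain ⟨x, hx, hfx⟩ := hex
      have hmema : ∀ f ∈ F, ∀ x ∈ X, ⁅f, x⁆ ∈ a := by
        intro f hf x hx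
        have h1 : ⁅x, f⁆ ∈ a := ha (commutator_mem_commutator hx hf)
        rw [← commutatorElement_inv]
        exact inv_mem h1
      have huniq : ∀ g ∈ a, g ≠ 1 → g = ⁅f, x⁆ := fun g hg hg1 => a2 g hg _ (hmema f hf x hx) hg1 hfx
      let _ : CommGroup (F ⊓ X : Subgroup G) := { (inferInstance : Group (F ⊓ X : Subgroup G)) with
        mul_comm := fun a b => Subtype.ext (Fc a a.2.1 b b.2.1) }
      obtain ⟨χ, hχ⟩ := CommGroup.exists_apply_ne_one_of_hasEnoughRootsOfUnity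
        (F ⊓ X : Subgroup G) ℂ (a := (⟨⁅f, x⁆, comm_mem hXF hFX hf hx⟩ : (F ⊓ X : Subgroup G)))
        (fun h0 => hfx (congrArg Subtype.val h0))
      refine relIndex_le_of_pairing Xc Fc hXF hFX χ ?_
      intro v hv hall
      rw [mem_centralizer_iff]
      intro y hy
      by_contra hcon
      have h1 : ⁅v, y⁆ ≠ 1 := fun h => hcon (commutatorElement_eq_one_iff_mul_comm.1 h).symm
      have h2 := huniq _ (hmema v hv y hy) h1
      apply hχ
      have e : (⟨⁅f, x⁆, comm_mem hXF hFX hf hx⟩ : (F ⊓ X : Subgroup G)) = ⟨⁅v, y⁆, comm_mem hXF hFX hv hy⟩ :=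
        Subtype.ext h2.symm
      rw [e, hall y hy]
  calc Nat.card F * Nat.card U ≤ ((centralizer (X : Set G)).relIndex F *
        Nat.card (F ⊓ centralizer (X : Set G) : Subgroup G)) *
        Nat.card (X ⊓ centralizer (F : Set G) : Subgroup G) := by
        rw [← hcardF]; exact Nat.mul_le_mul_left _ hUle
    _ ≤ ((centralizer (F : Set G)).relIndex X * Nat.card (F ⊓ centralizer (X : Set G) : Subgroup G)) *
        Nat.card (X ⊓ centralizer (F : Set G) : Subgroup G) :=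
        Nat.mul_le_mul_right _ (Nat.mul_le_mul_right _ hrel)
    _ = Nat.card (F ⊓ centralizer (X : Set G) : Subgroup G) * Nat.card X := by rw [hcardX]; ring

variable (h : Cr a b N M X Y)
include h

theorem comm_EF : X ⊓ centralizer (M : Set G) ≤ centralizer ((Y ⊓ centralizer (N : Set G) : Subgroup G) : Set G) := by
  intro x hx
  rw [mem_centralizer_iff]
  intro y hy
  have h1 : ⁅x, y⁆ ∈ a := h.ca (commutator_mem_commutator hx.1 hy)
  have h2 : ⁅y, x⁆ ∈ b := h.cb (commutator_mem_commutator hy.1 hx)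
  rw [← commutatorElement_inv] at h2
  have h3 : ⁅x, y⁆ ∈ a ⊓ b := ⟨h1, (Subgroup.inv_mem_iff b).1 h2⟩
  rw [h.ab, mem_bot] at h3
  exact (commutatorElement_eq_one_iff_mul_comm.1 h3).symm

omit h in
theorem card_sup {X N K : Subgroup G} (Xc : ∀ x ∈ X, ∀ y ∈ X, x * y = y * x) (hN : N ≤ X) (hK : K ≤ X) :
    Nat.card N * Nat.card K = Nat.card (N ⊔ K : Subgroup G) * Nat.card (N ⊓ K : Subgroup G) := by
  have h1 : N ≤ normalizer (K : Set G) := by
    refine le_trans (b := centralizer (K : Set G)) ?_ (centralizer_le_normalizer _)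
    intro k hk
    rw [mem_centralizer_iff]
    intro n hn
    exact Xc _ (hK hn) _ (hN hk)
  exact (Cfsg.Agent.ZN.Block.card_sup_mul_card_inf h1).symm

theorem dualX : Nat.card (Y ⊓ centralizer (N : Set G) : Subgroup G) *
    Nat.card (N ⊔ (X ⊓ centralizer (M : Set G)) : Subgroup G) ≤
    Nat.card (Y ⊓ centralizer (X : Set G) : Subgroup G) * Nat.card X := by
  have hY : ∀ x ∈ Y ⊓ centralizer (N : Set G), ∀ y ∈ Y ⊓ centralizer (N : Set G), x * y = y * x :=
    fun x hx y hy => h.Yc x hx.1 y hy.1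
  have h1 := card_le_of_two (F := Y ⊓ centralizer (N : Set G)) (U := N ⊔ (X ⊓ centralizer (M : Set G))) hY h.Xc
    (nor_inf_cent h.XnY (le_trans (b := centralizer (N : Set G))
      (fun x hx => mem_centralizer_iff.2 fun y hy => h.Xc _ (h.NX hy) _ hx) (centralizer_le_normalizer _))) (inf_le_left.trans h.YnX) h.ca h.a2 (sup_le h.NX inf_le_left)
    (sup_le ?_ h.comm_EF)
  · have e : Y ⊓ centralizer (N : Set G) ⊓ centralizer (X : Set G) = Y ⊓ centralizer (X : Set G) := by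
      refine le_antisymm (inf_le_inf_right _ inf_le_left) (le_inf (le_inf inf_le_left ?_) inf_le_right)
      exact inf_le_right.trans (centralizer_le h.NX)
    rwa [e] at h1
  · rw [le_centralizer_iff]
    exact inf_le_right

theorem NK_le : N ⊔ (X ⊓ centralizer (Y : Set G)) ≤ N ⊔ (X ⊓ centralizer (M : Set G)) :=
  sup_le_sup_left (inf_le_inf_left _ (centralizer_le h.MY)) _

/-- `|Y| |K| |N E| ≤ |L| |X| |N K|` -/
theorem chain : Nat.card Y * Nat.card (X ⊓ centralizer (Y : Set G) : Subgroup G) *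
    Nat.card (N ⊔ (X ⊓ centralizer (M : Set G)) : Subgroup G) ≤
    Nat.card (Y ⊓ centralizer (X : Set G) : Subgroup G) * Nat.card X *
      Nat.card (N ⊔ (X ⊓ centralizer (Y : Set G)) : Subgroup G) := by
  have h1 := h.noN
  have h2 := h.dualX
  have h3 := card_sup h.Xc h.NX (inf_le_left : X ⊓ centralizer (Y : Set G) ≤ X)
  have e : N ⊓ (X ⊓ centralizer (Y : Set G)) = N ⊓ centralizer (Y : Set G) := by
    rw [← inf_assoc, inf_eq_left.2 h.NX]
  rw [e] at h3
  have hpos : 0 < Nat.card (N ⊓ centralizer (Y : Set G) : Subgroup G) := Nat.card_pos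
  refine Nat.le_of_mul_le_mul_right ?_ hpos
  calc Nat.card Y * Nat.card (X ⊓ centralizer (Y : Set G) : Subgroup G) *
        Nat.card (N ⊔ (X ⊓ centralizer (M : Set G)) : Subgroup G) *
        Nat.card (N ⊓ centralizer (Y : Set G) : Subgroup G)
      = (Nat.card Y * Nat.card (N ⊓ centralizer (Y : Set G) : Subgroup G)) *
        (Nat.card (X ⊓ centralizer (Y : Set G) : Subgroup G) *
        Nat.card (N ⊔ (X ⊓ centralizer (M : Set G)) : Subgroup G)) := by ring
    _ ≤ (Nat.card (Y ⊓ centralizer (N : Set G) : Subgroup G) * Nat.card N) *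
        (Nat.card (X ⊓ centralizer (Y : Set G) : Subgroup G) *
        Nat.card (N ⊔ (X ⊓ centralizer (M : Set G)) : Subgroup G)) := Nat.mul_le_mul_right _ h1
    _ = (Nat.card (Y ⊓ centralizer (N : Set G) : Subgroup G) *
        Nat.card (N ⊔ (X ⊓ centralizer (M : Set G)) : Subgroup G)) *
        (Nat.card N * Nat.card (X ⊓ centralizer (Y : Set G) : Subgroup G)) := by ring
    _ ≤ (Nat.card (Y ⊓ centralizer (X : Set G) : Subgroup G) * Nat.card X) *
        (Nat.card N * Nat.card (X ⊓ centralizer (Y : Set G) : Subgroup G)) := Nat.mul_le_mul_right _ h2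
    _ = _ := by rw [h3]; ring

/-- `|Y : C_Y(X)| = |X : C_X(Y)|` -/
theorem card_eq : Nat.card Y * Nat.card (X ⊓ centralizer (Y : Set G) : Subgroup G) =
    Nat.card X * Nat.card (Y ⊓ centralizer (X : Set G) : Subgroup G) := by
  have key : ∀ {a b N M X Y : Subgroup G}, Cr a b N M X Y →
      Nat.card Y * Nat.card (X ⊓ centralizer (Y : Set G) : Subgroup G) ≤
      Nat.card X * Nat.card (Y ⊓ centralizer (X : Set G) : Subgroup G) := by
    intro a b N M X Y h
    have h1 := h.chain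
    have h2 : Nat.card (N ⊔ (X ⊓ centralizer (Y : Set G)) : Subgroup G) ≤
        Nat.card (N ⊔ (X ⊓ centralizer (M : Set G)) : Subgroup G) := Subgroup.card_le_of_le h.NK_le
    have hpos : 0 < Nat.card (N ⊔ (X ⊓ centralizer (M : Set G)) : Subgroup G) := Nat.card_pos
    refine Nat.le_of_mul_le_mul_right (h1.trans ?_) hpos
    rw [mul_comm (Nat.card (Y ⊓ centralizer (X : Set G) : Subgroup G)) (Nat.card X)]
    exact Nat.mul_le_mul_left _ h2
  exact le_antisymm (key h) (key h.symm)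

/-- **EXACTNESS.** `N C_X(M) = N C_X(Y)` -/
theorem sup_eq : N ⊔ (X ⊓ centralizer (M : Set G)) = N ⊔ (X ⊓ centralizer (Y : Set G)) := by
  refine (Subgroup.eq_of_le_of_card_ge h.NK_le ?_).symm
  have h1 := h.chain
  rw [h.card_eq, mul_comm (Nat.card X)] at h1
  refine Nat.le_of_mul_le_mul_left h1 ?_
  exact Nat.mul_pos Nat.card_pos Nat.card_pos

/-- **The dichotomy.** `X = N C_X(Y)`, or `a = [x, m]` for some `x ∈ X`, `m ∈ C_M(N)`. -/
theorem dich : X ≤ N ⊔ (X ⊓ centralizer (Y : Set G)) ∨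
    (a ≤ M ∧ ∃ x ∈ X, ∃ m ∈ M ⊓ centralizer (N : Set G), ⁅x, m⁆ ≠ 1 ∧ ∀ g ∈ a, g = 1 ∨ g = ⁅x, m⁆) := by
  by_cases hX : X ≤ N ⊔ (X ⊓ centralizer (Y : Set G))
  · exact Or.inl hX
  right
  -- `C_Y(N)` does not centralise `X`
  have hF : ¬ Y ⊓ centralizer (N : Set G) ≤ centralizer (X : Set G) := by
    intro hF
    apply hX
    have hL : Y ⊓ centralizer (X : Set G) = Y ⊓ centralizer (N : Set G) :=
      le_antisymm (inf_le_inf_left _ (centralizer_le h.NX)) (le_inf inf_le_left hF)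
    -- `|Y| |N ∩ C(Y)| ≤ |L| |N|`
    have h1 := h.noN
    rw [← hL] at h1
    have h3 := card_sup h.Xc h.NX (inf_le_left : X ⊓ centralizer (Y : Set G) ≤ X)
    have e : N ⊓ (X ⊓ centralizer (Y : Set G)) = N ⊓ centralizer (Y : Set G) := by
      rw [← inf_assoc, inf_eq_left.2 h.NX]
    rw [e] at h3
    have h4 := h.card_eq
    have hposn : 0 < Nat.card (N ⊓ centralizer (Y : Set G) : Subgroup G) := Nat.card_pos
    have hposl : 0 < Nat.card (Y ⊓ centralizer (X : Set G) : Subgroup G) := Nat.card_pos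
    have h5 : N ⊔ (X ⊓ centralizer (Y : Set G)) = X := by
      refine Subgroup.eq_of_le_of_card_ge (sup_le h.NX inf_le_left) ?_
      refine Nat.le_of_mul_le_mul_right ?_ (Nat.mul_pos hposl hposn)
      calc Nat.card X * (Nat.card (Y ⊓ centralizer (X : Set G) : Subgroup G) *
            Nat.card (N ⊓ centralizer (Y : Set G) : Subgroup G))
          = (Nat.card Y * Nat.card (N ⊓ centralizer (Y : Set G) : Subgroup G)) *
            Nat.card (X ⊓ centralizer (Y : Set G) : Subgroup G) := by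
            rw [← mul_assoc, ← h4]; ring
        _ ≤ (Nat.card (Y ⊓ centralizer (X : Set G) : Subgroup G) * Nat.card N) *
            Nat.card (X ⊓ centralizer (Y : Set G) : Subgroup G) := Nat.mul_le_mul_right _ h1
        _ = Nat.card (Y ⊓ centralizer (X : Set G) : Subgroup G) *
            (Nat.card N * Nat.card (X ⊓ centralizer (Y : Set G) : Subgroup G)) := by ring
        _ = _ := by rw [h3]; ring
    exact h5.ge
  obtain ⟨f, hf, hfX⟩ := SetLike.not_le_iff_exists.1 hF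
  -- `f = m l`
  have h1 : f ∈ M ⊔ (Y ⊓ centralizer (X : Set G)) := by
    rw [← h.symm.sup_eq]
    exact le_sup_right (a := M) hf
  have hYn : (Y ⊓ centralizer (X : Set G) : Subgroup G) ≤ normalizer (M : Set G) := by
    refine le_trans (b := centralizer (M : Set G)) ?_ (centralizer_le_normalizer _)
    intro k hk
    rw [mem_centralizer_iff]
    intro n hn
    exact h.Yc _ (h.MY hn) _ hk.1
  rw [sup_comm, ← SetLike.mem_coe, Subgroup.coe_mul_of_left_le_normalizer_right _ _ hYn] at h1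
  obtain ⟨l, hl, m, hm, hlm⟩ := h1
  simp only at hlm
  have hm' : m = l⁻¹ * f := by rw [← hlm]; group
  have hmN : m ∈ centralizer (N : Set G) := by
    rw [hm']
    exact mul_mem (inv_mem (centralizer_le h.NX hl.2)) hf.2
  have hmX : m ∉ centralizer (X : Set G) := by
    intro hmX
    apply hfX
    rw [← hlm]
    exact mul_mem hl.2 hmX
  have hex : ∃ x ∈ X, ⁅x, m⁆ ≠ 1 := by
    by_contra hcon
    push Not at hcon
    apply hmX
    rw [mem_centralizer_iff]
    intro x hx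
    exact commutatorElement_eq_one_iff_mul_comm.1 (hcon x hx)
  obtain ⟨x, hx, hxm⟩ := hex
  have hma : ⁅x, m⁆ ∈ a := h.ca (commutator_mem_commutator hx ⟨h.MY hm, hmN⟩)
  have huniq : ∀ g ∈ a, g = 1 ∨ g = ⁅x, m⁆ := by
    intro g hg
    by_cases hg1 : g = 1
    · exact Or.inl hg1
    · exact Or.inr (h.a2 g hg _ hma hg1 hxm)
  have hmM : ⁅x, m⁆ ∈ M := by
    rw [commutatorElement_def]
    exact mul_mem ((mem_normalizer_iff.1 (h.XnM hx) m).1 hm) (inv_mem hm)
  refine ⟨fun g hg => ?_, x, hx, m, ⟨hm, hmN⟩, hxm, huniq⟩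
  rcases huniq g hg with h0 | h0
  · rw [h0]; exact one_mem M
  · rw [h0]; exact hmM

/-- **THE REDUCTION** (TEXT R5 #19750 (3)): with THEOREM G for `X` (a group centralising `X / N` centralises `N`) and
`[X, Y] ≠ 1`. -/
theorem red (hne : ¬ Y ≤ centralizer (X : Set G))
    (hG : (∀ x ∈ X, ∀ y ∈ Y, ⁅x, y⁆ ∈ N) → Y ≤ centralizer (N : Set G)) :
    a ≤ M ∧ ∃ x ∈ X, ∃ m ∈ M ⊓ centralizer (N : Set G), ⁅x, m⁆ ≠ 1 ∧ ∀ g ∈ a, g = 1 ∨ g = ⁅x, m⁆ := by
  rcases h.dich with h1 | h1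
  · exfalso
    have hXn : (X ⊓ centralizer (Y : Set G) : Subgroup G) ≤ normalizer (N : Set G) := by
      refine le_trans (b := centralizer (N : Set G)) ?_ (centralizer_le_normalizer _)
      intro k hk
      rw [mem_centralizer_iff]
      intro n hn
      exact h.Xc _ (h.NX hn) _ hk.1
    have h2 : ∀ x ∈ X, ∃ k ∈ X ⊓ centralizer (Y : Set G), ∃ n ∈ N, x = k * n := by
      intro x hx
      have h3 := h1 hx
      rw [sup_comm, ← SetLike.mem_coe, Subgroup.coe_mul_of_left_le_normalizer_right _ _ hXn] at h3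
      obtain ⟨k, hk, n, hn, hkn⟩ := h3
      exact ⟨k, hk, n, hn, hkn.symm⟩
    have h3 : Y ≤ centralizer (N : Set G) := by
      refine hG fun x hx y hy => ?_
      obtain ⟨k, hk, n, hn, rfl⟩ := h2 x hx
      have h4 : y * k = k * y := mem_centralizer_iff.1 hk.2 y hy
      have h5 : y * n * y⁻¹ ∈ N := (mem_normalizer_iff.1 (h.YnN hy) n).1 hn
      have h6 : k * (y * n⁻¹ * y⁻¹) = (y * n⁻¹ * y⁻¹) * k := by
        refine h.Xc _ hk.1 _ (h.NX ?_)
        exact (mem_normalizer_iff.1 (h.YnN hy) _).1 (inv_mem hn)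
      have e : ⁅k * n, y⁆ = n * (y * n⁻¹ * y⁻¹) := by
        rw [commutatorElement_def]
        have hkn : k * n = n * k := h.Xc _ hk.1 _ (h.NX hn)
        have h7 : k * y * k⁻¹ = y := by rw [← h4]; group
        calc k * n * y * (k * n)⁻¹ * y⁻¹ = n * (k * y * k⁻¹) * n⁻¹ * y⁻¹ := by rw [hkn]; group
          _ = n * (y * n⁻¹ * y⁻¹) := by rw [h7]; group
      rw [e]
      exact mul_mem hn ((mem_normalizer_iff.1 (h.YnN hy) _).1 (inv_mem hn))
    apply hne
    intro y hy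
    rw [mem_centralizer_iff]
    intro x hx
    obtain ⟨k, hk, n, hn, rfl⟩ := h2 x hx
    have h4 : y * k = k * y := mem_centralizer_iff.1 hk.2 y hy
    have h5 : n * y = y * n := mem_centralizer_iff.1 (h3 hy) n hn
    rw [mul_assoc, h5, ← mul_assoc, ← h4, mul_assoc]
  · exact h1

end Cr

/-! ### Critical pairs of the frame -/

open Cfsg.Agent.ZN Cfsg.Agent.Omega.OM.PG.Peel
open Cfsg.Agent.Omega.NO3S.EThree Cfsg.Agent.Omega.NO3S.EThree.ExactA
open Cfsg.Agent.Omega.NoFF.Basic (comm_symm)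
open scoped Pointwise

/-- A critical pair `(a, b)`, at least `X`-distance `d + 1`. -/
structure CX (Z : Fin 2 → Subgroup G) (X : Subgroup G → Subgroup G) (d : ℕ) (a b : Subgroup G) : Prop where
  pth : Pth Z (d + 1) a b
  ne : ¬ X a ≤ centralizer (X b : Set G)
  com : ∀ m ≤ d, ∀ a b : Subgroup G, Pth Z m a b → X a ≤ centralizer (X b : Set G)

namespace CX

variable {Z U : Fin 2 → Subgroup G} {X : Subgroup G → Subgroup G} {d : ℕ} {a b : Subgroup G}

theorem symm (P : PP Z U) (h : CX Z X d a b) : CX Z X d b a :=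
  ⟨P.pth_symm h.pth, fun h1 => h.ne (comm_symm h1), h.com⟩

/-- `X_x ≤ Q_c` at distance less than the critical distance -/
theorem X_le_QQ (P : PP Z U) (F : XF Z X) (h : CX Z X d a b) :
    ∀ m ≤ d, ∀ x c : Subgroup G, Pth Z m x c → X x ≤ QQ c := by
  intro m
  induction m with
  | zero =>
    intro _ x c hx
    cases hx with
    | zero h0 => exact F.XQ _ h0
  | succ m ih =>
    intro hm x c hx
    have h1 := h.com _ hm x c hx
    have hcp := P.pth_pt' hx
    cases hx with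
    | succ h2 h3 =>
      exact P.f3 (P.adj_symm h3) (ih (by omega) _ _ h2) (h1.trans (centralizer_le (F.NX _ hcp)))

theorem nor_X (F : XF Z X) {a : Subgroup G} (ha : IsPt Z a) : HH a ≤ normalizer (X a : Set G) := by
  intro g hg
  have h0 : MulAut.conj g • a = a := Cfsg.Agent.Omega.NOThreeL.Pair.conj_eq_of_mem hg
  refine ChoiceBase.mem_normalizer_iff_cj.2 ?_
  change MulAut.conj g • X a = X a
  rw [← F.conj g a ha, h0]

/-- The ends of the path. -/
theorem ends (P : PP Z U) (F : XF Z X) (h : CX Z X d a b) :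
    ∃ a' b', Adj Z a' a ∧ Adj Z b' b ∧ X a ≤ QQ b' ∧ X b ≤ QQ a' := by
  have hp := h.pth
  have hp' := P.pth_symm h.pth
  cases hp with
  | @succ _ _ b' _ h1 h2 =>
    cases hp' with
    | @succ _ _ a' _ h4 h5 =>
      exact ⟨a', b', h5, h2, h.X_le_QQ P F _ le_rfl _ _ h1, h.X_le_QQ P F _ le_rfl _ _ h4⟩

variable [Finite G]

/-- A critical pair is a `Cr`. -/
theorem cr (P : PP Z U) (F : XF Z X) (hc2 : Nat.card (Z 0) = 2) (hNO : NoP Z) (h : CX Z X d a b) :
    Cr a b (NN Z a) (NN Z b) (X a) (X b) := by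
  obtain ⟨a', b', ha', hb', hXa, hXb⟩ := h.ends P F
  have hap : IsPt Z a := PP.pth_pt h.pth
  have hbp : IsPt Z b := P.pth_pt' h.pth
  have two : ∀ {a : Subgroup G}, IsPt Z a → ∀ x ∈ a, ∀ y ∈ a, x ≠ 1 → y ≠ 1 → x = y := by
    intro a ha x hx y hy hx1 hy1
    obtain ⟨c, -, -, -, hall, -⟩ := pt_two hc2 ha
    rw [(hall x hx).resolve_left hx1, (hall y hy).resolve_left hy1]
  have card : ∀ {N B : Subgroup G}, (centralizer (N : Set G)).relIndex B ≤ (centralizer (B : Set G)).relIndex N →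
      Nat.card B * Nat.card (N ⊓ centralizer (B : Set G) : Subgroup G) ≤
        Nat.card (B ⊓ centralizer (N : Set G) : Subgroup G) * Nat.card N := by
    intro N B h1
    have h2 : Nat.card (B ⊓ centralizer (N : Set G) : Subgroup G) * (centralizer (N : Set G)).relIndex B =
        Nat.card B := by
      rw [← Subgroup.inf_relIndex_left]
      exact card_mul_relIndex' inf_le_left
    have h3 : Nat.card (N ⊓ centralizer (B : Set G) : Subgroup G) * (centralizer (B : Set G)).relIndex N =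
        Nat.card N := by
      rw [← Subgroup.inf_relIndex_left]
      exact card_mul_relIndex' inf_le_left
    calc Nat.card B * Nat.card (N ⊓ centralizer (B : Set G) : Subgroup G)
        = (Nat.card (B ⊓ centralizer (N : Set G) : Subgroup G) *
          Nat.card (N ⊓ centralizer (B : Set G) : Subgroup G)) * (centralizer (N : Set G)).relIndex B := by
          rw [← h2]; ring
      _ ≤ (Nat.card (B ⊓ centralizer (N : Set G) : Subgroup G) *
          Nat.card (N ⊓ centralizer (B : Set G) : Subgroup G)) * (centralizer (B : Set G)).relIndex N :=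
          Nat.mul_le_mul_left _ h1
      _ = Nat.card (B ⊓ centralizer (N : Set G) : Subgroup G) *
          (Nat.card (N ⊓ centralizer (B : Set G) : Subgroup G) * (centralizer (B : Set G)).relIndex N) := by ring
      _ = _ := by rw [h3]
  have hcc : ∀ {a b a' : Subgroup G}, IsPt Z a → Adj Z a' a → X b ≤ QQ a' →
      ⁅X a, X b ⊓ centralizer (NN Z a : Set G)⁆ ≤ a := by
    intro a b a' ha ha' hXb
    rw [commutator_le]
    intro x hx y hy
    have h1 : X b ⊓ centralizer (NN Z a : Set G) ≤ QQ a :=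
      P.f3 (P.adj_symm ha') (inf_le_left.trans hXb) inf_le_right
    exact F.com a ha x hx y (h1 hy)
  exact
  { NX := F.NX a hap
    MY := F.NX b hbp
    Xc := fun x hx y hy => (mem_centralizer_iff.1 ((eab_iff.1 (F.eab a hap)).1 hy) x hx)
    Yc := fun x hx y hy => (mem_centralizer_iff.1 ((eab_iff.1 (F.eab b hbp)).1 hy) x hx)
    XnY := (hXa.trans (P.QQ_le_HH (P.adj_symm hb'))).trans (nor_X F hbp)
    YnX := (hXb.trans (P.QQ_le_HH (P.adj_symm ha'))).trans (nor_X F hap)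
    XnM := (hXa.trans (P.QQ_le_HH (P.adj_symm hb'))).trans (PP.HH_le_NN b)
    YnN := (hXb.trans (P.QQ_le_HH (P.adj_symm ha'))).trans (PP.HH_le_NN a)
    ca := hcc hap ha' hXb
    cb := hcc hbp hb' hXa
    a2 := two hap
    b2 := two hbp
    ab := by
      rw [eq_bot_iff]
      intro x hx
      refine mem_bot.2 (pt_inf hc2 hap hbp ?_ hx.1 hx.2)
      rintro rfl
      exact h.ne (eab_iff.1 (F.eab a hap)).1
    noN := card (hNO a' a ha' (X b) (F.eab b hbp) hXb)
    noM := card (hNO b' b hb' (X a) (F.eab a hap) hXa) }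

/-- **THE REDUCTION** (TEXT R5 #19750 (3)). -/
theorem red (P : PP Z U) (F : XF Z X) (hc2 : Nat.card (Z 0) = 2) (hNO : NoP Z) (hG : ThmG Z X)
    (h : CX Z X d a b) : a ≤ NN Z b ∧ ∃ x ∈ X a, ∃ m ∈ NN Z b ⊓ centralizer (NN Z a : Set G),
      ⁅x, m⁆ ≠ 1 ∧ ∀ g ∈ a, g = 1 ∨ g = ⁅x, m⁆ := by
  obtain ⟨a', b', ha', hb', hXa, hXb⟩ := h.ends P F
  refine (h.cr P F hc2 hNO).red (fun h1 => h.ne (comm_symm h1)) fun h1 y hy => ?_
  refine hG a (PP.pth_pt h.pth) y (P.QQ_le_HH (P.adj_symm ha') (hXb hy)) fun x hx => ?_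
  exact h1 x hx y hy

/-- **R4 (4)**: `X`-distance `2` is impossible without radical. -/
theorem false_of_two (P : PP Z U) (F : XF Z X) (hc2 : Nat.card (Z 0) = 2) (hNO : NoP Z) (hG : ThmG Z X)
    (hdis : ∀ a u : Subgroup G, Adj Z a u → NN Z a ⊓ NN Z u = ⊥) (h : CX Z X 1 a b) : False := by
  have h1 := (h.red P F hc2 hNO hG).1
  have h2 := h.pth
  have hap : IsPt Z a := PP.pth_pt h2
  cases h2 with
  | @succ _ _ u _ h3 h4 =>
    cases h3 with
    | @succ _ _ v _ h5 h6 =>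
      cases h5 with
      | zero h7 =>
        have h8 : a ≤ NN Z u ⊓ NN Z b := le_inf (P.adj_symm h6).le_NN h1
        rw [hdis u b h4] at h8
        obtain ⟨c, hc, hc1, -⟩ := pt_two hc2 hap
        exact hc1 (mem_bot.1 (h8 hc))

end CX

/-- **(E), no radical: `[X_1, X_2] ≠ 1`** (TEXT R4 #19278 (4), TEXT R5 #19750 (3), (4)), with the outcome of
EXACTNESS. -/
theorem dist_one [Finite G] {Z U : Fin 2 → Subgroup G} (P : PP Z U) (hab : IsElementaryAbelian 2 (XW Z U (Z 0)))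
    (hle : XW Z U (Z 0) ≤ QQ (Z 0)) (hc2 : Nat.card (Z 0) = 2) (hNO : NoP Z) (hG : ThmG Z (XW Z U))
    (hdis : NN Z (Z 0) ⊓ NN Z (Z 1) = ⊥) : CX Z (XW Z U) 0 (Z 0) (Z 1) := by
  have F := xf P hab hle
  obtain ⟨d, a, b, hd, hp, hne, hcom⟩ := far P hab hle hc2 hNO hG
  have hdis' : ∀ a u : Subgroup G, Adj Z a u → NN Z a ⊓ NN Z u = ⊥ := by
    rintro _ _ ⟨k, rfl, rfl⟩
    rw [NN_conj, NN_conj, ← Subgroup.smul_inf, hdis, Subgroup.smul_bot]
  have h : CX Z (XW Z U) d a b := ⟨hp, hne, hcom⟩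
  have hd' : d = 0 ∨ d = 1 := by omega
  rcases hd' with rfl | rfl
  · cases hp with
    | @succ _ _ u _ h1 h2 =>
      cases h1 with
      | zero h3 =>
        obtain ⟨k, rfl, rfl⟩ := h2
        refine ⟨PP.pth_one ⟨1, by rw [map_one, one_smul], by rw [map_one, one_smul]⟩, fun h4 => hne ?_, hcom⟩
        rw [XW_conj, XW_conj]
        exact Cfsg.Agent.Omega.NoFF.Basic.conj_le_centralizer h4
  · exact (h.false_of_two P F hc2 hNO hG hdis').elim

/-- The same, literally: `[X_1, X_2] ≠ 1`, and some `x ∈ X_1`, `m ∈ C_{N_2}(N_1)` with `Z_1 = ⟨[x, m]⟩`. -/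
theorem dist_one_red [Finite G] {Z U : Fin 2 → Subgroup G} (P : PP Z U)
    (hab : IsElementaryAbelian 2 (XW Z U (Z 0)))
    (hle : XW Z U (Z 0) ≤ QQ (Z 0)) (hc2 : Nat.card (Z 0) = 2) (hNO : NoP Z) (hG : ThmG Z (XW Z U))
    (hdis : NN Z (Z 0) ⊓ NN Z (Z 1) = ⊥) :
    ∃ x ∈ XW Z U (Z 0), ∃ m ∈ NN Z (Z 1) ⊓ centralizer (NN Z (Z 0) : Set G),
      ⁅x, m⁆ ≠ 1 ∧ ∀ g ∈ Z 0, g = 1 ∨ g = ⁅x, m⁆ :=
  ((dist_one P hab hle hc2 hNO hG hdis).red P (xf P hab hle) hc2 hNO hG).2

end Cfsg.Agent.Omega.OM.PG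

end

section


/-!
# CARD #18791, variant (MT): the swap frame `PG.PP` over `TC.Fr`

`Sw V v s` : `s` exchanges `v 0`, `v 1` and `V 0`, `V 1`.  Points are the conjugates of `ZZ v i = ⟨v i⟩`.

* `Fr.pp` : `PG.PP (ZZ v) V`; `Fr.HH_eq`, `Fr.QQ_eq`, `Fr.NN_eq`, `Fr.XW_eq` : `N_G(⟨v i⟩) = C_i`, `Q`, `N_i`,
  `X_i = N_i W_i`;
* `Fr.XW_le`, `Fr.XW_eab`, `Fr.card_ZZ`; `Fr.xf` : `Peel.XF`;
* `Fr.no_pp` : `(NO)` for `Q_j` on `N_i` (`i ≠ j`), from `ML.Final.MLK`, no swap; `Fr.noP` : `NoP (ZZ v)`;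
* `Fr.far`, `Fr.red` : `Peel.far`, `PG.CX.red` over `Fr`.
-/

set_option autoImplicit false
set_option linter.unusedSectionVars false

namespace Cfsg.Agent.Omega.TC

open Subgroup Cfsg Cfsg.Agent.ZN Cfsg.Agent.Omega.MinPar
open Cfsg.Agent.Omega.OM.KTwo (CC QQ WU NU EU FF ne_add_one eq_add_one add_one_add_one le_normalizer_V le_V)
open Cfsg.Agent.Omega.NoFF.Basic (conj_conj mem_conj conj_le_iff conj_le_centralizer comm_symm comm_mono
  Z_le_V V_le conj_V_mul)
open Cfsg.Agent.Omega.NOThreeL.Pair (conj_eq_of_mem conj_le_normalizer)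
open Cfsg.Agent.ZN.ChoiceSit (Syl exists_syl syl_conj o2_le_syl syl_not_dvd)
open Cfsg.Agent.ZN.ChoiceBase (mem_normalizer_iff_cj cj_mono cj_eq_of_mem_normalizer cj_centralizer)
open Cfsg.Agent.Omega.NO3S.EThree.ExactA (NoP eab_iff)
open Cfsg.Agent.Omega.OM
open scoped Pointwise commutatorElement

universe u

variable {G : Type u} [Group G]

/-- `⟨v i⟩` -/
def ZZ (v : Fin 2 → G) (i : Fin 2) : Subgroup G := zpowers (v i)

/-- `s` exchanges the two sides. -/
structure Sw (V : Fin 2 → Subgroup G) (v : Fin 2 → G) (s : G) : Prop where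
  v01 : s * v 0 * s⁻¹ = v 1
  v10 : s * v 1 * s⁻¹ = v 0
  V01 : MulAut.conj s • V 0 = V 1
  V10 : MulAut.conj s • V 1 = V 0

theorem conj_ZZ {v : Fin 2 → G} {i j : Fin 2} {g : G} (h : g * v i * g⁻¹ = v j) :
    MulAut.conj g • ZZ v i = ZZ v j := by
  unfold ZZ
  rw [← h]
  exact MonoidHom.map_zpowers (MulAut.conj g).toMonoidHom (v i)

theorem Sw.swap {V : Fin 2 → Subgroup G} {v : Fin 2 → G} {s : G} (w : Sw V v s) :
    ∃ s : G, MulAut.conj s • ZZ v 0 = ZZ v 1 ∧ MulAut.conj s • ZZ v 1 = ZZ v 0 ∧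
      MulAut.conj s • V 0 = V 1 ∧ MulAut.conj s • V 1 = V 0 :=
  ⟨s, conj_ZZ w.v01, conj_ZZ w.v10, w.V01, w.V10⟩

/-- `s` moves the side `i` to the side `j` -/
theorem Sw.side {V : Fin 2 → Subgroup G} {v : Fin 2 → G} {s : G} (w : Sw V v s) {i j : Fin 2} (hij : i ≠ j) :
    s * v i * s⁻¹ = v j ∧ s * v j * s⁻¹ = v i ∧ MulAut.conj s • V i = V j ∧ MulAut.conj s • V j = V i := by
  have h0 : i = 0 ∧ j = 1 ∨ i = 1 ∧ j = 0 := by revert hij; revert i j; decide
  rcases h0 with ⟨rfl, rfl⟩ | ⟨rfl, rfl⟩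
  · exact ⟨w.v01, w.v10, w.V01, w.V10⟩
  · exact ⟨w.v10, w.v01, w.V10, w.V01⟩

namespace Fr

variable [Finite G] {T : Subgroup G} {V P : Fin 2 → Subgroup G} {v : Fin 2 → G} (D : Fr T V P v)

include D

theorem mem_ZZ {i : Fin 2} {x : G} : x ∈ ZZ v i ↔ x = 1 ∨ x = v i := by
  constructor
  · intro hx
    obtain ⟨n, rfl⟩ := mem_zpowers_iff.1 hx
    rcases Int.even_or_odd n with ⟨k, rfl⟩ | ⟨k, rfl⟩
    · left
      rw [← two_mul, zpow_mul, zpow_ofNat, pow_two, D.v_sq, one_zpow]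
    · right
      rw [zpow_add, zpow_one, zpow_mul, zpow_ofNat, pow_two, D.v_sq, one_zpow, one_mul]
  · rintro (rfl | rfl)
    · exact one_mem _
    · exact mem_zpowers _

theorem card_ZZ (i : Fin 2) : Nat.card (ZZ v i) = 2 := by
  unfold ZZ
  rw [Nat.card_zpowers]
  exact orderOf_eq_prime (D.v_sq' i) (D.ne i)

theorem ZZ_le_V (i : Fin 2) : ZZ v i ≤ V i := zpowers_le.2 (D.mem i)

theorem HH_eq (i : Fin 2) : PG.HH (ZZ v i) = CC v i := by
  apply le_antisymm
  · intro g hg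
    rw [mem_centralizer_singleton_iff]
    have h1 : g * v i * g⁻¹ ∈ ZZ v i := (mem_normalizer_iff.1 hg _).1 (mem_zpowers _)
    rcases D.mem_ZZ.1 h1 with h | h
    · exact absurd (conj_eq_one_iff.1 h) (D.ne i)
    · calc g * v i = g * v i * g⁻¹ * g := by group
        _ = v i * g := by rw [h]
  · refine le_trans ?_ (centralizer_le_normalizer _)
    intro g hg
    rw [mem_centralizer_singleton_iff] at hg
    refine mem_centralizer_iff.2 fun x hx => ?_
    rcases D.mem_ZZ.1 hx with rfl | rfl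
    · rw [one_mul, mul_one]
    · exact hg.symm

theorem QQ_eq (i : Fin 2) : PG.QQ (ZZ v i) = QQ v i := by
  unfold PG.QQ QQ
  rw [D.HH_eq]

theorem mem_CC_iff {i : Fin 2} {k : G} : k ∈ CC v i ↔ MulAut.conj k • ZZ v i = ZZ v i := by
  rw [← D.HH_eq i]
  exact mem_normalizer_iff_cj

theorem exists_tr {i j : Fin 2} (hij : i ≠ j) {x : G} (hx : x ∈ V i) (hx1 : x ≠ 1) :
    ∃ l ∈ CC v j, l ∈ centralizer (V j : Set G) ∧ l ∈ P i ∧ l * v i * l⁻¹ = x := by
  obtain ⟨l, hl, h1, h2⟩ := D.tr hij hx hx1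
  exact ⟨l, D.PC i j hij hl, h1, hl, h2⟩

/-- `conj s • N_i = N_j` -/
theorem conj_NU {s : G} (w : Sw V v s) {i j : Fin 2} (hij : i ≠ j) : MulAut.conj s • NU V v i = NU V v j := by
  have key : ∀ {s : G}, Sw V v s → ∀ {i j : Fin 2}, i ≠ j → MulAut.conj s • NU V v i ≤ NU V v j := by
    intro s w i j hij
    obtain ⟨h1, h2, h3, h4⟩ := w.side hij
    have ei : i + 1 = j := (eq_add_one hij).symm
    have ej : j + 1 = i := (eq_add_one hij.symm).symm
    unfold NU
    rw [ei, ej]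
    refine NoFF.Basic.conj_V_le fun p hp => ?_
    have e : s * p = (s * p * s⁻¹) * s := by group
    rw [e, ← conj_conj, h4]
    refine Z_le_V ?_
    rw [mem_centralizer_singleton_iff] at hp ⊢
    rw [← h1]
    calc s * p * s⁻¹ * (s * v i * s⁻¹) = s * (p * v i) * s⁻¹ := by group
      _ = s * (v i * p) * s⁻¹ := by rw [hp]
      _ = s * v i * s⁻¹ * (s * p * s⁻¹) := by group
  apply le_antisymm (key w hij)
  have w' : Sw V v s⁻¹ := by
    refine ⟨?_, ?_, ?_, ?_⟩
    · rw [← w.v10]; group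
    · rw [← w.v01]; group
    · rw [← w.V10, conj_conj, inv_mul_cancel, map_one, one_smul]
    · rw [← w.V01, conj_conj, inv_mul_cancel, map_one, one_smul]
  have h1 := key w' hij.symm
  have h2 := (conj_le_iff (g := s)).2 h1
  rwa [conj_conj, mul_inv_cancel, map_one, one_smul] at h2

/-- the neighbours of `⟨v i⟩`: `⟨v_j ^ k⟩`, `k ∈ C_i` -/
theorem adj_iff {s : G} (w : Sw V v s) {i j : Fin 2} (hij : i ≠ j) {u : Subgroup G} :
    PG.Adj (ZZ v) (ZZ v i) u ↔ ∃ k ∈ CC v i, u = MulAut.conj k • ZZ v j := by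
  have h0 : i = 0 ∧ j = 1 ∨ i = 1 ∧ j = 0 := by revert hij; revert i j; decide
  rcases h0 with ⟨rfl, rfl⟩ | ⟨rfl, rfl⟩
  · constructor
    · rintro ⟨k, h1, rfl⟩
      exact ⟨k, D.mem_CC_iff.2 h1.symm, rfl⟩
    · rintro ⟨k, h1, rfl⟩
      exact ⟨k, (D.mem_CC_iff.1 h1).symm, rfl⟩
  · constructor
    · rintro ⟨k, h1, rfl⟩
      refine ⟨k * s, D.mem_CC_iff.2 ?_, ?_⟩
      · rw [← conj_conj, conj_ZZ w.v10]
        exact h1.symm
      · rw [← conj_conj, conj_ZZ w.v01]
    · rintro ⟨k, h1, rfl⟩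
      refine ⟨k * s, ?_, ?_⟩
      · rw [← conj_conj, conj_ZZ w.v01]
        exact (D.mem_CC_iff.1 h1).symm
      · rw [← conj_conj, conj_ZZ w.v10]

theorem NN_eq {s : G} (w : Sw V v s) (i : Fin 2) : PG.NN (ZZ v) (ZZ v i) = NU V v i := by
  have hij := ne_add_one i
  apply le_antisymm
  · refine sSup_le fun u hu => ?_
    obtain ⟨k, hk, rfl⟩ := (D.adj_iff w hij).1 hu
    exact (conj_le_iff.2 (D.ZZ_le_V (i + 1))).trans (Z_le_V hk)
  · refine V_le fun p hp => ?_
    have h1 : V (i + 1) ≤ PG.NN (ZZ v) (ZZ v i) := by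
      intro x hx
      by_cases hx1 : x = 1
      · rw [hx1]; exact one_mem _
      obtain ⟨l, hl, -, -, e⟩ := D.exists_tr hij.symm hx hx1
      have h2 : PG.Adj (ZZ v) (ZZ v i) (MulAut.conj l • ZZ v (i + 1)) := (D.adj_iff w hij).2 ⟨l, hl, rfl⟩
      refine h2.le_NN ?_
      rw [mem_conj, ← e]
      have e2 : l⁻¹ * (l * v (i + 1) * l⁻¹) * l = v (i + 1) := by group
      rw [e2]
      exact mem_zpowers _
    have h2 := conj_le_iff (g := p) |>.2 h1
    rwa [← PG.NN_conj, D.mem_CC_iff.1 hp] at h2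

theorem ln_iff (i : Fin 2) {l : Subgroup G} (hi : i = 0) :
    PG.LnOn (ZZ v) V (ZZ v i) l ↔ ∃ k ∈ CC v i, l = MulAut.conj k • V i := by
  subst hi
  constructor
  · rintro ⟨k, h1, rfl⟩
    exact ⟨k, D.mem_CC_iff.2 h1.symm, rfl⟩
  · rintro ⟨k, h1, rfl⟩
    exact ⟨k, (D.mem_CC_iff.1 h1).symm, rfl⟩

theorem XW_eq {s : G} (w : Sw V v s) : PG.Peel.XW (ZZ v) V (ZZ v 0) = NU V v 0 ⊔ WU V v 0 := by
  unfold PG.Peel.XW
  rw [D.NN_eq w]
  congr 1
  apply le_antisymm
  · refine iSup_le ?_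
    rintro ⟨l, hl⟩
    obtain ⟨k, hk, rfl⟩ := (D.ln_iff 0 rfl).1 hl
    exact Z_le_V hk
  · refine V_le fun p hp => ?_
    exact le_iSup (fun l : {l : Subgroup G // PG.LnOn (ZZ v) V (ZZ v 0) l} => (l : Subgroup G))
      ⟨_, (D.ln_iff 0 rfl).2 ⟨p, hp, rfl⟩⟩

/-- **The swap frame.** -/
theorem pp {s : G} (w : Sw V v s) : PG.PP (ZZ v) V where
  swap := w.swap
  ZU := D.ZZ_le_V 0
  sq := fun x hx => D.sqV 0 x (D.ZZ_le_V 0 hx)
  ne := fun e => D.ne 0 (by
    have h1 : v 0 ∈ ZZ v 0 := mem_zpowers _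
    rwa [e, mem_bot] at h1)
  tr := by
    intro k hk
    have hx : k * v 0 * k⁻¹ ∈ V 0 := hk ⟨v 0, mem_zpowers _, rfl⟩
    obtain ⟨l, hl, hc, hP, e⟩ := D.exists_tr (i := 0) (j := 1) (by decide) hx (fun e => D.ne 0 (conj_eq_one_iff.1 e))
    refine ⟨l, ?_, D.mem_CC_iff.1 hl, ?_, ?_⟩
    · have h1 : (k⁻¹ * l) ∈ CC v 0 := by
        rw [mem_centralizer_singleton_iff]
        calc k⁻¹ * l * v 0 = k⁻¹ * (l * v 0 * l⁻¹) * l := by group
          _ = k⁻¹ * (k * v 0 * k⁻¹) * l := by rw [e]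
          _ = v 0 * (k⁻¹ * l) := by group
      have h2 := D.mem_CC_iff.1 h1
      have h3 := congrArg (fun X => MulAut.conj k • X) h2
      simp only [conj_conj, mul_inv_cancel_left] at h3
      exact h3
    · exact conj_eq_of_mem (D.PN 0 0 hP)
    · exact conj_eq_of_mem (D.PN 0 1 hP)
  N_le_Q := by
    rw [D.NN_eq w, D.QQ_eq]
    exact D.N_le_Q 0
  Q_le_cent := by
    rw [D.NN_eq w, D.QQ_eq]
    exact D.Q_le_cent_N 0
  UQ := by
    intro x hx y hy
    rw [D.QQ_eq] at hy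
    exact D.comm_VQ 0 hx (D.Q_le_T 0 hy)
  nonLoc := by
    rw [D.HH_eq, D.HH_eq]
    exact D.nonloc

theorem XW_le {s : G} (w : Sw V v s) : PG.Peel.XW (ZZ v) V (ZZ v 0) ≤ PG.QQ (ZZ v 0) := by
  rw [D.XW_eq w, D.QQ_eq]
  exact sup_le (D.N_le_Q 0) (D.W_le_Q 0)

theorem XW_eab {s : G} (w : Sw V v s) : IsElementaryAbelian 2 (PG.Peel.XW (ZZ v) V (ZZ v 0)) := by
  rw [eab_iff, D.XW_eq w, sup_comm]
  exact ⟨D.WN_comm 0, D.WN_sq 0⟩

theorem xf {s : G} (w : Sw V v s) : PG.Peel.XF (ZZ v) (PG.Peel.XW (ZZ v) V) :=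
  PG.Peel.xf (D.pp w) (D.XW_eab w) (D.XW_le w)

theorem CC_ne_top (i : Fin 2) : CC v i ≠ ⊤ := by
  intro e
  have h2 : IsPGroup 2 (ZZ v i) := D.T_isPGroup.to_le (zpowers_le.2 (D.v_mem_T i))
  have h3 : ∀ j, CC v j ≤ normalizer (ZZ v i : Set G) := fun j => by
    rw [show normalizer (ZZ v i : Set G) = CC v i from D.HH_eq i, e]
    exact le_top
  have h4 := D.nonloc (ZZ v i) h2 (h3 0) (h3 1)
  have h5 : v i ∈ ZZ v i := mem_zpowers _
  rw [h4, mem_bot] at h5
  exact D.ne i h5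

/-- **`(NO)`** for `B ≤ Q_j` on `N_i`, `i ≠ j` (no swap). -/
theorem no_pp (hML : ML.Final.MLK.{u, u}) (hK : IsKProper G) {i j : Fin 2} (hij : i ≠ j) {B : Subgroup G}
    (hB : IsElementaryAbelian 2 B) (hBQ : B ≤ QQ v j) :
    (centralizer (NU V v i : Set G)).relIndex B ≤ (centralizer (B : Set G)).relIndex (NU V v i) := by
  have ej : i + 1 = j := (eq_add_one hij).symm
  have hbot : normalizer ((⊥ : Subgroup G) : Set G) = ⊤ := normalizer_eq_top _
  have hQT : QQ v j ≤ T := D.Q_le_T j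
  have hmem : v j ∈ NU V v i := ej ▸ D.mem_N i
  have key := hML.grp (hK _ (D.CC_ne_top i))
    (C := CC v i) (W := NU V v i) (Y := ⊥) (T := T) (Q := QQ v j) (A := B) (w := v j)
    { nW := D.C_le_N_N i
      nY := by rw [hbot]; exact le_top
      YW := bot_le
      WY := by rw [hbot]; exact le_top
      sq := fun x hx => by rw [← pow_two, D.N_sq i x hx]; exact one_mem _
      mem := hmem
      gen := by
        intro Y hzY _ hCY
        refine V_le fun p hp => ?_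
        have h1 : V (i + 1) ≤ Y := by
          rw [ej]
          intro x hx
          by_cases hx1 : x = 1
          · rw [hx1]; exact one_mem _
          obtain ⟨l, hl, -, -, e⟩ := D.exists_tr hij.symm hx hx1
          rw [← e]
          exact (mem_normalizer_iff.1 (hCY hl) _).1 hzY
        have h4 := cj_mono p h1
        rwa [cj_eq_of_mem_normalizer (hCY hp)] at h4
      TC := D.T_le_C i
      two := D.T_isPGroup
      odd := syl_not_dvd (D.syl i)
      fixT := fun t ht => by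
        rw [D.cen j ht, mul_inv_cancel]
        exact one_mem _
      QC := hQT.trans (D.T_le_C i)
      Q2 := D.T_isPGroup.to_le hQT
      fixQ := fun q hq => by
        rw [D.cen j (hQT hq), mul_inv_cancel]
        exact one_mem _
      nrmQ := fun g _ hg q hq => by
        have h1 : g * v j * g⁻¹ = v j := mul_inv_eq_one.1 (mem_bot.1 hg)
        have h2 : g ∈ CC v j := by
          rw [mem_centralizer_singleton_iff]
          calc g * v j = g * v j * g⁻¹ * g := by group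
            _ = v j * g := by rw [h1]
        exact (mem_normalizer_iff.1 (MinSimple.VModule.le_normalizer_o2 _ h2) q).1 hq
      AQ := hBQ
      Asq := fun a ha x hx => by
        have h1 : a ^ 2 = 1 := hB.2 a ha
        have e : a * (a * x * a⁻¹) * a⁻¹ * x⁻¹ = (a ^ 2) * x * (a ^ 2)⁻¹ * x⁻¹ := by simp [pow_two, mul_assoc]
        rw [e, h1]
        simp }
    (KA := B ⊓ centralizer (NU V v i : Set G)) (CW := NU V v i ⊓ centralizer (B : Set G))
    (fun a => by
      rw [mem_inf, mem_centralizer_iff]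
      refine and_congr_right fun _ => forall₂_congr fun x _ => ?_
      rw [mem_bot, mul_inv_eq_one, mul_inv_eq_iff_eq_mul]
      exact eq_comm)
    (fun x => by
      rw [mem_inf, mem_centralizer_iff]
      refine and_congr_right fun _ => forall₂_congr fun a _ => ?_
      rw [mem_bot, mul_inv_eq_one, mul_inv_eq_iff_eq_mul])
  rwa [inf_relIndex_left, inf_relIndex_left] at key

/-- **`(NO)` for the swap frame.** -/
theorem noP (hML : ML.Final.MLK.{u, u}) (hK : IsKProper G) {s : G} (w : Sw V v s) : NoP (ZZ v) := by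
  rintro _ _ ⟨k, rfl, rfl⟩ B hB hBQ
  obtain ⟨B₀, rfl⟩ : ∃ B₀ : Subgroup G, B = MulAut.conj k • B₀ := ⟨MulAut.conj k⁻¹ • B, by
    rw [PG.conj_inv_conj]⟩
  have hB0 : IsElementaryAbelian 2 B₀ := by
    have h1 := PG.Peel.eab_conj hB k⁻¹
    rwa [PG.inv_conj_conj] at h1
  have hBQ0 : B₀ ≤ QQ v 0 := by
    rw [PG.QQ_conj] at hBQ
    rw [← D.QQ_eq]
    exact conj_le_iff.1 hBQ
  have key := D.no_pp hML hK (i := 1) (j := 0) (by decide) hB0 hBQ0
  rw [PG.NN_conj, D.NN_eq w]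
  have e1 : centralizer ((MulAut.conj k • NU V v 1 : Subgroup G) : Set G) =
      MulAut.conj k • centralizer (NU V v 1 : Set G) := (cj_centralizer k _).symm
  have e2 : centralizer ((MulAut.conj k • B₀ : Subgroup G) : Set G) = MulAut.conj k • centralizer (B₀ : Set G) :=
    (cj_centralizer k _).symm
  rw [e1, e2, relIndex_pointwise_smul, relIndex_pointwise_smul]
  exact key

/-- **`Peel.far` over `Fr`.** -/
theorem far (hML : ML.Final.MLK.{u, u}) (hK : IsKProper G) {s : G} (w : Sw V v s)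
    (hG : PG.Peel.ThmG (ZZ v) (PG.Peel.XW (ZZ v) V)) :
    ∃ d a b, d ≤ 1 ∧ PG.CX (ZZ v) (PG.Peel.XW (ZZ v) V) d a b := by
  obtain ⟨d, a, b, hd, h1, h2, h3⟩ := PG.Peel.far (D.pp w) (D.XW_eab w) (D.XW_le w) (D.card_ZZ 0)
    (D.noP hML hK w) hG
  exact ⟨d, a, b, hd, h1, h2, h3⟩

/-- **The reduction** for every critical pair. -/
theorem red (hML : ML.Final.MLK.{u, u}) (hK : IsKProper G) {s : G} (w : Sw V v s)
    (hG : PG.Peel.ThmG (ZZ v) (PG.Peel.XW (ZZ v) V)) {d : ℕ} {a b : Subgroup G}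
    (hc : PG.CX (ZZ v) (PG.Peel.XW (ZZ v) V) d a b) :
    a ≤ PG.NN (ZZ v) b ∧ ∃ x ∈ PG.Peel.XW (ZZ v) V a,
      ∃ y ∈ PG.NN (ZZ v) b ⊓ centralizer (PG.NN (ZZ v) a : Set G), ⁅x, y⁆ ≠ 1 ∧ ∀ g ∈ a, g = 1 ∨ g = ⁅x, y⁆ :=
  hc.red (D.pp w) (D.xf w) (D.card_ZZ 0) (D.noP hML hK w) hG

/-- **Distance one**: `[X_0, X_1] ≠ 1` and the outcome of the reduction, if `N_0 ∩ N_1 = 1`. -/
theorem dist_one (hML : ML.Final.MLK.{u, u}) (hK : IsKProper G) {s : G} (w : Sw V v s)
    (hG : PG.Peel.ThmG (ZZ v) (PG.Peel.XW (ZZ v) V)) (hdis : NU V v 0 ⊓ NU V v 1 = ⊥) :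
    PG.CX (ZZ v) (PG.Peel.XW (ZZ v) V) 0 (ZZ v 0) (ZZ v 1) :=
  PG.dist_one (D.pp w) (D.XW_eab w) (D.XW_le w) (D.card_ZZ 0) (D.noP hML hK w) hG
    (by rw [D.NN_eq w, D.NN_eq w]; exact hdis)

end Fr

end Cfsg.Agent.Omega.TC

end

section


/-!
# CARD #18791: `(NO)` over `TC.Fr` from `ML.Final.MLK`

No swap.
* `Fr.stab` : `g ∈ C_i`, `[v j, g] ∈ ⟨v i⟩` implies `g ∈ D` (`v_0 v_1` is not conjugate to `v j` in `C_i`);
* `Fr.faithful` : the elements of `C_i` which centralise `N_i ⟨v i⟩ / ⟨v i⟩` centralise `N_i`;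
* `Fr.noD : NoD T V v`, `Fr.noQ : NoQ T V v` (helper15's `Int.lean`);
* `Sw.of_swap` : `Swap T V v` gives `Sw V v s`.
-/

set_option autoImplicit false
set_option linter.unusedSectionVars false

namespace Cfsg.Agent.Omega.TC

open Subgroup Cfsg Cfsg.Agent.ZN Cfsg.Agent.Omega.MinPar
open Cfsg.Agent.Omega.OM.KTwo (CC QQ WU NU EU FF ne_add_one eq_add_one add_one_add_one le_normalizer_V le_V)
open Cfsg.Agent.Omega.NoFF.Basic (conj_conj mem_conj conj_le_iff conj_le_centralizer comm_symm comm_mono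
  Z_le_V V_le conj_V_mul)
open Cfsg.Agent.ZN.ChoiceSit (Syl exists_syl syl_conj o2_le_syl syl_not_dvd)
open Cfsg.Agent.ZN.ChoiceBase (mem_normalizer_iff_cj cj_mono cj_eq_of_mem_normalizer cj_centralizer)
open Cfsg.Agent.Omega.NO3S.EThree.ExactA (NoP eab_iff)
open Cfsg.Agent.Omega.OM
open scoped Pointwise commutatorElement

universe u

variable {G : Type u} [Group G]

theorem Sw.of_swap {T : Subgroup G} {V : Fin 2 → Subgroup G} {v : Fin 2 → G} (h : Swap T V v) :
    ∃ s, Sw V v s := by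
  obtain ⟨s, -, hs⟩ := h
  exact ⟨s, (hs 0).2, (hs 1).2, (hs 0).1, (hs 1).1⟩

namespace Fr

variable [Finite G] {T : Subgroup G} {V P : Fin 2 → Subgroup G} {v : Fin 2 → G} (D : Fr T V P v)

include D

theorem mem_zp' (i : Fin 2) {x : G} : x ∈ zpowers (v i) ↔ x = 1 ∨ x = v i := D.mem_ZZ

/-- `v i v j` is not conjugate to `v j` in `C_i`. -/
theorem stab {i j : Fin 2} (hij : i ≠ j) {g : G} (hg : g ∈ CC v i) (h : g * v j * g⁻¹ * (v j)⁻¹ ∈ zpowers (v i)) :
    g ∈ centralizer (zc T : Set G) := by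
  by_contra hgD
  have hcomm : v i * v j = v j * v i := (D.comm_v i (D.v_mem_T j)).symm
  -- the stabiliser of `{v j, v i v j}`
  have hv : ∀ c : G, c ∈ CC v i → (c * v j * c⁻¹ * (v j)⁻¹ ∈ zpowers (v i) ↔ c * v j * c⁻¹ = v j ∨
      c * v j * c⁻¹ = v i * v j) := by
    intro c _
    rw [D.mem_zp', mul_inv_eq_one]
    exact or_congr Iff.rfl mul_inv_eq_iff_eq_mul
  have hfix : ∀ c ∈ CC v i, c * v i * c⁻¹ = v i := fun c hc => by
    rw [mem_centralizer_singleton_iff.1 hc]; group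
  let K : Subgroup G :=
    { carrier := {c | c ∈ CC v i ∧ (c * v j * c⁻¹ = v j ∨ c * v j * c⁻¹ = v i * v j)}
      one_mem' := ⟨one_mem _, Or.inl (by group)⟩
      mul_mem' := by
        rintro a b ⟨ha, ha'⟩ ⟨hb, hb'⟩
        refine ⟨mul_mem ha hb, ?_⟩
        have e : a * b * v j * (a * b)⁻¹ = a * (b * v j * b⁻¹) * a⁻¹ := by group
        rw [e]
        rcases hb' with h1 | h1
        · rw [h1]; exact ha'
        · have e2 : a * (v i * v j) * a⁻¹ = (a * v i * a⁻¹) * (a * v j * a⁻¹) := by group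
          rw [h1, e2, hfix a ha]
          rcases ha' with h2 | h2
          · rw [h2]; exact Or.inr rfl
          · rw [h2, ← mul_assoc, D.v_sq, one_mul]; exact Or.inl rfl
      inv_mem' := by
        rintro a ⟨ha, ha'⟩
        refine ⟨inv_mem ha, ?_⟩
        rcases ha' with h1 | h1
        · left
          calc a⁻¹ * v j * a⁻¹⁻¹ = a⁻¹ * (a * v j * a⁻¹) * a := by rw [h1]; group
            _ = v j := by group
        · right
          have h2 : a * (v i * v j) * a⁻¹ = v j := by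
            have e2 : a * (v i * v j) * a⁻¹ = (a * v i * a⁻¹) * (a * v j * a⁻¹) := by group
            rw [e2, hfix a ha, h1, ← mul_assoc, D.v_sq, one_mul]
          calc a⁻¹ * v j * a⁻¹⁻¹ = a⁻¹ * (a * (v i * v j) * a⁻¹) * a := by rw [h2]; group
            _ = v i * v j := by group }
  set D' : Subgroup G := centralizer (zc T : Set G) with hD'
  have hDK : D' ≤ K := by
    intro d hd
    have h1 := D.cent_zc_le i hd
    have h2 := mem_centralizer_singleton_iff.1 (D.cent_zc_le j hd)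
    exact ⟨h1, Or.inl (by rw [h2]; group)⟩
  have hmem : ∀ c ∈ K, c * v j * c⁻¹ = v j → c ∈ D' := by
    intro c hc h1
    refine (D.mem_D_iff hij).2 ⟨hc.1, ?_⟩
    rw [mem_centralizer_singleton_iff]
    calc c * v j = c * v j * c⁻¹ * c := by group
      _ = v j * c := by rw [h1]
  have hne : v i * v j ≠ v j := fun e => D.ne i (mul_eq_right.1 e)
  have hDj : ∀ c ∈ D', c * v j * c⁻¹ = v j := fun c hc => by
    rw [mem_centralizer_singleton_iff.1 (D.cent_zc_le j hc)]; group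
  have hgK : g ∈ K := ⟨hg, (hv g hg).1 h⟩
  have hgv : g * v j * g⁻¹ = v i * v j := hgK.2.resolve_left fun e => hgD (hmem g hgK e)
  have hidx : D'.relIndex K = 2 := by
    rw [relIndex_eq_two_iff]
    refine ⟨g, hgK, fun b hb => ?_⟩
    have e : b * g * v j * (b * g)⁻¹ = (b * v i * b⁻¹) * (b * v j * b⁻¹) := by
      calc b * g * v j * (b * g)⁻¹ = b * (g * v j * g⁻¹) * b⁻¹ := by group
        _ = b * (v i * v j) * b⁻¹ := by rw [hgv]
        _ = _ := by group
    rw [hfix b hb.1] at e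
    by_cases hbD : b ∈ D'
    · right
      refine ⟨hbD, fun h1 => hne ?_⟩
      rw [hDj b hbD] at e
      rw [← e]
      exact hDj _ h1
    · left
      refine ⟨?_, hbD⟩
      have hbv : b * v j * b⁻¹ = v i * v j := hb.2.resolve_left fun e => hbD (hmem b hb e)
      rw [hbv, ← mul_assoc, D.v_sq, one_mul] at e
      exact hmem _ (mul_mem hb hgK) e
  have h1 : T.relIndex D' * D'.relIndex K = T.relIndex K := relIndex_mul_relIndex _ _ _ D.T_le_D hDK
  have h2 : T.relIndex K * K.relIndex (CC v i) = T.relIndex (CC v i) :=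
    relIndex_mul_relIndex _ _ _ (D.T_le_D.trans hDK) fun x hx => hx.1
  refine syl_not_dvd (D.syl i) ?_
  change 2 ∣ T.relIndex (CC v i)
  rw [← h2, ← h1, hidx]
  exact Dvd.intro_left _ rfl |>.mul_right _

/-- the elements of `C_i` centralising `N_i ⟨v i⟩ / ⟨v i⟩` centralise `N_i` -/
theorem faithful (i : Fin 2) {c : G} (hc : c ∈ CC v i)
    (h : ∀ x ∈ NU V v i, c * x * c⁻¹ * x⁻¹ ∈ zpowers (v i)) : c ∈ centralizer (NU V v i : Set G) := by
  have hzp : ∀ c ∈ CC v i, ∀ z ∈ zpowers (v i), c * z * c⁻¹ = z := by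
    intro c hc z hz
    rcases (D.mem_zp' i).1 hz with rfl | rfl
    · group
    · rw [mem_centralizer_singleton_iff.1 hc]; group
  let K : Subgroup G :=
    { carrier := {k | k ∈ CC v i ∧ ∀ w ∈ NU V v i, k * w * k⁻¹ * w⁻¹ ∈ zpowers (v i)}
      one_mem' := ⟨one_mem _, fun w _ => by simp⟩
      mul_mem' := by
        rintro a b ⟨ha, ha'⟩ ⟨hb, hb'⟩
        refine ⟨mul_mem ha hb, fun w hw => ?_⟩
        have e : a * b * w * (a * b)⁻¹ * w⁻¹ = (a * (b * w * b⁻¹ * w⁻¹) * a⁻¹) * (a * w * a⁻¹ * w⁻¹) := by group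
        rw [e, hzp a ha _ (hb' w hw)]
        exact mul_mem (hb' w hw) (ha' w hw)
      inv_mem' := by
        rintro a ⟨ha, ha'⟩
        refine ⟨inv_mem ha, fun w hw => ?_⟩
        have e : a⁻¹ * w * a⁻¹⁻¹ * w⁻¹ = a⁻¹ * (a * w * a⁻¹ * w⁻¹)⁻¹ * a⁻¹⁻¹ := by group
        rw [e, hzp _ (inv_mem ha) _ (inv_mem (ha' w hw))]
        exact inv_mem (ha' w hw) }
  have hKn : CC v i ≤ normalizer (K : Set G) := by
    have key : ∀ c ∈ CC v i, ∀ x ∈ K, c * x * c⁻¹ ∈ K := by
      intro c hc x hx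
      refine ⟨mul_mem (mul_mem hc hx.1) (inv_mem hc), fun w hw => ?_⟩
      have h1 : c⁻¹ * w * c ∈ NU V v i := by
        have := (mem_normalizer_iff.1 (D.C_le_N_N i (inv_mem hc)) w).1 hw
        rwa [inv_inv] at this
      have e : c * x * c⁻¹ * w * (c * x * c⁻¹)⁻¹ * w⁻¹ =
          c * (x * (c⁻¹ * w * c) * x⁻¹ * (c⁻¹ * w * c)⁻¹) * c⁻¹ := by group
      rw [e, hzp c hc _ (hx.2 _ h1)]
      exact hx.2 _ h1
    intro c hc
    rw [mem_normalizer_iff]
    refine fun x => ⟨key c hc x, fun hx => ?_⟩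
    have h1 := key c⁻¹ (inv_mem hc) _ hx
    have e : c⁻¹ * (c * x * c⁻¹) * c⁻¹⁻¹ = x := by group
    rwa [e] at h1
  have hKle : K ≤ CC v (i + 1) := fun k hk =>
    D.cent_zc_le (i + 1) (D.stab (ne_add_one i) hk.1 (hk.2 _ (D.mem_N i)))
  exact D.cent_N_of_le hKle hKn ⟨hc, h⟩

theorem O_le_C (i : Fin 2) : o2 (centralizer (zc T : Set G)) ≤ CC v i :=
  (MinSimple.VModule.o2_le _).trans (D.cent_zc_le i)

/-- **`(NO)` for `O₂(D)` on `N_i`.** -/
theorem noD (hML : ML.Final.MLK.{u, u}) (hK : IsKProper G) : NoD T V v := by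
  intro i B hB hBQ
  obtain ⟨j, hij, ej⟩ : ∃ j, i ≠ j ∧ i + 1 = j := ⟨i + 1, ne_add_one i, rfl⟩
  have hbot : normalizer ((⊥ : Subgroup G) : Set G) = ⊤ := normalizer_eq_top _
  have key := hML.grp (hK _ (D.CC_ne_top i))
    (C := CC v i) (W := NU V v i) (Y := ⊥) (T := T) (Q := o2 (centralizer (zc T : Set G))) (A := B) (w := v j)
    { nW := D.C_le_N_N i
      nY := by rw [hbot]; exact le_top
      YW := bot_le
      WY := by rw [hbot]; exact le_top
      sq := fun x hx => by rw [← pow_two, D.N_sq i x hx]; exact one_mem _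
      mem := ej ▸ D.mem_N i
      gen := by
        intro Y hzY _ hCY
        refine V_le fun p hp => ?_
        have h1 : V (i + 1) ≤ Y := by
          rw [ej]
          intro x hx
          by_cases hx1 : x = 1
          · rw [hx1]; exact one_mem _
          obtain ⟨l, hl, -, -, e⟩ := D.exists_tr hij.symm hx hx1
          rw [← e]
          exact (mem_normalizer_iff.1 (hCY hl) _).1 hzY
        have h4 := cj_mono p h1
        rwa [cj_eq_of_mem_normalizer (hCY hp)] at h4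
      TC := D.T_le_C i
      two := D.T_isPGroup
      odd := syl_not_dvd (D.syl i)
      fixT := fun t ht => by
        rw [D.cen j ht, mul_inv_cancel]
        exact one_mem _
      QC := D.O_le_C i
      Q2 := MinSimple.VModule.o2_isPGroup _
      fixQ := fun q hq => by
        have h1 := mem_centralizer_singleton_iff.1 (D.O_le_C j hq)
        rw [h1]
        simp
      nrmQ := fun g hg h q hq => by
        have h1 : g * v j * g⁻¹ = v j := mul_inv_eq_one.1 (mem_bot.1 h)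
        have h2 : g ∈ centralizer (zc T : Set G) := D.stab hij hg (by rw [h1, mul_inv_cancel]; exact one_mem _)
        exact (mem_normalizer_iff.1 (MinSimple.VModule.le_normalizer_o2 _ h2) q).1 hq
      AQ := hBQ
      Asq := fun a ha x hx => by
        have h1 : a ^ 2 = 1 := hB.2 a ha
        have e : a * (a * x * a⁻¹) * a⁻¹ * x⁻¹ = (a ^ 2) * x * (a ^ 2)⁻¹ * x⁻¹ := by simp [pow_two, mul_assoc]
        rw [e, h1]
        simp }
    (KA := B ⊓ centralizer (NU V v i : Set G)) (CW := NU V v i ⊓ centralizer (B : Set G))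
    (fun a => by
      rw [mem_inf, mem_centralizer_iff]
      refine and_congr_right fun _ => forall₂_congr fun x _ => ?_
      rw [mem_bot, mul_inv_eq_one, mul_inv_eq_iff_eq_mul]
      exact eq_comm)
    (fun x => by
      rw [mem_inf, mem_centralizer_iff]
      refine and_congr_right fun _ => forall₂_congr fun a _ => ?_
      rw [mem_bot, mul_inv_eq_one, mul_inv_eq_iff_eq_mul])
  rwa [inf_relIndex_left, inf_relIndex_left] at key

/-- **`(NO)` for `O₂(D)` on `N_i ⟨v i⟩ / ⟨v i⟩`.** -/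
theorem noQ (hML : ML.Final.MLK.{u, u}) (hK : IsKProper G) : NoQ T V v := by
  intro i B hB hBQ M hMN hMB
  obtain ⟨j, hij, ej⟩ : ∃ j, i ≠ j ∧ i + 1 = j := ⟨i + 1, ne_add_one i, rfl⟩
  set Y : Subgroup G := zpowers (v i) with hY
  set W : Subgroup G := NU V v i ⊔ Y with hW
  have hYC : Y ≤ CC v i := zpowers_le.2 (mem_centralizer_singleton_iff.2 rfl)
  have hWC : W ≤ CC v i := sup_le (D.N_le_C i i) hYC
  have hnY : CC v i ≤ normalizer (Y : Set G) := by
    intro c hc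
    rw [mem_normalizer_iff]
    have h1 : ∀ c ∈ CC v i, ∀ z ∈ Y, c * z * c⁻¹ = z := by
      intro c hc z hz
      rcases (D.mem_zp' i).1 hz with rfl | rfl
      · group
      · rw [mem_centralizer_singleton_iff.1 hc]; group
    refine fun x => ⟨fun hx => by rw [h1 c hc x hx]; exact hx, fun hx => ?_⟩
    have h2 := h1 c⁻¹ (inv_mem hc) _ hx
    have e : c⁻¹ * (c * x * c⁻¹) * c⁻¹⁻¹ = x := by group
    rw [e] at h2
    rw [h2]; exact hx
  have hWab : W ≤ centralizer (W : Set G) := by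
    rw [hW, ← D.E_eq]; exact D.E_comm i
  have hWsq : ∀ x ∈ W, x ^ 2 = 1 := by
    rw [hW, ← D.E_eq]; exact D.E_sq i
  have hBC : B ≤ CC v i := hBQ.trans (D.O_le_C i)
  have hzc : ∀ c ∈ CC v i, ∀ z ∈ Y, c * z * c⁻¹ * z⁻¹ = 1 := by
    intro c hc z hz
    rcases (D.mem_zp' i).1 hz with rfl | rfl
    · simp
    · rw [mem_centralizer_singleton_iff.1 hc]; simp
  let CW : Subgroup G :=
    { carrier := {x | x ∈ W ∧ ∀ a ∈ B, a * x * a⁻¹ * x⁻¹ ∈ Y}
      one_mem' := ⟨one_mem _, fun a _ => by simp⟩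
      mul_mem' := by
        rintro x y ⟨hx, hx'⟩ ⟨hy, hy'⟩
        refine ⟨mul_mem hx hy, fun a ha => ?_⟩
        have h1 : x * (a * y * a⁻¹ * y⁻¹) * x⁻¹ ∈ Y := (mem_normalizer_iff.1 (hnY (hWC hx)) _).1 (hy' a ha)
        have e : a * (x * y) * a⁻¹ * (x * y)⁻¹ = (a * x * a⁻¹ * x⁻¹) * (x * (a * y * a⁻¹ * y⁻¹) * x⁻¹) := by group
        rw [e]
        exact mul_mem (hx' a ha) h1
      inv_mem' := by
        rintro x ⟨hx, hx'⟩
        refine ⟨inv_mem hx, fun a ha => ?_⟩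
        have h1 : x⁻¹ * (a * x * a⁻¹ * x⁻¹)⁻¹ * x⁻¹⁻¹ ∈ Y :=
          (mem_normalizer_iff.1 (hnY (hWC (inv_mem hx))) _).1 (inv_mem (hx' a ha))
        have e : a * x⁻¹ * a⁻¹ * x⁻¹⁻¹ = x⁻¹ * (a * x * a⁻¹ * x⁻¹)⁻¹ * x⁻¹⁻¹ := by group
        rw [e]
        exact h1 }
  have key := hML.grp (hK _ (D.CC_ne_top i))
    (C := CC v i) (W := W) (Y := Y) (T := T) (Q := o2 (centralizer (zc T : Set G))) (A := B) (w := v j)
    { nW := D.C_le_N_NZ i
      nY := hnY
      YW := le_sup_right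
      WY := hWC.trans hnY
      sq := fun x hx => by rw [← pow_two, hWsq x hx]; exact one_mem _
      mem := mem_sup_left (ej ▸ D.mem_N i)
      gen := by
        intro U hzU hYU hCU
        refine sup_le (V_le fun p hp => ?_) hYU
        have h1 : V (i + 1) ≤ U := by
          rw [ej]
          intro x hx
          by_cases hx1 : x = 1
          · rw [hx1]; exact one_mem _
          obtain ⟨l, hl, -, -, e⟩ := D.exists_tr hij.symm hx hx1
          rw [← e]
          exact (mem_normalizer_iff.1 (hCU hl) _).1 hzU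
        have h4 := cj_mono p h1
        rwa [cj_eq_of_mem_normalizer (hCU hp)] at h4
      TC := D.T_le_C i
      two := D.T_isPGroup
      odd := syl_not_dvd (D.syl i)
      fixT := fun t ht => by
        rw [D.cen j ht, mul_inv_cancel]
        exact one_mem _
      QC := D.O_le_C i
      Q2 := MinSimple.VModule.o2_isPGroup _
      fixQ := fun q hq => by
        have h1 := mem_centralizer_singleton_iff.1 (D.O_le_C j hq)
        rw [h1]
        simp
      nrmQ := fun g hg h q hq =>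
        (mem_normalizer_iff.1 (MinSimple.VModule.le_normalizer_o2 _ (D.stab hij hg h)) q).1 hq
      AQ := hBQ
      Asq := fun a ha x hx => by
        have h1 : a ^ 2 = 1 := hB.2 a ha
        have e : a * (a * x * a⁻¹) * a⁻¹ * x⁻¹ = (a ^ 2) * x * (a ^ 2)⁻¹ * x⁻¹ := by simp [pow_two, mul_assoc]
        rw [e, h1]
        simp }
    (KA := B ⊓ centralizer (NU V v i : Set G)) (CW := CW)
    (fun a => by
      rw [mem_inf]
      refine and_congr_right fun ha => ⟨fun h1 x hx => ?_, fun h1 => ?_⟩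
      · -- `a` centralises `N_i`, hence `W`
        have h2 : W ≤ centralizer ({a} : Set G) := by
          refine sup_le (fun n hn => ?_) (zpowers_le.2 ?_)
          · rw [mem_centralizer_singleton_iff]; exact mem_centralizer_iff.1 h1 n hn
          · rw [mem_centralizer_singleton_iff]; exact (mem_centralizer_singleton_iff.1 (hBC ha)).symm
        have h3 := mem_centralizer_singleton_iff.1 (h2 hx)
        rw [← h3]
        simp
      · exact D.faithful i (hBC ha) fun x hx => h1 x (mem_sup_left hx))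
    (fun x => Iff.rfl)
  rw [inf_relIndex_left] at key
  have hCWW : CW ≤ W := fun x hx => hx.1
  have hYCW : Y ≤ CW := fun z hz => ⟨mem_sup_right hz, fun a ha => by rw [hzc a (hBC ha) z hz]; exact one_mem _⟩
  have hMCW : M ≤ CW := fun x hx => ⟨mem_sup_left (hMN hx), fun a ha => by
    have h1 := inv_mem (hMB x hx a ha)
    have e : (x * a * x⁻¹ * a⁻¹)⁻¹ = a * x * a⁻¹ * x⁻¹ := by group
    rwa [e] at h1⟩
  have hsup : W = NU V v i ⊔ CW := le_antisymm (sup_le le_sup_left (hYCW.trans le_sup_right))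
    (sup_le le_sup_left hCWW)
  have h1 : CW.relIndex (NU V v i) = CW.relIndex W := by
    rw [hsup, sup_comm]
    refine Av.relIndex_sup_av ?_
    refine (hCWW.trans hWab).trans ((centralizer_le ?_).trans (centralizer_le_normalizer _))
    exact (le_sup_left : NU V v i ≤ W)
  refine key.trans ?_
  rw [← h1]
  exact relIndex_le_of_le_left hMCW index_ne_zero_of_finite

end Fr

end Cfsg.Agent.Omega.TC

end

section


/-!
# CARD #18791: THEOREM G (TEXT R5 #19750 (2)) over `TC.Fr`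

No swap. Inputs: `FixE T v i` (LEMMA FIX), `¬ V i ≤ N_i`, some `A ∈ AA T` moves `V (i+1)`.

* `Fr.gdat` : helper11's `PG.ThmG.Dat`;
* `Fr.thmG_V` : `K` normal in `C_i`, `[V i, K] ≤ N_i ⟨v i⟩` implies `[N_i, K] = 1`;
* `Fr.thmG : ThmG V v` (helper15's `Int.lean`); `Fr.thmG_XW : Peel.ThmG (ZZ v) (XW (ZZ v) V)` (with the swap);
* `Fr.inter'` : THEOREM INT with the inputs `MLK`, `FixL`, `FixE`.
-/

set_option autoImplicit false
set_option linter.unusedSectionVars false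

namespace Cfsg.Agent.Omega.TC

open Subgroup Cfsg Cfsg.Agent.ZN Cfsg.Agent.Omega.MinPar
open Cfsg.Agent.Omega.OM.KTwo (CC QQ WU NU EU FF ne_add_one eq_add_one add_one_add_one le_normalizer_V le_V)
open Cfsg.Agent.Omega.NoFF.Basic (conj_conj mem_conj conj_le_iff conj_le_centralizer comm_symm comm_mono
  Z_le_V V_le conj_V_mul)
open Cfsg.Agent.ZN.ChoiceSit (Syl exists_syl syl_conj o2_le_syl syl_not_dvd)
open Cfsg.Agent.ZN.ChoiceBase (AA mem_AA_iff mem_normalizer_iff_cj cj_mono cj_eq_of_mem_normalizer cj_centralizer)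
open Cfsg.Agent.Omega.NO3S.EThree.ExactA (NoP eab_iff)
open Cfsg.Agent.Omega.OM
open Cfsg.Agent.Omega.TC.DOne (FixE)
open scoped Pointwise commutatorElement

universe u

variable {G : Type u} [Group G]

namespace Fr

variable [Finite G] {T : Subgroup G} {V P : Fin 2 → Subgroup G} {v : Fin 2 → G} (D : Fr T V P v)

include D

theorem v_notMem {i j : Fin 2} (hij : i ≠ j) : v i ∉ V j := fun h =>
  D.v_ne hij (D.eq_v h (D.ne i) fun _ ht => D.cen i ht)

/-- `P i` does not normalise `N_i`. -/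
theorem P_not_norm (i : Fin 2) : ¬ P i ≤ normalizer (NU V v i : Set G) := by
  intro h
  have h1 : CC v (i + 1) ≤ normalizer (NU V v i : Set G) :=
    (D.gen (ne_add_one i)).trans (sup_le h ((D.cent_zc_le i).trans (D.C_le_N_N i)))
  have h2 : IsPGroup 2 (NU V v i) := D.T_isPGroup.to_le (D.N_le_T i)
  have h3 : NU V v i = ⊥ := by
    have h0 : i = 0 ∧ i + 1 = 1 ∨ i = 1 ∧ i + 1 = 0 := by clear * -; revert i; decide
    rcases h0 with ⟨e1, e2⟩ | ⟨e1, e2⟩
    · refine D.nonloc _ h2 ?_ ?_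
      · have := D.C_le_N_N i; rwa [e1] at this ⊢
      · rwa [e2] at h1
    · refine D.nonloc _ h2 ?_ ?_
      · rwa [e2] at h1
      · have := D.C_le_N_N i; rwa [e1] at this ⊢
  have h4 := D.mem_N i
  rw [h3, mem_bot] at h4
  exact D.ne _ h4

theorem gdat {i : Fin 2} (hfix : FixE T v i) (hV : ¬ V i ≤ NU V v i) {A : Subgroup G} (hA : A ∈ AA T)
    (hAV : ¬ A ≤ centralizer (V (i + 1) : Set G)) :
    PG.ThmG.Dat T (centralizer (zc T : Set G)) (CC v i) (P i) (P (i + 1)) (V i) (V (i + 1)) (NU V v i) A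
      (v i) (v (i + 1)) := by
  have hij := ne_add_one i
  have hXle : V i ⊔ NU V v i ≤ WU V v i ⊔ NU V v i := sup_le_sup_right (D.V_le_W i) _
  have hAe := hA.1
  exact
  { pT := D.T_isPGroup
    TD := D.T_le_D
    DH := D.cent_zc_le i
    odd := syl_not_dvd (D.syl i)
    L2H := D.PC (i + 1) i hij.symm
    HDL := by
      rw [sup_comm]
      exact D.gen hij.symm
    Hv1 := fun h hh => mem_centralizer_singleton_iff.1 hh
    Dv2 := fun d hd => mem_centralizer_singleton_iff.1 (D.cent_zc_le (i + 1) hd)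
    comm := fun x hx y hy => mem_centralizer_iff.1 (D.WN_comm i (hXle hy)) x (hXle hx)
    sq := fun x hx => D.WN_sq i x (hXle hx)
    v1V := D.mem i
    v1ne := D.ne i
    cV1 := D.four i
    v2V := D.mem (i + 1)
    v2ne := D.ne (i + 1)
    cV2 := D.four (i + 1)
    v12 := D.v_notMem hij
    TV1 := D.T_le_N i
    TV2 := D.T_le_N (i + 1)
    L2V1 := D.PN (i + 1) i
    L2V2 := D.PN (i + 1) (i + 1)
    tr2 := fun u hu hu1 => by
      obtain ⟨l, hl, -, e⟩ := D.tr hij.symm hu hu1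
      exact ⟨l, hl, e⟩
    L1V1 := D.PN i i
    L1v2 := fun l hl => mem_centralizer_singleton_iff.1 (D.PC i (i + 1) hij hl)
    tr1 := fun u hu hu1 => by
      obtain ⟨l, hl, -, e⟩ := D.tr hij hu hu1
      exact ⟨l, hl, e⟩
    CV1 := by
      intro g hg
      rw [mem_centralizer_singleton_iff]
      exact (mem_centralizer_iff.1 hg _ (D.mem i)).symm
    v2N := D.mem_N i
    HN := D.C_le_N_N i
    minN := fun M hM hH => D.N_le_of i hM hH
    NT := D.N_le_T i
    fix := fun n hn h => by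
      have h1 := hfix n (D.N_le_E i hn) h
      have h2 : zc T ≤ zpowers (v i) ⊔ zpowers (v (i + 1)) := by
        have e0 : v 0 ∈ zpowers (v i) ⊔ zpowers (v (i + 1)) := by
          have h0 : i = 0 ∨ i + 1 = 0 := by clear * -; revert i; decide
          rcases h0 with e | e
          · rw [e]; exact mem_sup_left (mem_zpowers _)
          · rw [e]; exact mem_sup_right (mem_zpowers _)
        have e1 : v 1 ∈ zpowers (v i) ⊔ zpowers (v (i + 1)) := by
          have h0 : i = 1 ∨ i + 1 = 1 := by clear * -; revert i; decide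
          rcases h0 with e | e
          · rw [e]; exact mem_sup_left (mem_zpowers _)
          · rw [e]; exact mem_sup_right (mem_zpowers _)
        intro x hx
        rcases (D.zT x).1 hx with rfl | rfl | rfl | rfl
        · exact one_mem _
        · exact e0
        · exact e1
        · exact mul_mem e0 e1
      exact h2 h1
    V1N := hV
    L1N := D.P_not_norm i
    AT := hA.2.1
    Ac := fun x hx y hy => mem_centralizer_iff.1 ((eab_iff.1 hAe).1 hy) x hx
    As := (eab_iff.1 hAe).2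
    Amax := fun B hB h1 h2 => hA.2.2 B (eab_iff.2 ⟨fun x hx => mem_centralizer_iff.2 fun y hy => h1 y hy x hx, h2⟩) hB
    AV2 := by
      obtain ⟨a, ha, hac⟩ := SetLike.not_le_iff_exists.1 hAV
      by_contra hcon
      push Not at hcon
      exact hac (mem_centralizer_iff.2 fun x hx => (hcon a ha x hx).symm) }

/-- **THEOREM G** with the hypothesis on `V i` only. -/
theorem thmG_V {i : Fin 2} (hfix : FixE T v i) (hV : ¬ V i ≤ NU V v i)
    (hmv : ∃ A ∈ AA T, ¬ A ≤ centralizer (V (i + 1) : Set G)) {K : Subgroup G} (hK : K ≤ CC v i)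
    (hKn : CC v i ≤ normalizer (K : Set G))
    (hKV : ∀ x ∈ V i, ∀ k ∈ K, k * x * k⁻¹ * x⁻¹ ∈ NU V v i ⊔ zpowers (v i)) :
    K ≤ centralizer (NU V v i : Set G) := by
  obtain ⟨A, hA, hAV⟩ := hmv
  exact PG.ThmG.thmG (D.gdat hfix hV hA hAV) hK hKn hKV

/-- **THEOREM G for one side.** -/
theorem thmG_side {i : Fin 2} (hfix : FixE T v i) (hV : ¬ V i ≤ NU V v i)
    (hmv : ∃ A ∈ AA T, ¬ A ≤ centralizer (V (i + 1) : Set G)) {c : G} (hc : c ∈ CC v i)
    (h : ∀ x ∈ WU V v i ⊔ NU V v i, x * c * x⁻¹ * c⁻¹ ∈ NU V v i) : c ∈ centralizer (NU V v i : Set G) := by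
  have hX : ∀ g ∈ CC v i, ∀ x ∈ WU V v i ⊔ NU V v i, g * x * g⁻¹ ∈ WU V v i ⊔ NU V v i := by
    intro g hg x hx
    have h1 : WU V v i ⊔ NU V v i ≤ (WU V v i ⊔ NU V v i).comap (MulAut.conj g).toMonoidHom :=
      sup_le (fun y hy => mem_sup_left ((mem_normalizer_iff.1 (D.C_le_N_W i hg) y).1 hy))
        fun y hy => mem_sup_right ((mem_normalizer_iff.1 (D.C_le_N_N i hg) y).1 hy)
    exact h1 hx
  have hN : ∀ g ∈ CC v i, ∀ x ∈ NU V v i, g * x * g⁻¹ ∈ NU V v i := fun g hg x hx =>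
    (mem_normalizer_iff.1 (D.C_le_N_N i hg) x).1 hx
  have hXC : WU V v i ⊔ NU V v i ≤ CC v i := sup_le (D.W_le_C i i) (D.N_le_C i i)
  let K : Subgroup G :=
    { carrier := {k | k ∈ CC v i ∧ ∀ x ∈ WU V v i ⊔ NU V v i, k * x * k⁻¹ * x⁻¹ ∈ NU V v i}
      one_mem' := ⟨one_mem _, fun x _ => by simp⟩
      mul_mem' := by
        rintro a b ⟨ha, ha'⟩ ⟨hb, hb'⟩
        refine ⟨mul_mem ha hb, fun x hx => ?_⟩
        have e : a * b * x * (a * b)⁻¹ * x⁻¹ = (a * (b * x * b⁻¹ * x⁻¹) * a⁻¹) * (a * x * a⁻¹ * x⁻¹) := by group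
        rw [e]
        exact mul_mem (hN a ha _ (hb' x hx)) (ha' x hx)
      inv_mem' := by
        rintro a ⟨ha, ha'⟩
        refine ⟨inv_mem ha, fun x hx => ?_⟩
        have h1 := hN a⁻¹ (inv_mem ha) _ (inv_mem (ha' x hx))
        have e : a⁻¹ * x * a⁻¹⁻¹ * x⁻¹ = a⁻¹ * (a * x * a⁻¹ * x⁻¹)⁻¹ * a⁻¹⁻¹ := by group
        rw [e]
        exact h1 }
  have key : ∀ c ∈ CC v i, ∀ x ∈ K, c * x * c⁻¹ ∈ K := by
    intro c hc k hk
    refine ⟨mul_mem (mul_mem hc hk.1) (inv_mem hc), fun x hx => ?_⟩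
    have h1 : c⁻¹ * x * c ∈ WU V v i ⊔ NU V v i := by
      have := hX c⁻¹ (inv_mem hc) x hx
      rwa [inv_inv] at this
    have e : c * k * c⁻¹ * x * (c * k * c⁻¹)⁻¹ * x⁻¹ =
        c * (k * (c⁻¹ * x * c) * k⁻¹ * (c⁻¹ * x * c)⁻¹) * c⁻¹ := by group
    rw [e]
    exact hN c hc _ (hk.2 _ h1)
  have hKn : CC v i ≤ normalizer (K : Set G) := by
    intro c hc
    rw [mem_normalizer_iff]
    refine fun x => ⟨key c hc x, fun hx => ?_⟩
    have h1 := key c⁻¹ (inv_mem hc) _ hx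
    have e : c⁻¹ * (c * x * c⁻¹) * c⁻¹⁻¹ = x := by group
    rwa [e] at h1
  have hcK : c ∈ K := by
    refine ⟨hc, fun x hx => ?_⟩
    have h1 := inv_mem (h x hx)
    have e : (x * c * x⁻¹ * c⁻¹)⁻¹ = c * x * c⁻¹ * x⁻¹ := by group
    rwa [e] at h1
  have hKle : K ≤ CC v i := fun k hk => hk.1
  have hKV : ∀ x ∈ V i, ∀ k ∈ K, k * x * k⁻¹ * x⁻¹ ∈ NU V v i ⊔ zpowers (v i) := fun x hx k hk =>
    mem_sup_left (hk.2 x (mem_sup_left (D.V_le_W i hx)))
  exact D.thmG_V hfix hV hmv hKle hKn hKV hcK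

/-- **THEOREM G** in helper15's form. -/
theorem thmG (hfix : ∀ i, FixE T v i) (hV : ∀ i, ¬ V i ≤ NU V v i)
    (hmv : ∀ i, ∃ A ∈ AA T, ¬ A ≤ centralizer (V i : Set G)) : ThmG V v := fun i _ hc h =>
  D.thmG_side (hfix i) (hV i) (hmv (i + 1)) hc h

/-- **THEOREM G** in helper683's form (with the swap). -/
theorem thmG_XW {s : G} (w : Sw V v s) (hfix : FixE T v 0) (hV : ¬ V 0 ≤ NU V v 0)
    (hmv : ∃ A ∈ AA T, ¬ A ≤ centralizer (V 1 : Set G)) :
    PG.Peel.ThmG (ZZ v) (PG.Peel.XW (ZZ v) V) := by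
  rintro _ ⟨k, rfl⟩ g hg h
  rw [PG.HH_conj, mem_conj, D.HH_eq] at hg
  rw [PG.NN_conj, D.NN_eq w] at h ⊢
  rw [PG.Peel.XW_conj, D.XW_eq w] at h
  have h1 : k⁻¹ * g * k ∈ centralizer (NU V v 0 : Set G) := by
    refine D.thmG_side hfix hV hmv hg fun x hx => ?_
    have h2 : k * x * k⁻¹ ∈ MulAut.conj k • (NU V v 0 ⊔ WU V v 0) := by
      rw [mem_conj]
      have e : k⁻¹ * (k * x * k⁻¹) * k = x := by group
      rw [e, sup_comm]
      exact hx
    have h3 := h _ h2
    rw [mem_conj] at h3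
    have e : k⁻¹ * (k * x * k⁻¹ * g * (k * x * k⁻¹)⁻¹ * g⁻¹) * k =
        x * (k⁻¹ * g * k) * x⁻¹ * (k⁻¹ * g * k)⁻¹ := by group
    rwa [e] at h3
  refine mem_centralizer_iff.2 fun y hy => ?_
  have hy' : y ∈ MulAut.conj k • NU V v 0 := hy
  rw [mem_conj] at hy'
  have h4 := mem_centralizer_iff.1 h1 _ hy'
  calc y * g = k * ((k⁻¹ * y * k) * (k⁻¹ * g * k)) * k⁻¹ := by group
    _ = k * ((k⁻¹ * g * k) * (k⁻¹ * y * k)) * k⁻¹ := by rw [h4]
    _ = g * y := by group

/-- **THEOREM INT** (helper15), inputs `MLK`, `FixL`, `FixE`. -/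
theorem inter' (hML : ML.Final.MLK.{u, u}) (hK : IsKProper G) (hs : Swap T V v) (hF : FixL T V v)
    (hfix : ∀ i, FixE T v i) (hV : ∀ i, ¬ V i ≤ NU V v i)
    (hmv : ∀ i, ∃ A ∈ AA T, ¬ A ≤ centralizer (V i : Set G)) : NU V v 0 ⊓ NU V v 1 ≤ zc T :=
  D.inter hs (D.noD hML hK) (D.noQ hML hK) (D.thmG hfix hV hmv) hF hV

end Fr

end Cfsg.Agent.Omega.TC

end

section


/-!
# THEOREM G over `TC.Fr` with a member of `AA(O₂(D))` which moves `V (i+1)` (no swap)

(TC/ThmGOf.lean has the version with `AA T`.)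
-/

set_option autoImplicit false
set_option linter.unusedSectionVars false

namespace Cfsg.Agent.Omega.TC.RSix

open Subgroup Cfsg Cfsg.Agent.ZN Cfsg.Agent.Omega.MinPar
open Cfsg.Agent.Omega.OM.KTwo (CC QQ WU NU EU FF ne_add_one eq_add_one add_one_add_one le_normalizer_V le_V)
open Cfsg.Agent.Omega.NoFF.Basic (conj_conj mem_conj conj_le_iff conj_le_centralizer comm_symm comm_mono
  Z_le_V V_le conj_V_mul)
open Cfsg.Agent.ZN.ChoiceSit (Syl exists_syl syl_conj o2_le_syl syl_not_dvd)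
open Cfsg.Agent.ZN.ChoiceBase (AA mem_AA_iff mem_normalizer_iff_cj cj_mono cj_eq_of_mem_normalizer cj_centralizer)
open Cfsg.Agent.Omega.NO3S.EThree.ExactA (NoP eab_iff)
open Cfsg.Agent.Omega.OM
open Cfsg.Agent.Omega.TC.DOne (FixE)
open scoped Pointwise commutatorElement

universe u

variable {G : Type u} [Group G] [Finite G] {T : Subgroup G} {V P : Fin 2 → Subgroup G} {v : Fin 2 → G}
  (D : Fr T V P v)

include D

theorem gdat {i : Fin 2} (hfix : FixE T v i) (hV : ¬ V i ≤ NU V v i) {A : Subgroup G}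
    (hA : A ∈ AA (o2 (centralizer (zc T : Set G)))) (hAV : ¬ A ≤ centralizer (V (i + 1) : Set G)) :
    GO.Dat T (centralizer (zc T : Set G)) (CC v i) (P i) (P (i + 1)) (V i) (V (i + 1)) (NU V v i) A
      (v i) (v (i + 1)) := by
  have hij := ne_add_one i
  have hXle : V i ⊔ NU V v i ≤ WU V v i ⊔ NU V v i := sup_le_sup_right (D.V_le_W i) _
  have hAe := hA.1
  exact
  { pT := D.T_isPGroup
    TD := D.T_le_D
    DH := D.cent_zc_le i
    odd := syl_not_dvd (D.syl i)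
    L2H := D.PC (i + 1) i hij.symm
    HDL := by
      rw [sup_comm]
      exact D.gen hij.symm
    Hv1 := fun h hh => mem_centralizer_singleton_iff.1 hh
    Dv2 := fun d hd => mem_centralizer_singleton_iff.1 (D.cent_zc_le (i + 1) hd)
    comm := fun x hx y hy => mem_centralizer_iff.1 (D.WN_comm i (hXle hy)) x (hXle hx)
    sq := fun x hx => D.WN_sq i x (hXle hx)
    v1V := D.mem i
    v1ne := D.ne i
    cV1 := D.four i
    v2V := D.mem (i + 1)
    v2ne := D.ne (i + 1)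
    cV2 := D.four (i + 1)
    v12 := D.v_notMem hij
    TV1 := D.T_le_N i
    TV2 := D.T_le_N (i + 1)
    L2V1 := D.PN (i + 1) i
    L2V2 := D.PN (i + 1) (i + 1)
    tr2 := fun u hu hu1 => by
      obtain ⟨l, hl, -, e⟩ := D.tr hij.symm hu hu1
      exact ⟨l, hl, e⟩
    L1V1 := D.PN i i
    L1v2 := fun l hl => mem_centralizer_singleton_iff.1 (D.PC i (i + 1) hij hl)
    tr1 := fun u hu hu1 => by
      obtain ⟨l, hl, -, e⟩ := D.tr hij hu hu1
      exact ⟨l, hl, e⟩
    CV1 := by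
      intro g hg
      rw [mem_centralizer_singleton_iff]
      exact (mem_centralizer_iff.1 hg _ (D.mem i)).symm
    v2N := D.mem_N i
    HN := D.C_le_N_N i
    minN := fun M hM hH => D.N_le_of i hM hH
    NT := D.N_le_T i
    fix := fun n hn h => by
      have h1 := hfix n (D.N_le_E i hn) h
      have h2 : zc T ≤ zpowers (v i) ⊔ zpowers (v (i + 1)) := by
        have e0 : v 0 ∈ zpowers (v i) ⊔ zpowers (v (i + 1)) := by
          have h0 : i = 0 ∨ i + 1 = 0 := by clear * -; revert i; decide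
          rcases h0 with e | e
          · rw [e]; exact mem_sup_left (mem_zpowers _)
          · rw [e]; exact mem_sup_right (mem_zpowers _)
        have e1 : v 1 ∈ zpowers (v i) ⊔ zpowers (v (i + 1)) := by
          have h0 : i = 1 ∨ i + 1 = 1 := by clear * -; revert i; decide
          rcases h0 with e | e
          · rw [e]; exact mem_sup_left (mem_zpowers _)
          · rw [e]; exact mem_sup_right (mem_zpowers _)
        intro x hx
        rcases (D.zT x).1 hx with rfl | rfl | rfl | rfl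
        · exact one_mem _
        · exact e0
        · exact e1
        · exact mul_mem e0 e1
      exact h2 h1
    V1N := hV
    L1N := D.P_not_norm i
    AT := hA.2.1.trans D.o2D_le_T
    Ac := fun x hx y hy => mem_centralizer_iff.1 ((eab_iff.1 hAe).1 hy) x hx
    As := (eab_iff.1 hAe).2
    Amax := fun B hB h1 h2 => hA.2.2 B (eab_iff.2 ⟨fun x hx => mem_centralizer_iff.2 fun y hy => h1 y hy x hx, h2⟩)
      (hB.trans (sup_le hA.2.1 (D.N_le_oD i)))
    AV2 := by
      obtain ⟨a, ha, hac⟩ := SetLike.not_le_iff_exists.1 hAV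
      by_contra hcon
      push Not at hcon
      exact hac (mem_centralizer_iff.2 fun x hx => (hcon a ha x hx).symm) }

/-- **THEOREM G** with the hypothesis on `V i` only. -/
theorem thmG_V {i : Fin 2} (hfix : FixE T v i) (hV : ¬ V i ≤ NU V v i)
    (hmv : ∃ A ∈ AA (o2 (centralizer (zc T : Set G))), ¬ A ≤ centralizer (V (i + 1) : Set G)) {K : Subgroup G} (hK : K ≤ CC v i)
    (hKn : CC v i ≤ normalizer (K : Set G))
    (hKV : ∀ x ∈ V i, ∀ k ∈ K, k * x * k⁻¹ * x⁻¹ ∈ NU V v i ⊔ zpowers (v i)) :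
    K ≤ centralizer (NU V v i : Set G) := by
  obtain ⟨A, hA, hAV⟩ := hmv
  exact GO.thmG (gdat D hfix hV hA hAV) hK hKn hKV

/-- **THEOREM G for one side.** -/
theorem thmG_side {i : Fin 2} (hfix : FixE T v i) (hV : ¬ V i ≤ NU V v i)
    (hmv : ∃ A ∈ AA (o2 (centralizer (zc T : Set G))), ¬ A ≤ centralizer (V (i + 1) : Set G)) {c : G} (hc : c ∈ CC v i)
    (h : ∀ x ∈ WU V v i ⊔ NU V v i, x * c * x⁻¹ * c⁻¹ ∈ NU V v i) : c ∈ centralizer (NU V v i : Set G) := by
  have hX : ∀ g ∈ CC v i, ∀ x ∈ WU V v i ⊔ NU V v i, g * x * g⁻¹ ∈ WU V v i ⊔ NU V v i := by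
    intro g hg x hx
    have h1 : WU V v i ⊔ NU V v i ≤ (WU V v i ⊔ NU V v i).comap (MulAut.conj g).toMonoidHom :=
      sup_le (fun y hy => mem_sup_left ((mem_normalizer_iff.1 (D.C_le_N_W i hg) y).1 hy))
        fun y hy => mem_sup_right ((mem_normalizer_iff.1 (D.C_le_N_N i hg) y).1 hy)
    exact h1 hx
  have hN : ∀ g ∈ CC v i, ∀ x ∈ NU V v i, g * x * g⁻¹ ∈ NU V v i := fun g hg x hx =>
    (mem_normalizer_iff.1 (D.C_le_N_N i hg) x).1 hx
  have hXC : WU V v i ⊔ NU V v i ≤ CC v i := sup_le (D.W_le_C i i) (D.N_le_C i i)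
  let K : Subgroup G :=
    { carrier := {k | k ∈ CC v i ∧ ∀ x ∈ WU V v i ⊔ NU V v i, k * x * k⁻¹ * x⁻¹ ∈ NU V v i}
      one_mem' := ⟨one_mem _, fun x _ => by simp⟩
      mul_mem' := by
        rintro a b ⟨ha, ha'⟩ ⟨hb, hb'⟩
        refine ⟨mul_mem ha hb, fun x hx => ?_⟩
        have e : a * b * x * (a * b)⁻¹ * x⁻¹ = (a * (b * x * b⁻¹ * x⁻¹) * a⁻¹) * (a * x * a⁻¹ * x⁻¹) := by group
        rw [e]
        exact mul_mem (hN a ha _ (hb' x hx)) (ha' x hx)
      inv_mem' := by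
        rintro a ⟨ha, ha'⟩
        refine ⟨inv_mem ha, fun x hx => ?_⟩
        have h1 := hN a⁻¹ (inv_mem ha) _ (inv_mem (ha' x hx))
        have e : a⁻¹ * x * a⁻¹⁻¹ * x⁻¹ = a⁻¹ * (a * x * a⁻¹ * x⁻¹)⁻¹ * a⁻¹⁻¹ := by group
        rw [e]
        exact h1 }
  have key : ∀ c ∈ CC v i, ∀ x ∈ K, c * x * c⁻¹ ∈ K := by
    intro c hc k hk
    refine ⟨mul_mem (mul_mem hc hk.1) (inv_mem hc), fun x hx => ?_⟩
    have h1 : c⁻¹ * x * c ∈ WU V v i ⊔ NU V v i := by
      have := hX c⁻¹ (inv_mem hc) x hx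
      rwa [inv_inv] at this
    have e : c * k * c⁻¹ * x * (c * k * c⁻¹)⁻¹ * x⁻¹ =
        c * (k * (c⁻¹ * x * c) * k⁻¹ * (c⁻¹ * x * c)⁻¹) * c⁻¹ := by group
    rw [e]
    exact hN c hc _ (hk.2 _ h1)
  have hKn : CC v i ≤ normalizer (K : Set G) := by
    intro c hc
    rw [mem_normalizer_iff]
    refine fun x => ⟨key c hc x, fun hx => ?_⟩
    have h1 := key c⁻¹ (inv_mem hc) _ hx
    have e : c⁻¹ * (c * x * c⁻¹) * c⁻¹⁻¹ = x := by group
    rwa [e] at h1
  have hcK : c ∈ K := by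
    refine ⟨hc, fun x hx => ?_⟩
    have h1 := inv_mem (h x hx)
    have e : (x * c * x⁻¹ * c⁻¹)⁻¹ = c * x * c⁻¹ * x⁻¹ := by group
    rwa [e] at h1
  have hKle : K ≤ CC v i := fun k hk => hk.1
  have hKV : ∀ x ∈ V i, ∀ k ∈ K, k * x * k⁻¹ * x⁻¹ ∈ NU V v i ⊔ zpowers (v i) := fun x hx k hk =>
    mem_sup_left (hk.2 x (mem_sup_left (D.V_le_W i hx)))
  exact thmG_V D hfix hV hmv hKle hKn hKV hcK

end Cfsg.Agent.Omega.TC.RSix

end

section


/-!
# THEOREM R (bb OMEGA #21425), part (6): exactness at the distances one and two, at one vertex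

`XX i = W_i N_i`.  Hypotheses: `V i ≰ N_i`, `FixE T v i`, some `A ∈ AA(O₂(D))` moves `V i` (both `i`).

* `comm_one` : `[W_{k+1}, N_k] = 1` for some `k` implies `[X_i, X_j] = 1`;
* `comm_two` : then `[X_j^c, X_j] = 1` for `c ∈ C_i`.
-/

set_option autoImplicit false
set_option linter.unusedSectionVars false

namespace Cfsg.Agent.Omega.TC.RSix

open Subgroup Cfsg Cfsg.Agent.ZN Cfsg.Agent.Omega.MinPar
open Cfsg.Agent.Omega.OM.KTwo (CC QQ WU NU EU ne_add_one eq_add_one add_one_add_one le_normalizer_V le_V)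
open Cfsg.Agent.Omega.NoFF.Basic (conj_conj mem_conj conj_le_iff comm_symm comm_mono Z_le_V V_le
  conj_le_centralizer)
open Cfsg.Agent.Omega.NOThreeL.Pair (conj_eq_of_mem)
open Cfsg.Agent.ZN.ChoiceBase (AA cj)
open Cfsg.Agent.Omega.NO3S.EThree.ExactA (eab_iff)
open Cfsg.Agent.Omega.OM.PG (Cr)
open Cfsg.Agent.Omega.TC.DOne (FixE)
open scoped Pointwise commutatorElement

universe u

variable {G : Type u} [Group G]

theorem fin2 : ∀ i j k : Fin 2, i ≠ j → k ≠ i → k = j := by decide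

/-- `X_i = W_i N_i` -/
def XX (V : Fin 2 → Subgroup G) (v : Fin 2 → G) (i : Fin 2) : Subgroup G := WU V v i ⊔ NU V v i

theorem mem_zp' {a x : G} (ha : a * a = 1) (hx : x ∈ zpowers a) : x = 1 ∨ x = a := by
  obtain ⟨n, rfl⟩ := mem_zpowers_iff.1 hx
  rcases Int.even_or_odd n with ⟨k, rfl⟩ | ⟨k, rfl⟩
  · left
    rw [← two_mul, zpow_mul, zpow_ofNat, pow_two, ha, one_zpow]
  · right
    rw [zpow_add, zpow_one, zpow_mul, zpow_ofNat, pow_two, ha, one_zpow, one_mul]

theorem cr_mk [Finite G] {a b : G} {N M X Y : Subgroup G} (NX : N ≤ X) (MY : M ≤ Y)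
    (Xc : X ≤ centralizer (X : Set G)) (Yc : Y ≤ centralizer (Y : Set G))
    (XnY : X ≤ normalizer (Y : Set G)) (YnX : Y ≤ normalizer (X : Set G))
    (XnM : X ≤ normalizer (M : Set G)) (YnN : Y ≤ normalizer (N : Set G))
    (ha : a * a = 1) (hb : b * b = 1) (hab : a ≠ b)
    (ca : ∀ x ∈ X, ∀ y ∈ Y, y ∈ centralizer (N : Set G) → x * y * x⁻¹ * y⁻¹ ∈ zpowers a)
    (cb : ∀ x ∈ Y, ∀ y ∈ X, y ∈ centralizer (M : Set G) → x * y * x⁻¹ * y⁻¹ ∈ zpowers b)
    (noN : (centralizer (N : Set G)).relIndex Y ≤ (centralizer (Y : Set G)).relIndex N)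
    (noM : (centralizer (M : Set G)).relIndex X ≤ (centralizer (X : Set G)).relIndex M) :
    Cr (zpowers a) (zpowers b) N M X Y where
  NX := NX
  MY := MY
  Xc := fun x hx y hy => (mem_centralizer_iff.1 (Xc hy) x hx)
  Yc := fun x hx y hy => (mem_centralizer_iff.1 (Yc hy) x hx)
  XnY := XnY
  YnX := YnX
  XnM := XnM
  YnN := YnN
  ca := by
    rw [commutator_le]
    intro x hx y hy
    exact ca x hx y hy.1 hy.2
  cb := by
    rw [commutator_le]
    intro x hx y hy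
    exact cb x hx y hy.1 hy.2
  a2 := fun x hx y hy hx1 hy1 =>
    ((mem_zp' ha hx).resolve_left hx1).trans ((mem_zp' ha hy).resolve_left hy1).symm
  b2 := fun x hx y hy hx1 hy1 =>
    ((mem_zp' hb hx).resolve_left hx1).trans ((mem_zp' hb hy).resolve_left hy1).symm
  ab := by
    rw [eq_bot_iff]
    rintro x ⟨hx, hy⟩
    rw [mem_bot]
    rcases mem_zp' ha hx with h | h
    · exact h
    · rcases mem_zp' hb hy with h' | h'
      · exact h'
      · exact absurd (h.symm.trans h') hab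
  noN := by
    have h1 : Nat.card Y = Nat.card (Y ⊓ centralizer (N : Set G) : Subgroup G) *
      (centralizer (N : Set G)).relIndex Y := LemZ.card_eq _ _
    have h2 : Nat.card N = Nat.card (N ⊓ centralizer (Y : Set G) : Subgroup G) *
      (centralizer (Y : Set G)).relIndex N := LemZ.card_eq _ _
    calc Nat.card Y * Nat.card (N ⊓ centralizer (Y : Set G) : Subgroup G) =
        Nat.card (Y ⊓ centralizer (N : Set G) : Subgroup G) *
        (Nat.card (N ⊓ centralizer (Y : Set G) : Subgroup G) * (centralizer (N : Set G)).relIndex Y) := by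
          rw [h1]; ring
      _ ≤ Nat.card (Y ⊓ centralizer (N : Set G) : Subgroup G) *
        (Nat.card (N ⊓ centralizer (Y : Set G) : Subgroup G) * (centralizer (Y : Set G)).relIndex N) :=
          Nat.mul_le_mul_left _ (Nat.mul_le_mul_left _ noN)
      _ = _ := by rw [← h2]
  noM := by
    have h1 : Nat.card X = Nat.card (X ⊓ centralizer (M : Set G) : Subgroup G) *
      (centralizer (M : Set G)).relIndex X := LemZ.card_eq _ _
    have h2 : Nat.card M = Nat.card (M ⊓ centralizer (X : Set G) : Subgroup G) *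
      (centralizer (X : Set G)).relIndex M := LemZ.card_eq _ _
    calc Nat.card X * Nat.card (M ⊓ centralizer (X : Set G) : Subgroup G) =
        Nat.card (X ⊓ centralizer (M : Set G) : Subgroup G) *
        (Nat.card (M ⊓ centralizer (X : Set G) : Subgroup G) * (centralizer (M : Set G)).relIndex X) := by
          rw [h1]; ring
      _ ≤ Nat.card (X ⊓ centralizer (M : Set G) : Subgroup G) *
        (Nat.card (M ⊓ centralizer (X : Set G) : Subgroup G) * (centralizer (X : Set G)).relIndex M) :=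
          Nat.mul_le_mul_left _ (Nat.mul_le_mul_left _ noM)
      _ = _ := by rw [← h2]

/-- if `X = N C_X(Y)` and `Y` normalises `N`, then `[X, Y] ≤ N` -/
theorem comm_of_dich [Finite G] {N X Y : Subgroup G} (Xc : X ≤ centralizer (X : Set G)) (NX : N ≤ X)
    (YnN : Y ≤ normalizer (N : Set G)) (h : X ≤ N ⊔ (X ⊓ centralizer (Y : Set G))) {x y : G} (hx : x ∈ X)
    (hy : y ∈ Y) : x * y * x⁻¹ * y⁻¹ ∈ N := by
  have hc : N ≤ centralizer ((X ⊓ centralizer (Y : Set G) : Subgroup G) : Set G) :=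
    (NX.trans Xc).trans (centralizer_le inf_le_left)
  obtain ⟨n, hn, k, hk, rfl⟩ := OM.PG.Peel.exists_mul_of_comm hc (h hx)
  have e1 : y * k = k * y := mem_centralizer_iff.1 hk.2 y hy
  have e : n * k * y * (n * k)⁻¹ * y⁻¹ = n * (y * n⁻¹ * y⁻¹) := by
    calc n * k * y * (n * k)⁻¹ * y⁻¹ = n * (k * y) * k⁻¹ * n⁻¹ * y⁻¹ := by group
      _ = n * (y * k) * k⁻¹ * n⁻¹ * y⁻¹ := by rw [e1]
      _ = _ := by group
  rw [e]
  exact mul_mem hn ((mem_normalizer_iff.1 (YnN hy) _).1 (inv_mem hn))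

variable [Finite G] {T : Subgroup G} {V P : Fin 2 → Subgroup G} {v : Fin 2 → G} (D : Fr T V P v)

include D

theorem zc_cases {i j : Fin 2} (hij : i ≠ j) {x : G} (hx : x ∈ zc T) :
    x = 1 ∨ x = v i ∨ x = v j ∨ x = v i * v j := by
  have h0 := (D.zT x).1 hx
  rcases ThmI.fin_two_cases hij with ⟨rfl, rfl⟩ | ⟨rfl, rfl⟩
  · exact h0
  · have h1 : v 0 * v 1 = v 1 * v 0 := D.comm_v 1 (D.v_mem_T 0)
    rw [h1] at h0
    tauto

theorem N_le_X (i : Fin 2) : NU V v i ≤ XX V v i := le_sup_right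

theorem X_le_Q (i : Fin 2) : XX V v i ≤ QQ v i := sup_le (D.W_le_Q i) (D.N_le_Q i)

theorem X_le_O (i : Fin 2) : XX V v i ≤ o2 (centralizer (zc T : Set G)) := (X_le_Q D i).trans (D.Q_le_o2D i)

theorem X_le_T (i : Fin 2) : XX V v i ≤ T := (X_le_Q D i).trans (D.Q_le_T i)

theorem C_le_N_X (i : Fin 2) : CC v i ≤ normalizer (XX V v i : Set G) :=
  OM.PG.ThmG.norm_sup (D.C_le_N_W i) (D.C_le_N_N i)

theorem X_comm (i : Fin 2) : XX V v i ≤ centralizer (XX V v i : Set G) := D.WN_comm i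

/-- `[X_i, Q_i] ≤ ⟨v i⟩` -/
theorem com_XQ (i : Fin 2) {x q : G} (hx : x ∈ XX V v i) (hq : q ∈ QQ v i) : x * q * x⁻¹ * q⁻¹ ∈ zpowers (v i) := by
  have hc : WU V v i ≤ centralizer (NU V v i : Set G) := fun w hw =>
    centralizer_le (le_sup_right : NU V v i ≤ WU V v i ⊔ NU V v i) (D.WN_comm i (mem_sup_left hw))
  obtain ⟨w, hw, n, hn, rfl⟩ := OM.PG.Peel.exists_mul_of_comm hc hx
  have e1 : q * n = n * q := mem_centralizer_iff.1 (D.N_le_cent_Q i hn) q hq
  have e : w * n * q * (w * n)⁻¹ * q⁻¹ = w * q * w⁻¹ * q⁻¹ := by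
    calc w * n * q * (w * n)⁻¹ * q⁻¹ = w * (n * q) * n⁻¹ * w⁻¹ * q⁻¹ := by group
      _ = w * (q * n) * n⁻¹ * w⁻¹ * q⁻¹ := by rw [e1]
      _ = _ := by group
  rw [e]
  exact DOne.comm_WQ D i hw hq

/-- `(NO)` for a subgroup of `O₂(D)` of exponent two -/
theorem no_of (hML : ML.Final.MLK.{u, u}) (hK : ∀ i, IsKGroup (CC v i)) (i : Fin 2) {A : Subgroup G}
    (hA : A ≤ o2 (centralizer (zc T : Set G))) (hA2 : ∀ a ∈ A, a ^ 2 = 1) :
    (centralizer (NU V v i : Set G)).relIndex A ≤ (centralizer (A : Set G)).relIndex (NU V v i) :=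
  D.no_N hML (hK i) hA hA2

/-- THEOREM G for a conjugate -/
theorem gside {i : Fin 2} (hfix : FixE T v i) (hV : ¬ V i ≤ NU V v i)
    (hmv : ∃ A ∈ AA (o2 (centralizer (zc T : Set G))), ¬ A ≤ centralizer (V (i + 1) : Set G)) {c y : G}
    (hy : c⁻¹ * y * c ∈ CC v i)
    (h : ∀ x ∈ (MulAut.conj c • XX V v i : Subgroup G), x * y * x⁻¹ * y⁻¹ ∈ (MulAut.conj c • NU V v i : Subgroup G)) :
    y ∈ centralizer ((MulAut.conj c • NU V v i : Subgroup G) : Set G) := by
  have h1 : c⁻¹ * y * c ∈ centralizer (NU V v i : Set G) := by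
    refine thmG_side D hfix hV hmv hy fun x hx => ?_
    have h2 : c * x * c⁻¹ ∈ (MulAut.conj c • XX V v i : Subgroup G) := ⟨x, hx, rfl⟩
    have h3 := h _ h2
    rw [mem_conj] at h3
    have e : c⁻¹ * (c * x * c⁻¹ * y * (c * x * c⁻¹)⁻¹ * y⁻¹) * c =
        x * (c⁻¹ * y * c) * x⁻¹ * (c⁻¹ * y * c)⁻¹ := by group
    rwa [e] at h3
  refine mem_centralizer_iff.2 fun n hn => ?_
  have hn' : n ∈ (MulAut.conj c • NU V v i : Subgroup G) := hn
  rw [mem_conj] at hn'
  have h4 := mem_centralizer_iff.1 h1 _ hn'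
  calc n * y = c * ((c⁻¹ * n * c) * (c⁻¹ * y * c)) * c⁻¹ := by group
    _ = c * ((c⁻¹ * y * c) * (c⁻¹ * n * c)) * c⁻¹ := by rw [h4]
    _ = y * n := by group

/-- the data of the pair `(v i, v j)` -/
theorem cr_one (hML : ML.Final.MLK.{u, u}) (hK : ∀ i, IsKGroup (CC v i)) {i j : Fin 2} (hij : i ≠ j) :
    Cr (zpowers (v i)) (zpowers (v j)) (NU V v i) (NU V v j) (XX V v i) (XX V v j) := by
  have hC : ∀ k l, XX V v k ≤ CC v l := fun k l => (X_le_T D k).trans (D.T_le_C l)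
  refine cr_mk (N_le_X D i) (N_le_X D j) (X_comm D i) (X_comm D j) ((hC i j).trans (C_le_N_X D j))
    ((hC j i).trans (C_le_N_X D i)) ((hC i j).trans (D.C_le_N_N j)) ((hC j i).trans (D.C_le_N_N i))
    (D.v_sq i) (D.v_sq j) (D.v_ne hij) (fun x hx y hy hyN => ?_) (fun x hx y hy hyN => ?_) ?_ ?_
  · exact com_XQ D i hx (D.f3 i ⟨X_le_O D j hy, hyN⟩)
  · exact com_XQ D j hx (D.f3 j ⟨X_le_O D i hy, hyN⟩)
  · exact no_of D hML hK i (X_le_O D j) (D.WN_sq j)
  · exact no_of D hML hK j (X_le_O D i) (D.WN_sq i)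

section

variable (hML : ML.Final.MLK.{u, u}) (hK : ∀ i, IsKGroup (CC v i)) (hV : ∀ i, ¬ V i ≤ NU V v i)
  (hfix : ∀ i, FixE T v i)
  (hmv : ∀ i, ∃ A ∈ AA (o2 (centralizer (zc T : Set G))), ¬ A ≤ centralizer (V i : Set G))

include hML hK hV hfix hmv

theorem comm_of_first {i j : Fin 2}
    (h : XX V v i ≤ NU V v i ⊔ (XX V v i ⊓ centralizer (XX V v j : Set G))) :
    XX V v i ≤ centralizer (XX V v j : Set G) := by
  have hC : XX V v j ≤ CC v i := (X_le_T D j).trans (D.T_le_C i)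
  have h1 : XX V v j ≤ centralizer (NU V v i : Set G) := fun y hy =>
    thmG_side D (hfix i) (hV i) (hmv (i + 1)) (hC hy) fun x hx =>
      comm_of_dich (X_comm D i) (N_le_X D i) (hC.trans (D.C_le_N_N i)) h hx hy
  exact h.trans (sup_le (comm_symm h1) inf_le_right)

/-- **distance one** -/
theorem comm_one (hW : ∃ k, WU V v (k + 1) ≤ centralizer (NU V v k : Set G)) {i j : Fin 2} (hij : i ≠ j) :
    XX V v i ≤ centralizer (XX V v j : Set G) := by
  have key : ∀ {i j : Fin 2}, i ≠ j → XX V v i ≤ centralizer (XX V v j : Set G) ∨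
      ¬ WU V v i ≤ centralizer (NU V v j : Set G) := by
    intro i j hij
    have h := cr_one D hML hK hij
    rcases h.dich with h1 | ⟨-, x, hx, m, hm, hxm, -⟩
    · exact Or.inl (comm_of_first D hML hK hV hfix hmv h1)
    · refine Or.inr fun hc => hxm ?_
      have h2 : XX V v i ≤ centralizer ({m} : Set G) := by
        refine sup_le (fun w hw => ?_) fun n hn => ?_
        · rw [mem_centralizer_singleton_iff]
          exact (mem_centralizer_iff.1 (hc hw) m hm.1).symm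
        · rw [mem_centralizer_singleton_iff]
          exact mem_centralizer_iff.1 hm.2 n hn
      exact commutatorElement_eq_one_iff_mul_comm.2 (mem_centralizer_singleton_iff.1 (h2 hx))
  obtain ⟨k, hk⟩ := hW
  rcases key hij with h | h
  · exact h
  · rcases key hij.symm with h' | h'
    · exact comm_symm h'
    · exfalso
      rcases eq_or_ne k i with e | e
      · rw [e, ← eq_add_one hij] at hk
        exact h' hk
      · have e' : k = j := fin2 i j k hij e
        rw [e', ← eq_add_one hij.symm] at hk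
        exact h hk

omit hV hmv hfix in
/-- `X_j ≤ Q_i` -/
theorem X_le_Q' {i j : Fin 2} (h : XX V v i ≤ centralizer (XX V v j : Set G)) : XX V v j ≤ QQ v i :=
  fun _ hx => D.f3 i ⟨X_le_O D j hx, comm_symm h hx |> centralizer_le (N_le_X D i)⟩

/-- **distance two** -/
theorem comm_two {i j : Fin 2} (hij : i ≠ j) (h1 : XX V v i ≤ centralizer (XX V v j : Set G))
    (hI : NU V v 0 ⊓ NU V v 1 ≤ zc T) {c : G} (hc : c ∈ CC v i) :
    (MulAut.conj c • XX V v j : Subgroup G) ≤ centralizer (XX V v j : Set G) := by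
  by_contra hne
  have hXQ : XX V v j ≤ QQ v i := X_le_Q' D hML hK h1
  have hcQ : ∀ {k : G}, k ∈ CC v i → (MulAut.conj k • XX V v j : Subgroup G) ≤ QQ v i := fun {k} hk => by
    rw [← D.conj_QQ hk]
    exact conj_le_iff.2 hXQ
  have hci : c⁻¹ ∈ CC v i := inv_mem hc
  have hQT : QQ v i ≤ T := D.Q_le_T i
  have hQC : ∀ k, QQ v i ≤ CC v k := fun k => hQT.trans (D.T_le_C k)
  have hNj : ∀ k ∈ QQ v i, k ∈ normalizer (XX V v j : Set G) := fun k hk => C_le_N_X D j (hQC j hk)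
  -- the two elements
  set a := c * v j * c⁻¹ with ha
  have ha2 : a * a = 1 := by
    have e : a * a = c * (v j * v j) * c⁻¹ := by rw [ha]; group
    rw [e, D.v_sq]; group
  have hab : a ≠ v j := by
    intro e
    have h2 : c ∈ CC v j := by
      rw [mem_centralizer_singleton_iff]
      calc c * v j = a * c := by rw [ha]; group
        _ = v j * c := by rw [e]
    apply hne
    rw [conj_eq_of_mem (C_le_N_X D j h2)]
    exact X_comm D j
  have hcj : ∀ {y : G}, y ∈ QQ v i → c⁻¹ * y * c ∈ QQ v i := fun {y} hy => by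
    have h2 := (mem_normalizer_iff.1 (MinSimple.VModule.le_normalizer_o2 _ hci) y).1 hy
    rwa [inv_inv] at h2
  have hCr : Cr (zpowers a) (zpowers (v j)) (MulAut.conj c • NU V v j) (NU V v j) (MulAut.conj c • XX V v j)
      (XX V v j) := by
    refine cr_mk (conj_le_iff.2 (N_le_X D j)) (N_le_X D j) (conj_le_centralizer (X_comm D j)) (X_comm D j)
      (((hcQ hc).trans (hQC j)).trans (C_le_N_X D j)) ?_ (((hcQ hc).trans (hQC j)).trans (D.C_le_N_N j)) ?_
      ha2 (D.v_sq j) hab (fun x hx y hy hyN => ?_) (fun x hx y hy hyN => ?_) ?_ ?_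
    · intro y hy
      rw [NoFF.Main.normalizer_conj, mem_conj]
      exact hNj _ (hcj (hXQ hy))
    · intro y hy
      rw [NoFF.Main.normalizer_conj, mem_conj]
      exact D.C_le_N_N j (hQC j (hcj (hXQ hy)))
    · -- `[X^c, C(N^c)]`
      rw [mem_conj] at hx
      have h2 : c⁻¹ * y * c ∈ centralizer (NU V v j : Set G) := by
        refine mem_centralizer_iff.2 fun n hn => ?_
        have h3 := mem_centralizer_iff.1 hyN (c * n * c⁻¹) ⟨n, hn, rfl⟩
        calc n * (c⁻¹ * y * c) = c⁻¹ * (c * n * c⁻¹ * y) * c := by group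
          _ = c⁻¹ * (y * (c * n * c⁻¹)) * c := by rw [h3]
          _ = c⁻¹ * y * c * n := by group
      have h3 : c⁻¹ * y * c ∈ QQ v j := D.f3 j ⟨D.Q_le_o2D i (hcj (hXQ hy)), h2⟩
      have h4 := com_XQ D j hx h3
      rcases mem_zp' (D.v_sq j) h4 with h5 | h5
      · have e : x * y * x⁻¹ * y⁻¹ = c * (c⁻¹ * x * c * (c⁻¹ * y * c) * (c⁻¹ * x * c)⁻¹ * (c⁻¹ * y * c)⁻¹) * c⁻¹ := by
          group
        rw [e, h5, mul_one, mul_inv_cancel]
        exact one_mem _
      · have e : x * y * x⁻¹ * y⁻¹ = c * (c⁻¹ * x * c * (c⁻¹ * y * c) * (c⁻¹ * x * c)⁻¹ * (c⁻¹ * y * c)⁻¹) * c⁻¹ := by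
          group
        rw [e, h5]
        exact mem_zpowers _
    · exact com_XQ D j hx (D.f3 j ⟨D.Q_le_o2D i (hcQ hc hy), hyN⟩)
    · have e1 : centralizer ((MulAut.conj c • NU V v j : Subgroup G) : Set G) =
          MulAut.conj c • centralizer (NU V v j : Set G) := (ChoiceBase.cj_centralizer c _).symm
      have e2 : XX V v j = MulAut.conj c • (MulAut.conj c⁻¹ • XX V v j : Subgroup G) := by
        rw [conj_conj, mul_inv_cancel, map_one, one_smul]
      have e3 : centralizer (XX V v j : Set G) =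
          MulAut.conj c • centralizer ((MulAut.conj c⁻¹ • XX V v j : Subgroup G) : Set G) := by
        conv_lhs => rw [e2]
        exact (ChoiceBase.cj_centralizer c _).symm
      rw [e1, e3]
      conv_lhs => rw [e2]
      rw [relIndex_pointwise_smul, relIndex_pointwise_smul]
      refine no_of D hML hK j ((hcQ hci).trans (D.Q_le_o2D i)) ?_
      rintro _ ⟨y, hy, rfl⟩
      change (c⁻¹ * y * c⁻¹⁻¹) ^ 2 = 1
      rw [conj_pow, D.WN_sq j y hy, mul_one, mul_inv_cancel]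
    · refine no_of D hML hK j ((hcQ hc).trans (D.Q_le_o2D i)) ?_
      rintro _ ⟨y, hy, rfl⟩
      change (c * y * c⁻¹) ^ 2 = 1
      rw [conj_pow, D.WN_sq j y hy, mul_one, mul_inv_cancel]
  rcases hCr.dich with h | ⟨h, -⟩
  · -- THEOREM G
    apply hne
    have h2 : XX V v j ≤ centralizer ((MulAut.conj c • NU V v j : Subgroup G) : Set G) := fun y hy =>
      gside D (hfix j) (hV j) (hmv (j + 1)) (hQC j (hcj (hXQ hy))) fun x hx =>
        comm_of_dich (conj_le_centralizer (X_comm D j)) hCr.NX hCr.YnN h hx hy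
    exact h.trans (sup_le (comm_symm h2) inf_le_right)
  · -- `a ∈ N_i ∩ N_j`
    have h2 : a ∈ NU V v j := h (mem_zpowers a)
    have h3 : a ∈ NU V v i := by
      have h4 : v j ∈ NU V v i := by
        rw [eq_add_one hij]; exact D.mem_N i
      exact (mem_normalizer_iff.1 (D.C_le_N_N i hc) _).1 h4
    have h4 : a ∈ zc T := by
      apply hI
      rcases ThmI.fin_two_cases hij with ⟨e1, e2⟩ | ⟨e1, e2⟩
      · rw [← e1, ← e2]; exact ⟨h3, h2⟩
      · rw [← e1, ← e2]; exact ⟨h2, h3⟩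
    rcases zc_cases D hij h4 with e | e | e | e
    · exact D.ne j (conj_eq_one_iff.1 e)
    · have h5 : c⁻¹ * v i * c = v i := by
        have := mem_centralizer_singleton_iff.1 hci
        rw [this]; group
      have h6 : c⁻¹ * a * c = v j := by rw [ha]; group
      rw [e, h5] at h6
      exact D.v_ne hij h6
    · exact hab e
    · exact D.thmI_not_conj hij hc e

end

end Cfsg.Agent.Omega.TC.RSix

end

section


/-!
# (E), least distance at least 3, all `q` (helper997, TEXT Q4 #20474 (2); helper609, TEXT R5 #19750 (4))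

`Peel.false_of_three` without `|Z_0| = 2`: points of arbitrary order.

* `ThmC2 Z X` : THEOREM C for 2-subgroups `B ≤ C(a)`: `[X_a, B] ≤ N_a` implies `[N_a, B] = 1`; `TB Z X` : what is used
  of it; `tb_of`;
* `TIp Z` : points are t.i.; `NobX Z X` : `|B : C_B(X_a)| ≤ |X_a : C(B)|` for `B ≤ Q_a` (the pairing `X_a × Q_a → a`);
* `FixN Z` : an element of `Q_b`, `b ~ a`, which normalises all points `u ~ a` centralises `N_a`;
* `false_of_three`, `far`;
* `fixN_of`, `nobX_of` : `FixN`, `NobX` from the lines.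
-/

set_option autoImplicit false
set_option linter.unusedSectionVars false

namespace Cfsg.Agent.Omega.OM.PG.PeelQ

open Subgroup Cfsg Cfsg.Agent.ZN Cfsg.Agent.Omega.MinPar
open Cfsg.Agent.Omega.OM.PG Cfsg.Agent.Omega.OM.PG.Peel
open Cfsg.Agent.Omega.NO3S.EThree Cfsg.Agent.Omega.NO3S.EThree.ExactA
open Cfsg.Agent.ZN.ChoiceBase (AA mm mm_eq mem_AA_iff AA_nonempty card_le_mm cj_mem_AA mm_cj mm_mono)
open Cfsg.Agent.Omega.NoFF.Basic (conj_conj mem_conj conj_le_iff conj_le_centralizer comm_symm comm_mono)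
open Cfsg.Agent.Omega.NO3S.ML (card_mul_relIndex card_sup_mul_of_comm)
open scoped Pointwise

universe u

variable {G : Type u} [Group G]

/-- THEOREM C for 2-subgroups of `C(a)`. -/
def ThmC2 (Z : Fin 2 → Subgroup G) (X : Subgroup G → Subgroup G) : Prop :=
  ∀ a : Subgroup G, IsPt Z a → ∀ B : Subgroup G, IsPGroup 2 B → B ≤ centralizer (a : Set G) →
    (∀ x ∈ X a, ∀ g ∈ B, x * g * x⁻¹ * g⁻¹ ∈ NN Z a) → B ≤ centralizer (NN Z a : Set G)

/-- `(1b)` of THEOREM R / THEOREM C: `B ∈ AA Q_a`, `a ~ u`, `C_B(N_u)` centralises `X_u`: `B` centralises `N_u` -/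
def TB (Z : Fin 2 → Subgroup G) (X : Subgroup G → Subgroup G) : Prop :=
  ∀ a u : Subgroup G, Adj Z a u → ∀ B ∈ AA (QQ a),
    B ⊓ centralizer (NN Z u : Set G) ≤ centralizer (X u : Set G) → B ≤ centralizer (NN Z u : Set G)

/-- points are t.i. -/
def TIp (Z : Fin 2 → Subgroup G) : Prop :=
  ∀ a b : Subgroup G, IsPt Z a → IsPt Z b → a ≠ b → a ⊓ b = ⊥

/-- `(NO)` for `Q_a` on `X_a` -/
def NobX (Z : Fin 2 → Subgroup G) (X : Subgroup G → Subgroup G) : Prop :=
  ∀ a : Subgroup G, IsPt Z a → ∀ B : Subgroup G, IsElementaryAbelian 2 B → B ≤ QQ a → Nob (X a) B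

/-- an element of `Q_b` which normalises all points `u ~ a` centralises `N_a`, `a ~ b` -/
def FixN (Z : Fin 2 → Subgroup G) : Prop :=
  ∀ a b : Subgroup G, Adj Z a b → ∀ x ∈ QQ b, (∀ u : Subgroup G, Adj Z a u → MulAut.conj x • u = u) →
    x ∈ centralizer (NN Z a : Set G)

theorem ti_one {Z : Fin 2 → Subgroup G} (hti : TIp Z) {a b : Subgroup G} (ha : IsPt Z a) (hb : IsPt Z b)
    (hne : a ≠ b) {x : G} (hxa : x ∈ a) (hxb : x ∈ b) : x = 1 := by
  have h1 : x ∈ a ⊓ b := ⟨hxa, hxb⟩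
  rwa [hti a b ha hb hne, mem_bot] at h1

variable [Finite G]

section main

variable {Z U : Fin 2 → Subgroup G} (P : PP Z U) {X : Subgroup G → Subgroup G} (F : XF Z X)
  (hX : ∀ m ≤ 2, ∀ a b : Subgroup G, Pth Z m a b → X a ≤ centralizer (X b : Set G))
  (hN : NobX Z X)

include P F hX
include hN

/-- `(NO)` for `C_{Q_a}(M_a)` on `Y_a` -/
theorem nobY0 {a B : Subgroup G} (hB : IsElementaryAbelian 2 B) (hBQ : B ≤ QQ a)
    (hBM : B ≤ centralizer (MM Z a : Set G)) : Nob (YY Z X a) B := by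
  refine no_sup (ι := {u : Subgroup G // Adj Z a u}) (N := fun u => X u) (M := YY Z X a)
    (Q := QQ a ⊓ centralizer (MM Z a : Set G)) (fun u => X_le_YY u.2) le_rfl (fun u B hB hBQ => ?_) B hB (le_inf hBQ hBM)
  exact hN _ (P.adj_pt u.2) _ hB (cent_MM_le P F hX u.2 (hBQ.trans inf_le_left) (hBQ.trans inf_le_right))

variable (hNO : NoP Z)
include hNO

/-- `(NO)` for `Q_a` on `Y_a` -/
theorem nobY1 {a B : Subgroup G} (hB : IsElementaryAbelian 2 B) (hBQ : B ≤ QQ a) : Nob (YY Z X a) B :=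
  nob_of (MM_le_YY P F hX) (MM_no P (hC P F hX) hNO hB hBQ)
    (nobY0 P F hX hN (eab_mono hB inf_le_left) (inf_le_left.trans hBQ) inf_le_right)

/-- `(NO)` for `Q_b` on `Y_a`, `a ~ b` -/
theorem nobY2 {a b B : Subgroup G} (h : Adj Z a b) (hB : IsElementaryAbelian 2 B) (hBQ : B ≤ QQ b) :
    Nob (YY Z X a) B :=
  nob_of (NN_le_YY P F hX) (hNO b a (P.adj_symm h) B hB hBQ)
    (nobY1 P F hX hN hNO (eab_mono hB inf_le_left) (P.f3 h (inf_le_left.trans hBQ) inf_le_right))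

theorem nobT1 {a B : Subgroup G} (ha : IsPt Z a) (hB : IsElementaryAbelian 2 B) (hBQ : B ≤ QQ a) :
    Nob (MM Z a ⊔ NN Z a) B :=
  nob_of le_sup_left (MM_no P (hC P F hX) hNO hB hBQ) (nob_of_le (comm_symm (sup_le (comm_symm inf_le_right)
    (comm_symm (inf_le_left.trans (hBQ.trans (P.QQ_le_cent ha)))))))

theorem nobT2 {a b B : Subgroup G} (h : Adj Z a b) (hB : IsElementaryAbelian 2 B) (hBQ : B ≤ QQ b) :
    Nob (MM Z a ⊔ NN Z a) B :=
  nob_of le_sup_right (hNO b a (P.adj_symm h) B hB hBQ)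
    (nobT1 P F hX hN hNO h.pt (eab_mono hB inf_le_left) (P.f3 h (inf_le_left.trans hBQ) inf_le_right))

/-- `AA Q` for `Q ≥ Y` : exact on `Y_a` -/
theorem exaY {a A Q : Subgroup G} (hYQ : YY Z X a ≤ Q) (hA : A ∈ AA Q) (h : Nob (YY Z X a) A) :
    Exa (YY Z X a) A :=
  (swp (YY_eab P F hX) hYQ hA h).1

/-- THEOREM C for 2-subgroups gives `TB` (critical distance at least `3`) -/
theorem tb_of (hG : ThmC2 Z X) : TB Z X := by
  intro a u hau B hB h3
  obtain ⟨-, h4⟩ := exa_peel (N := YY Z X a) (V := NN Z u) (B := B)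
    ((F.NX _ (P.adj_pt hau)).trans (X_le_YY hau))
    (exaY P F hX hN hNO (YY_le_QQ P F hX) hB (nobY1 P F hX hN hNO hB.1 hB.2.1))
    (hNO a u hau B hB.1 hB.2.1)
    (nobY1 P F hX hN hNO (eab_mono hB.1 inf_le_left) (inf_le_left.trans hB.2.1))
  refine hG u (P.adj_pt hau) B (MinSimple.VModule.o2_isPGroup _ |>.to_le hB.2.1)
    (hB.2.1.trans ((P.QQ_le_cent hau.pt).trans (centralizer_le hau.le_NN))) fun x hx g hg => ?_
  have hgu : g ∈ HH u := P.QQ_le_HH (P.adj_symm hau) (hB.2.1 hg)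
  have h5 : x ∈ YY Z X a ⊓ centralizer ((B ⊓ centralizer (NN Z u : Set G) : Subgroup G) : Set G) :=
    ⟨X_le_YY hau hx, mem_centralizer_iff.2 fun b hb => (mem_centralizer_iff.1 (h3 hb) x hx).symm⟩
  obtain ⟨n, hn, y, hy, rfl⟩ := exists_mul_of_comm (V := NN Z u) (D := YY Z X a ⊓ centralizer (B : Set G))
    (((F.NX _ (P.adj_pt hau)).trans (X_le_YY hau)).trans ((YY_comm P F hX).trans (centralizer_le inf_le_left))) (h4 h5)
  have e1 : g * y = y * g := mem_centralizer_iff.1 hy.2 g hg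
  have e2 : n * y * g * (n * y)⁻¹ * g⁻¹ = n * (g * n⁻¹ * g⁻¹) := by
    calc n * y * g * (n * y)⁻¹ * g⁻¹ = n * (y * g) * y⁻¹ * n⁻¹ * g⁻¹ := by group
      _ = n * (g * y) * y⁻¹ * n⁻¹ * g⁻¹ := by rw [e1]
      _ = _ := by group
  rw [e2]
  exact mul_mem hn ((mem_normalizer_iff.1 (PP.HH_le_NN u hgu) _).1 (inv_mem hn))

variable (hG : TB Z X) (hti : TIp Z)

include hG in
/-- some `B ∈ AA Q_a` centralises `M_a` and moves `Y_a` -/
theorem exists_B (hne : jj (QQ (Z 0)) ≠ ⊥) {a u₀ : Subgroup G} (h₀ : Adj Z a u₀) :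
    ∃ B ∈ AA (QQ a), B ≤ centralizer (MM Z a : Set G) ∧ ¬ B ≤ centralizer (YY Z X a : Set G) := by
  obtain ⟨B, hB⟩ := exists_minA_MM P (hC P F hX) hne h₀
  obtain ⟨⟨u, hau⟩, hu⟩ := not_le_iSup hB.mov
  replace hu : ¬ B ≤ centralizer (NN Z u : Set G) := hu
  obtain ⟨h1, -, -, -, -⟩ := hB.nbr P (hC P F hX) hNO hau hu
  obtain ⟨-, -, h2, -⟩ := exact P (hC1 P (hC P F hX)) hNO hau hB.mem
  refine ⟨_, h2, sup_le h1 ((NN_le_MM P (hC P F hX) hau).trans (MM_comm P (hC P F hX))), fun hcon => ?_⟩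
  -- `C_B(N_u)` centralises `X_u`
  exact hu (hG a u hau B hB.mem ((le_sup_left.trans hcon).trans (centralizer_le (X_le_YY hau))))

include hG hti in
/-- **(a)** -/
theorem sep (hne : jj (QQ (Z 0)) ≠ ⊥) {a u : Subgroup G} (h : Adj Z a u) : Sep Z X a u := by
  obtain ⟨B, hB, hBM, hBY⟩ := exists_B P F hX hN hNO hG hne h
  set Q' := QQ a ⊓ centralizer (MM Z a : Set G) with hQ'
  have hBQ' : B ∈ AA Q' := ⟨hB.1, le_inf hB.2.1 hBM, fun D hD hDQ => hB.2.2 D hD (hDQ.trans inf_le_left)⟩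
  obtain ⟨C, hCm⟩ := exists_minA hBQ' hBY
  obtain ⟨⟨u', hau'⟩, hu'⟩ := not_le_iSup hCm.mov
  replace hu' : ¬ C ≤ centralizer (X u' : Set G) := hu'
  have hCQ : C ≤ QQ a := hCm.mem.2.1.trans inf_le_left
  have hCM : C ≤ centralizer (MM Z a : Set G) := hCm.mem.2.1.trans inf_le_right
  have hCu : ∀ p, Adj Z a p → C ≤ QQ p := fun p hp => cent_MM_le P F hX hp hCQ hCM
  have hYQ' : YY Z X a ≤ Q' :=
    le_inf (YY_le_QQ P F hX) ((YY_comm P F hX).trans (centralizer_le (MM_le_YY P F hX)))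
  obtain ⟨-, -, -, h4⟩ := hCm.cap (YY_eab P F hX) hYQ' (X_le_YY hau') hu'
    (hN _ (P.adj_pt hau') _ hCm.mem.1 (hCu _ hau'))
  obtain ⟨g, hgC, hgu⟩ := SetLike.not_le_iff_exists.1 hu'
  have h5 : Sep Z X a u' := by
    refine ⟨g, hCQ hgC, hCM hgC, fun p hp hne' => ?_, hgu⟩
    refine mem_centralizer_iff.2 fun x hx => ?_
    have h6 : x * g * x⁻¹ * g⁻¹ ∈ u' := by
      obtain ⟨v, hv, e⟩ := h4 x (X_le_YY hp hx) g hgC
      rw [e]
      exact F.com u' (P.adj_pt hau') v hv g (hCu _ hau' hgC)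
    have h7 : x * g * x⁻¹ * g⁻¹ ∈ p := F.com p (P.adj_pt hp) x hx g (hCu _ hp hgC)
    have h8 := ti_one hti (P.adj_pt hp) (P.adj_pt hau') hne' h7 h6
    calc x * g = (x * g * x⁻¹ * g⁻¹) * (g * x) := by group
      _ = g * x := by rw [h8, one_mul]
  -- all pairs are conjugate
  obtain ⟨k, hk0, hk1⟩ := hau'
  obtain ⟨l, hl0, hl1⟩ := h
  have h9 := h5.conj P F ⟨k, hk0, hk1⟩ (l * k⁻¹)
  have e : ∀ A B C : Subgroup G, A = MulAut.conj k • C → B = MulAut.conj l • C → MulAut.conj (l * k⁻¹) • A = B := by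
    rintro _ _ C rfl rfl
    rw [conj_conj, inv_mul_cancel_right]
  rwa [e _ _ _ hk0 hl0, e _ _ _ hk1 hl1] at h9

include hG hti in
/-- **TEXT R5 (4)**: least distance at least three is impossible. -/
theorem false_of_three (hne : jj (QQ (Z 0)) ≠ ⊥) (hfx : FixN Z) : False := by
  have h0 : IsPt Z (Z 0) := ⟨1, by rw [map_one, one_smul]⟩
  have hab : Adj Z (Z 0) (Z 1) := ⟨1, by rw [map_one, one_smul], by rw [map_one, one_smul]⟩
  obtain ⟨A, hA, hmov⟩ := moves P hne (P.adj_symm hab)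
  set a := Z 0 with ha
  set b := Z 1 with hb
  obtain ⟨x, hxA, hxN⟩ := SetLike.not_le_iff_exists.1 hmov
  obtain ⟨u, hau, hxu⟩ : ∃ u : Subgroup G, Adj Z a u ∧ MulAut.conj x • u ≠ u := by
    by_contra hcon
    push Not at hcon
    exact hxN (hfx a b hab x (hA.2.1 hxA) hcon)
  have hAab := (eab_iff.1 hA.1).1
  have hAa : A ≤ HH a := hA.2.1.trans (P.QQ_le_HH hab)
  have hxa : MulAut.conj x • a = a := Cfsg.Agent.Omega.NOThreeL.Pair.conj_eq_of_mem (hAa hxA)
  set u' := MulAut.conj x • u with hu'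
  have hau' : Adj Z a u' := by
    have h1 := hau.conj x
    rwa [hxa] at h1
  have hupt := P.adj_pt hau
  have hne' : u' ≠ u := hxu
  obtain ⟨g, hgQ, hgM, hgX, hgu⟩ := sep P F hX hN hNO hG hti hne hau
  set T := MM Z a ⊔ NN Z a with hT
  have hTY : T ≤ YY Z X a := sup_le (MM_le_YY P F hX) (NN_le_YY P F hX)
  set AM := A ⊓ centralizer (T : Set G) with hAM
  have hAMQ : AM ≤ QQ a := P.f3 hab (inf_le_left.trans hA.2.1) (inf_le_right.trans (centralizer_le (le_sup_right : NN Z a ≤ T)))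
  have hAMe : IsElementaryAbelian 2 AM := eab_mono hA.1 inf_le_left
  have hAMM : AM ≤ centralizer (MM Z a : Set G) := inf_le_right.trans (centralizer_le (le_sup_left : MM Z a ≤ T))
  have hAMu : ∀ p, Adj Z a p → AM ≤ QQ p := fun p hp => cent_MM_le P F hX hp hAMQ hAMM
  have hE := exaY P F hX hN hNO (YY_le_QQ' P F hX hab) hA (nobY2 P F hX hN hNO hab hA.1 hA.2.1)
  obtain ⟨h1, h2⟩ := exa_peel hTY hE (nobT2 P F hX hN hNO hab hA.1 hA.2.1) (nobY1 P F hX hN hNO hAMe hAMQ)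
  obtain ⟨-, h3⟩ := exa_peel (X_le_YY hau) h1 (hN _ hupt _ hAMe (hAMu _ hau))
    (nobY1 P F hX hN hNO (eab_mono hAMe inf_le_left) (inf_le_left.trans hAMQ))
  have hYc := YY_comm P F hX (a := a)
  have hXu' : X u' = MulAut.conj x • X u := F.conj x u hupt
  -- `A_M` centralises `X_u'`
  have h4 : AM ≤ centralizer (X u' : Set G) := by
    intro y hy
    refine mem_centralizer_iff.2 fun s hs => ?_
    have h5 : s ∈ YY Z X a ⊓ centralizer ((AM ⊓ centralizer (X u : Set G) : Subgroup G) : Set G) := by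
      refine ⟨X_le_YY hau' hs, mem_centralizer_iff.2 fun w hw => ?_⟩
      rw [hXu'] at hs
      obtain ⟨t, ht, rfl⟩ := hs
      have e1 : x * w = w * x := mem_centralizer_iff.1 (hAab hw.1.1) x hxA
      have e2 : t * w = w * t := mem_centralizer_iff.1 hw.2 t ht
      change w * (x * t * x⁻¹) = x * t * x⁻¹ * w
      have e3 : x⁻¹ * w = w * x⁻¹ := mem_centralizer_iff.1 (hAab hw.1.1) x⁻¹ (inv_mem hxA)
      calc w * (x * t * x⁻¹) = (w * x) * t * x⁻¹ := by group
        _ = x * (w * t) * x⁻¹ := by rw [← e1]; group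
        _ = x * t * (w * x⁻¹) := by rw [← e2]; group
        _ = x * t * x⁻¹ * w := by rw [← e3]; group
    obtain ⟨v, hv, w, hw, rfl⟩ := exists_mul_of_comm (V := X u)
      (D := YY Z X a ⊓ centralizer (AM : Set G)) ((X_le_YY hau).trans (hYc.trans (centralizer_le inf_le_left))) (h3 h5)
    have e1 : y * w = w * y := mem_centralizer_iff.1 hw.2 y hy
    have e2 : v * w * y * (v * w)⁻¹ * y⁻¹ = v * y * v⁻¹ * y⁻¹ := by
      calc v * w * y * (v * w)⁻¹ * y⁻¹ = v * (w * y) * w⁻¹ * v⁻¹ * y⁻¹ := by group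
        _ = v * (y * w) * w⁻¹ * v⁻¹ * y⁻¹ := by rw [e1]
        _ = _ := by group
    have h6 : v * w * y * (v * w)⁻¹ * y⁻¹ ∈ u := by
      rw [e2]
      exact F.com u hupt v hv y (hAMu _ hau hy)
    have h7 : v * w * y * (v * w)⁻¹ * y⁻¹ ∈ u' := F.com u' (P.adj_pt hau') _ hs y (hAMu _ hau' hy)
    have h8 := ti_one hti (P.adj_pt hau') hupt hne' h7 h6
    calc v * w * y = (v * w * y * (v * w)⁻¹ * y⁻¹) * (y * (v * w)) := by group
      _ = y * (v * w) := by rw [h8, one_mul]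
  -- `A_M` centralises `X_u`
  have h5 : AM ≤ centralizer (X u : Set G) := by
    intro y hy
    have e1 : x * y * x⁻¹ = y := by
      have : x * y = y * x := mem_centralizer_iff.1 (hAab hy.1) x hxA
      rw [this]; group
    have h6 := h4 hy
    rw [hXu', ← e1, mem_cent_conj] at h6
    exact h6
  -- `X_u ≤ T X_u'`
  apply hgu
  refine mem_centralizer_iff.2 fun s hs => ?_
  have hgT : g ∈ centralizer (T : Set G) := by
    have h6 : T ≤ centralizer ({g} : Set G) := by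
      refine sup_le (fun t ht => ?_) fun t ht => ?_
      · rw [mem_centralizer_singleton_iff]
        exact mem_centralizer_iff.1 hgM t ht
      · rw [mem_centralizer_singleton_iff]
        exact mem_centralizer_iff.1 (P.QQ_le_cent h0 hgQ) t ht
    exact mem_centralizer_iff.2 fun t ht => mem_centralizer_singleton_iff.1 (h6 ht)
  have hxT : ∀ t ∈ T, x * t * x⁻¹ ∈ T := by
    intro t ht
    have h6 : MulAut.conj x • T = T := by
      rw [hT, Subgroup.smul_sup, ← MM_conj, ← NN_conj, hxa]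
    rw [← h6]
    exact ⟨t, ht, rfl⟩
  obtain ⟨t, ht, c, hc, rfl⟩ := exists_mul_of_comm (V := T) (D := YY Z X a ⊓ centralizer (A : Set G))
    (hTY.trans (hYc.trans (centralizer_le inf_le_left)))
    (h2 ⟨X_le_YY hau hs, mem_centralizer_iff.2 fun y hy => (mem_centralizer_iff.1 (h5 hy) s hs).symm⟩)
  have e1 : x * c = c * x := mem_centralizer_iff.1 hc.2 x hxA
  have e2 : x * (t * c) * x⁻¹ = x * t * x⁻¹ * c := by
    calc x * (t * c) * x⁻¹ = x * t * x⁻¹ * (x * c) * x⁻¹ := by group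
      _ = x * t * x⁻¹ * (c * x) * x⁻¹ := by rw [e1]
      _ = x * t * x⁻¹ * c := by group
  have k1 : t ∈ centralizer ({g} : Set G) := by
    rw [mem_centralizer_singleton_iff]
    exact mem_centralizer_iff.1 hgT t ht
  have k2 : x * t * x⁻¹ ∈ centralizer ({g} : Set G) := by
    rw [mem_centralizer_singleton_iff]
    exact mem_centralizer_iff.1 hgT _ (hxT t ht)
  have k3 : x * t * x⁻¹ * c ∈ centralizer ({g} : Set G) := by
    rw [mem_centralizer_singleton_iff, ← e2]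
    refine mem_centralizer_iff.1 (hgX u' hau' hne') _ ?_
    rw [hXu']
    exact ⟨_, hs, rfl⟩
  have k4 : c ∈ centralizer ({g} : Set G) := by
    have := mul_mem (inv_mem k2) k3
    rwa [inv_mul_cancel_left] at this
  exact mem_centralizer_singleton_iff.1 (mul_mem k1 k4)

end main

/-! ### `FixN`, `NobX` from the lines -/

section lines

variable {Z U : Fin 2 → Subgroup G}

/-- A 2-element acting on a nontrivial elementary abelian 2-group has a nontrivial fixed point. -/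
theorem exists_fx {M : Subgroup G} {x : G} (hx : IsPGroup 2 (zpowers x)) (hM : ∀ y ∈ M, y ^ 2 = 1) (hM1 : M ≠ ⊥)
    (hn : x ∈ normalizer (M : Set G)) : ∃ v ∈ M, v ≠ 1 ∧ x * v * x⁻¹ = v := by
  have : Fact (Nat.Prime 2) := ⟨Nat.prime_two⟩
  have hn' : ∀ y ∈ zpowers x, ∀ v ∈ M, y * v * y⁻¹ ∈ M := fun y hy v hv =>
    (mem_normalizer_iff.1 ((zpowers_le (H := normalizer (M : Set G))).2 hn hy) v).1 hv
  let act : MulAction (zpowers x) M :=
    { smul := fun x v => ⟨(x : G) * v * (x : G)⁻¹, hn' x x.2 v v.2⟩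
      one_smul := fun v => Subtype.ext (by show (1 : G) * v * (1 : G)⁻¹ = v; group)
      mul_smul := fun x y v => Subtype.ext (by
        show ((x : G) * y) * v * ((x : G) * y)⁻¹ = x * (y * v * (y : G)⁻¹) * (x : G)⁻¹; group) }
  have hMp : IsPGroup 2 M := fun y => ⟨1, Subtype.ext (hM y y.2)⟩
  have h2 : 2 ∣ Nat.card M := by
    obtain ⟨n, hn⟩ := IsPGroup.iff_card.1 hMp
    rcases Nat.eq_zero_or_pos n with h0 | h0
    · rw [h0, pow_zero] at hn
      exact absurd (Subgroup.card_eq_one.1 hn) hM1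
    · rw [hn]; exact dvd_pow_self 2 h0.ne'
  obtain ⟨v, hv, hv1⟩ := hx.exists_fixed_point_of_prime_dvd_card_of_fixed_point M h2 (a := (1 : M))
    (fun x => Subtype.ext (by show (x : G) * 1 * (x : G)⁻¹ = 1; group))
  exact ⟨v, v.2, fun h => hv1 (Subtype.ext h.symm),
    congrArg Subtype.val (hv ⟨x, mem_zpowers x⟩)⟩

/-- a 2-element normalising all points of a line centralises the points of the line -/
theorem fix_line {l : Subgroup G} {Pt : Subgroup G → Prop} (hl : ∀ y ∈ l, ∀ z ∈ l, y * z = z * y)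
    (hsq : ∀ y ∈ l, y ^ 2 = 1) (hPl : ∀ u, Pt u → u ≤ l) (hP1 : ∀ u, Pt u → u ≠ ⊥)
    (hti : ∀ u v, Pt u → Pt v → u ≠ v → u ⊓ v = ⊥)
    (hcov : ∀ y ∈ l, y ≠ 1 → ∃ u, Pt u ∧ y ∈ u) {x : G} (hx : IsPGroup 2 (zpowers x))
    (hfx : ∀ u, Pt u → x ∈ normalizer (u : Set G)) {u u' : Subgroup G} (hu : Pt u) (hu' : Pt u') (hne : u' ≠ u) :
    x ∈ centralizer (u : Set G) := by
  obtain ⟨v', hv', hv'1, hv'x⟩ := exists_fx hx (fun y hy => hsq y (hPl u' hu' hy)) (hP1 u' hu') (hfx u' hu')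
  refine mem_centralizer_iff.2 fun v hv => ?_
  by_cases hv1 : v = 1
  · rw [hv1, one_mul, mul_one]
  have hvl := hPl u hu hv
  have hvl' := hPl u' hu' hv'
  have hvv : v * v' ≠ 1 := by
    intro e
    have h1 : v' ∈ u := by
      have h0 : v' = v⁻¹ := (inv_eq_of_mul_eq_one_right e).symm
      rw [h0]; exact inv_mem hv
    have h2 : v' ∈ u' ⊓ u := ⟨hv', h1⟩
    rw [hti u' u hu' hu hne, mem_bot] at h2
    exact hv'1 h2
  obtain ⟨w, hw, hvw⟩ := hcov _ (mul_mem hvl hvl') hvv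
  have hwu : w ≠ u := by
    rintro rfl
    have h1 : v' ∈ w := by
      have h3 := mul_mem (inv_mem hv) hvw
      rwa [inv_mul_cancel_left] at h3
    have h2 : v' ∈ u' ⊓ w := ⟨hv', h1⟩
    rw [hti u' w hu' hu hne, mem_bot] at h2
    exact hv'1 h2
  have h3 : x * (v * v') * x⁻¹ ∈ w := (mem_normalizer_iff.1 (hfx w hw) _).1 hvw
  have hxv : x * v * x⁻¹ ∈ u := (mem_normalizer_iff.1 (hfx u hu) _).1 hv
  have e1 : x * (v * v') * x⁻¹ = x * v * x⁻¹ * v' := by
    calc x * (v * v') * x⁻¹ = x * v * x⁻¹ * (x * v' * x⁻¹) := by group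
      _ = _ := by rw [hv'x]
  have h4 : x * v * x⁻¹ * v⁻¹ ∈ w := by
    have h5 := mul_mem h3 (inv_mem hvw)
    have e2 : x * (v * v') * x⁻¹ * (v * v')⁻¹ = x * v * x⁻¹ * v⁻¹ := by
      rw [e1, mul_inv_rev]; group
    rwa [e2] at h5
  have h5 : x * v * x⁻¹ * v⁻¹ ∈ w ⊓ u := ⟨h4, u.mul_mem hxv (u.inv_mem hv)⟩
  rw [hti w u hw hu hwu, mem_bot] at h5
  have e3 := mul_inv_eq_one.1 h5
  calc v * x = (x * v * x⁻¹) * x := by rw [e3]
    _ = x * v := by group

/-- the points of a line of `N_a` are neighbours of `a` -/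
theorem adj_of_line (P : PP Z U) {k m : G} (h : MulAut.conj m • Z 0 ≤ MulAut.conj k • U 1) :
    Adj Z (MulAut.conj k • Z 0) (MulAut.conj m • Z 0) := by
  obtain ⟨s, h0, h1, h2, h3⟩ := P.swap
  have h4 : MulAut.conj ((k * s)⁻¹ * m) • Z 0 ≤ U 0 := by
    rw [← h2, conj_conj] at h
    have h5 := conj_le_iff (g := (k * s)⁻¹) |>.2 h
    rwa [conj_conj, inv_conj_conj] at h5
  obtain ⟨l, hl0, hl1, -, -⟩ := P.tr _ h4
  refine P.adj_symm ⟨k * s * l, ?_, ?_⟩
  · rw [← conj_conj (k * s) l, hl0, conj_conj, mul_inv_cancel_left]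
  · rw [← conj_conj (k * s) l, hl1, ← conj_conj k s, h1]

/-- every element `≠ 1` of `U 0` lies in a point of `U 0` -/
def Pts (Z U : Fin 2 → Subgroup G) : Prop :=
  ∀ x ∈ U 0, x ≠ 1 → ∃ k : G, MulAut.conj k • Z 0 ≤ U 0 ∧ x ∈ MulAut.conj k • Z 0

/-- **`FixN`.** -/
theorem fixN_of (P : PP Z U) (hti : TIp Z) (hpts : Pts Z U) (hU : IsElementaryAbelian 2 (U 0))
    (hne : ¬ U 0 ≤ Z 0) : FixN Z := by
  intro a b hab x hx hfx
  have hx2 : IsPGroup 2 (zpowers x) := (MinSimple.VModule.o2_isPGroup _).to_le (zpowers_le.2 hx)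
  obtain ⟨s, h0, h1, h2, h3⟩ := P.swap
  have hZ1 : Z 1 = MulAut.conj s • Z 0 := h0.symm
  -- `x` centralises every neighbour
  have key : ∀ u, Adj Z a u → x ∈ centralizer (u : Set G) := by
    rintro u ⟨k, hka, rfl⟩
    have hlU : MulAut.conj k • U 1 = MulAut.conj (k * s) • U 0 := by rw [← h2, conj_conj]
    have hlE : IsElementaryAbelian 2 (MulAut.conj k • U 1 : Subgroup G) := by
      rw [hlU]; exact Peel.eab_conj hU _
    have hlE' := eab_iff.1 hlE
    have hkZ : MulAut.conj k • Z 1 = MulAut.conj (k * s) • Z 0 := by rw [hZ1, conj_conj]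
    have hPadj : ∀ w : Subgroup G, ((∃ m : G, w = MulAut.conj m • Z 0) ∧ w ≤ MulAut.conj k • U 1) → Adj Z a w := by
      rintro _ ⟨⟨m, rfl⟩, hm⟩
      rw [hka]
      exact adj_of_line P hm
    have hu : (∃ m : G, (MulAut.conj k • Z 1 : Subgroup G) = MulAut.conj m • Z 0) ∧
        (MulAut.conj k • Z 1 : Subgroup G) ≤ MulAut.conj k • U 1 := by
      refine ⟨⟨k * s, hkZ⟩, ?_⟩
      rw [hlU, hkZ]
      exact conj_le_iff.2 P.ZU
    have hcov : ∀ y ∈ (MulAut.conj k • U 1 : Subgroup G), y ≠ 1 → ∃ w : Subgroup G,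
        ((∃ m : G, w = MulAut.conj m • Z 0) ∧ w ≤ MulAut.conj k • U 1) ∧ y ∈ w := by
      intro y hy hy1
      rw [hlU] at hy ⊢
      obtain ⟨y0, hy0, rfl⟩ := hy
      obtain ⟨m, hm, hym⟩ := hpts y0 hy0 (fun e => hy1 (by rw [e]; exact map_one _))
      exact ⟨MulAut.conj (k * s) • (MulAut.conj m • Z 0), ⟨⟨(k * s) * m, conj_conj _ _ _⟩, conj_le_iff.2 hm⟩,
        ⟨y0, hym, rfl⟩⟩
    -- another point
    obtain ⟨y, hy, hyu⟩ : ∃ y ∈ (MulAut.conj k • U 1 : Subgroup G), y ∉ (MulAut.conj k • Z 1 : Subgroup G) := by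
      by_contra hcon
      push Not at hcon
      apply hne
      have h4 : (MulAut.conj k • U 1 : Subgroup G) ≤ MulAut.conj k • Z 1 := hcon
      rw [hlU, hkZ] at h4
      exact conj_le_iff.1 h4
    obtain ⟨u', hu', hyu'⟩ := hcov y hy (fun e => hyu (e ▸ one_mem _))
    have hne' : u' ≠ MulAut.conj k • Z 1 := fun e => hyu (e ▸ hyu')
    refine fix_line (l := MulAut.conj k • U 1)
      (Pt := fun w => (∃ m : G, w = MulAut.conj m • Z 0) ∧ w ≤ MulAut.conj k • U 1)
      (fun y hy z hz => (mem_centralizer_iff.1 (hlE'.1 hz) y hy)) hlE'.2 (fun w hw => hw.2) ?_ ?_ hcov hx2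
      (fun w hw => ChoiceBase.mem_normalizer_iff_cj.2 (hfx w (hPadj w hw))) hu hu' hne'
    · rintro _ ⟨⟨m, rfl⟩, -⟩ e
      apply P.ne
      have h4 : MulAut.conj m • Z 0 ≤ MulAut.conj m • (⊥ : Subgroup G) := by rw [e]; exact bot_le
      exact le_bot_iff.1 (conj_le_iff.1 h4)
    · rintro _ _ ⟨⟨m, rfl⟩, -⟩ ⟨⟨m', rfl⟩, -⟩ hne
      exact hti _ _ ⟨m, rfl⟩ ⟨m', rfl⟩ hne
  have h5 : NN Z a ≤ centralizer ({x} : Set G) := sSup_le fun u hu y hy =>
    mem_centralizer_singleton_iff.2 (mem_centralizer_iff.1 (key u hu) y hy)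
  exact mem_centralizer_iff.2 fun y hy => mem_centralizer_singleton_iff.1 (h5 hy)

theorem nob_conj {N B : Subgroup G} (h : Nob N B) (g : G) : Nob (MulAut.conj g • N) (MulAut.conj g • B) := by
  unfold Nob at *
  have e1 : centralizer ((MulAut.conj g • N : Subgroup G) : Set G) = MulAut.conj g • centralizer (N : Set G) :=
    (ZN.ChoiceBase.cj_centralizer g _).symm
  have e2 : centralizer ((MulAut.conj g • B : Subgroup G) : Set G) = MulAut.conj g • centralizer (B : Set G) :=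
    (ZN.ChoiceBase.cj_centralizer g _).symm
  rw [e1, e2, relIndex_pointwise_smul, relIndex_pointwise_smul]
  exact h

/-- `(NO)` for `Q(Z 0)` on `U 0` -/
def NobU (Z U : Fin 2 → Subgroup G) : Prop :=
  ∀ B : Subgroup G, IsElementaryAbelian 2 B → B ≤ QQ (Z 0) → Nob (U 0) B

/-- **`NobX`** -/
theorem nobX_of (P : PP Z U) (hN : NobU Z U) : NobX Z (XW Z U) := by
  intro a ha B hB hBQ
  refine no_sup (ι := Option {l : Subgroup G // LnOn Z U a l})
    (N := fun o => o.elim (NN Z a) fun l => (l : Subgroup G)) (M := XW Z U a) (Q := QQ a) ?_ ?_ ?_ B hB hBQ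
  · rintro (_ | l)
    · exact le_sup_left
    · exact ln_le_XW l.2
  · refine sup_le ?_ (iSup_le fun l => ?_)
    · exact le_iSup (fun o : Option {l : Subgroup G // LnOn Z U a l} =>
        o.elim (NN Z a) fun l => (l : Subgroup G)) none
    · exact le_iSup (fun o : Option {l : Subgroup G // LnOn Z U a l} =>
        o.elim (NN Z a) fun l => (l : Subgroup G)) (some l)
  · rintro (_ | ⟨l, k, hk, rfl⟩) B hB hBQ
    · exact nob_of_le (hBQ.trans (P.QQ_le_cent ha))
    · change Nob (MulAut.conj k • U 0) B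
      have h1 : B = MulAut.conj k • (MulAut.conj k⁻¹ • B) := (conj_inv_conj k B).symm
      rw [h1]
      refine nob_conj (hN _ (Peel.eab_conj hB _) ?_) k
      rw [hk, QQ_conj] at hBQ
      have h2 := conj_le_iff (g := k⁻¹) |>.2 hBQ
      rwa [inv_conj_conj] at h2

/-- `NobU` from the root group structure on `U 0`. -/
theorem nobU_of (P : PP Z U) (hUZ : ¬ U 0 ≤ Z 0)
    (hfree : ∀ y ∈ QQ (Z 0), ∀ v ∈ U 0, v ∉ Z 0 → y * v = v * y → y ∈ centralizer (U 0 : Set G))
    (hcard : Nat.card (U 0) = Nat.card (Z 0) * Nat.card (Z 0)) : NobU Z U := by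
  intro B hB hBQ
  by_cases hc : B ≤ centralizer (U 0 : Set G)
  · exact nob_of_le hc
  obtain ⟨b, hb, hbU⟩ := SetLike.not_le_iff_exists.1 hc
  unfold Nob
  have hZpos : 0 < Nat.card (Z 0) := Nat.card_pos
  -- `C_U(B) ≤ Z`
  have h1 : Nat.card (Z 0) ≤ (centralizer (B : Set G)).relIndex (U 0) := by
    have h2 : U 0 ⊓ centralizer (B : Set G) ≤ Z 0 := by
      rintro v ⟨hv, hvB⟩
      by_contra hvZ
      exact hbU (hfree b (hBQ hb) v hv hvZ (mem_centralizer_iff.1 hvB b hb))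
    have h3 : Nat.card (U 0 ⊓ centralizer (B : Set G) : Subgroup G) * (centralizer (B : Set G)).relIndex (U 0) =
        Nat.card (U 0) := by
      rw [← inf_relIndex_left]
      exact Cfsg.Agent.Omega.NO3S.ML.card_mul_relIndex inf_le_left
    have h4 : Nat.card (U 0 ⊓ centralizer (B : Set G) : Subgroup G) ≤ Nat.card (Z 0) := card_le_of_le h2
    have h5 : Nat.card (Z 0) * Nat.card (Z 0) ≤ Nat.card (Z 0) * (centralizer (B : Set G)).relIndex (U 0) := by
      rw [← hcard, ← h3]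
      exact Nat.mul_le_mul_right _ h4
    exact Nat.le_of_mul_le_mul_left h5 hZpos
  refine le_trans ?_ h1
  -- the commutator with a fixed vector
  obtain ⟨v, hv, hvZ⟩ := SetLike.not_le_iff_exists.1 hUZ
  have hcom : ∀ y : B, v * (y : G) * v⁻¹ * (y : G)⁻¹ ∈ Z 0 := fun y =>
    P.comm_mem (a := Z 0) ⟨1, by rw [map_one, one_smul], by rw [map_one, one_smul]⟩ hv (hBQ y.2)
  set K := (centralizer (U 0 : Set G)).subgroupOf B with hK
  let f : B ⧸ K → Z 0 := fun q => ⟨_, hcom q.out⟩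
  have hf : Function.Injective f := by
    intro p q hpq
    have e : v * (p.out : G) * v⁻¹ * (p.out : G)⁻¹ = v * (q.out : G) * v⁻¹ * (q.out : G)⁻¹ := congrArg Subtype.val hpq
    have e1 : (p.out : G)⁻¹ * (q.out : G) * v = v * ((p.out : G)⁻¹ * (q.out : G)) := by
      have e0 : (p.out : G) * v * (p.out : G)⁻¹ = (q.out : G) * v * (q.out : G)⁻¹ := by
        calc (p.out : G) * v * (p.out : G)⁻¹ = (v * (p.out : G) * v⁻¹ * (p.out : G)⁻¹)⁻¹ * v := by group
          _ = (v * (q.out : G) * v⁻¹ * (q.out : G)⁻¹)⁻¹ * v := by rw [e]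
          _ = _ := by group
      calc (p.out : G)⁻¹ * (q.out : G) * v = (p.out : G)⁻¹ * ((q.out : G) * v * (q.out : G)⁻¹) * (q.out : G) := by group
        _ = (p.out : G)⁻¹ * ((p.out : G) * v * (p.out : G)⁻¹) * (q.out : G) := by rw [e0]
        _ = _ := by group
    rw [← QuotientGroup.out_eq' p, ← QuotientGroup.out_eq' q]
    refine QuotientGroup.eq.2 ?_
    refine mem_subgroupOf.2 ?_
    exact hfree _ (mul_mem (inv_mem (hBQ p.out.2)) (hBQ q.out.2)) v hv hvZ e1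
  calc (centralizer (U 0 : Set G)).relIndex B = Nat.card (B ⧸ K) := rfl
    _ ≤ Nat.card (Z 0) := Nat.card_le_card_of_injective f hf

/-- **TEXT Q4 (2) / TEXT R5 (4), for `X_a = W_a N_a`, all `q`.** -/
theorem farQ (P : PP Z U) (hab : IsElementaryAbelian 2 (XW Z U (Z 0))) (hle : XW Z U (Z 0) ≤ QQ (Z 0))
    (hN : NobX Z (XW Z U)) (hNO : NoP Z) (hG : TB Z (XW Z U)) (hti : TIp Z) (hfx : FixN Z) :
    ∃ d a b, d ≤ 1 ∧ Pth Z (d + 1) a b ∧ ¬ XW Z U a ≤ centralizer (XW Z U b : Set G) ∧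
      ∀ m ≤ d, ∀ a b, Pth Z m a b → XW Z U a ≤ centralizer (XW Z U b : Set G) := by
  classical
  have F := xf P hab hle
  have hex : ∃ n ≤ 2, ∃ a b, Pth Z n a b ∧ ¬ XW Z U a ≤ centralizer (XW Z U b : Set G) := by
    by_contra hcon
    push Not at hcon
    exact false_of_three P F hcon hN hNO hG hti (jj_ne P) hfx
  obtain ⟨n, ⟨hn2, a, b, hab', hne⟩, hmin⟩ : ∃ n, (n ≤ 2 ∧ ∃ a b, Pth Z n a b ∧
      ¬ XW Z U a ≤ centralizer (XW Z U b : Set G)) ∧
      ∀ m < n, ¬ (m ≤ 2 ∧ ∃ a b, Pth Z m a b ∧ ¬ XW Z U a ≤ centralizer (XW Z U b : Set G)) :=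
    ⟨Nat.find hex, Nat.find_spec hex, fun m hm => Nat.find_min hex hm⟩
  have hn : n ≠ 0 := by
    rintro rfl
    cases hab' with
    | zero h => exact hne (eab_iff.1 (F.eab _ h)).1
  obtain ⟨d, rfl⟩ := Nat.exists_eq_succ_of_ne_zero hn
  refine ⟨d, a, b, by omega, hab', hne, fun m hm a b h => ?_⟩
  by_contra h1
  exact hmin m (by omega) ⟨by omega, a, b, h, h1⟩

end lines

end Cfsg.Agent.Omega.OM.PG.PeelQ

end

section


/-!
# (E), no radical, (NR2), all `q` (helper997 #19092 COROLLARY 2, helper169 #19960, helper384 `PeelQ`)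

`PP Z U`, `XF Z X` (`X_a = W_a N_a`).  No radical: `N_a ∩ N_c = 1` for `a ~ c` (`NoRadN`); (NR2) = (II.A'):
`[X_a, N_u] = 1` for `a ~ u` (`Flt`).

* `comm_one`, `comm_two`: `X_a`, `X_b` commute at distance `1`, `2` (THEOREM C and `(NO)` twice);
* `nrTwo`: contradiction (`PeelQ.false_of_three`).  No swap beyond `PP`, no torus, no Thompson subgroup, any `|Z 0|`.
-/

set_option autoImplicit false
set_option linter.unusedSectionVars false

namespace Cfsg.Agent.Omega.NO3S.EThree.NrTwo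

open Subgroup Cfsg Cfsg.Agent.ZN Cfsg.Agent.Omega.MinPar
open Cfsg.Agent.Omega.OM.PG Cfsg.Agent.Omega.OM.PG.Peel Cfsg.Agent.Omega.OM.PG.PeelQ
open Cfsg.Agent.Omega.NO3S.EThree.ExactA
open Cfsg.Agent.Omega.NoFF.Basic (conj_conj mem_conj conj_le_iff conj_le_centralizer comm_symm comm_mono)
open scoped Pointwise

universe u

variable {G : Type u} [Group G]

/-- No radical: `N_a ∩ N_c = 1` for `a ~ c`. -/
def NoRadN (Z : Fin 2 → Subgroup G) : Prop := ∀ a c : Subgroup G, Adj Z a c → NN Z a ⊓ NN Z c = ⊥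

/-- (II.A'): `[X_a, N_u] = 1` for `a ~ u`. -/
def Flt (Z : Fin 2 → Subgroup G) (X : Subgroup G → Subgroup G) : Prop :=
  ∀ a u : Subgroup G, Adj Z a u → X a ≤ centralizer (NN Z u : Set G)

section basics

variable {Z U : Fin 2 → Subgroup G} (P : PP Z U)

include P in
theorem ne_of_adj (hNN : NoRadN Z) {a c : Subgroup G} (h : Adj Z a c) : a ≠ c := by
  rintro rfl
  have h1 := hNN a a h
  rw [inf_idem] at h1
  have h2 : a = ⊥ := le_bot_iff.1 (h.le_NN.trans h1.le)
  obtain ⟨k, hk, -⟩ := h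
  apply P.ne
  have h3 : MulAut.conj k • Z 0 ≤ MulAut.conj k • (⊥ : Subgroup G) := by rw [← hk, h2]; exact bot_le
  exact le_bot_iff.1 (conj_le_iff.1 h3)

end basics

/-- `[x, y] = 1` from `[x, y] ∈ a ∩ b = 1` -/
theorem comm_of_mem {a b : Subgroup G} (h : a ⊓ b = ⊥) {x y : G} (h1 : x * y * x⁻¹ * y⁻¹ ∈ a)
    (h2 : y * x * y⁻¹ * x⁻¹ ∈ b) : x * y = y * x := by
  have h3 : x * y * x⁻¹ * y⁻¹ ∈ b := by
    have h4 := inv_mem h2
    have e : (y * x * y⁻¹ * x⁻¹)⁻¹ = x * y * x⁻¹ * y⁻¹ := by group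
    rwa [e] at h4
  have h5 : x * y * x⁻¹ * y⁻¹ ∈ a ⊓ b := ⟨h1, h3⟩
  rw [h, mem_bot] at h5
  calc x * y = (x * y * x⁻¹ * y⁻¹) * (y * x) := by group
    _ = y * x := by rw [h5, one_mul]

section main

variable [Finite G] {Z U : Fin 2 → Subgroup G} (P : PP Z U) {X : Subgroup G → Subgroup G} (F : XF Z X)
include P F

omit [Finite G] in
/-- `X_a ≤ Q_u` for `a ~ u` -/
theorem X_le (hA : Flt Z X) {a u : Subgroup G} (h : Adj Z a u) : X a ≤ QQ u :=
  P.f3 (P.adj_symm h) (F.XQ a h.pt) (hA a u h)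

omit [Finite G] in
/-- `X_a`, `X_b` commute if `X_a ≤ Q_b`, `X_b ≤ Q_a` -/
theorem comm_of_le (hti : TIp Z) {a b : Subgroup G} (ha : IsPt Z a) (hb : IsPt Z b) (h1 : X a ≤ QQ b)
    (h2 : X b ≤ QQ a) : X a ≤ centralizer (X b : Set G) := by
  by_cases hab : a = b
  · subst hab
    exact (eab_iff.1 (F.eab a ha)).1
  · intro x hx
    refine mem_centralizer_iff.2 fun y hy => ?_
    exact (comm_of_mem (hti a b ha hb hab) (F.com a ha x hx y (h2 hy)) (F.com b hb y hy x (h1 hx))).symm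

omit [Finite G] in
theorem comm_one (hti : TIp Z) (hA : Flt Z X) {a u : Subgroup G} (h : Adj Z a u) :
    X a ≤ centralizer (X u : Set G) :=
  comm_of_le P F hti h.pt (P.adj_pt h) (X_le P F hA h) (X_le P F hA (P.adj_symm h))

omit [Finite G] in
/-- a subgroup `E ≤ N_a` inside `Q_b` centralises `X_b`, `a ~ c ~ b` -/
theorem cent_of (hA : Flt Z X) (hNN : NoRadN Z) {a c b E : Subgroup G} (hac : Adj Z a c) (hcb : Adj Z c b)
    (hE : E ≤ NN Z a) (hEQ : E ≤ QQ b) : E ≤ centralizer (X b : Set G) := by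
  have hb : IsPt Z b := P.adj_pt hcb
  intro e he
  refine mem_centralizer_iff.2 fun x hx => ?_
  have h1 : x * e * x⁻¹ * e⁻¹ ∈ b := F.com b hb x hx e (hEQ he)
  have hxa : x ∈ HH a := P.QQ_le_HH hac (X_le P F hA (P.adj_symm hcb) hx)
  have h2 : x * e * x⁻¹ * e⁻¹ ∈ NN Z a :=
    mul_mem ((mem_normalizer_iff.1 (PP.HH_le_NN a hxa) _).1 (hE he)) (inv_mem (hE he))
  have h3 : x * e * x⁻¹ * e⁻¹ ∈ NN Z a ⊓ NN Z c := ⟨h2, hcb.le_NN h1⟩
  rw [hNN a c hac, mem_bot] at h3
  calc x * e = (x * e * x⁻¹ * e⁻¹) * (e * x) := by group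
    _ = e * x := by rw [h3, one_mul]

/-- `|X : C_X(A)| ≤ |N : C_N(A)|`, `N ≤ X` abelian: `X = N C_X(A)`. -/
theorem le_sup_of_rel {X' N' A : Subgroup G} (hNX : N' ≤ X')
    (h : (centralizer (A : Set G)).relIndex X' ≤ (centralizer (A : Set G)).relIndex N') :
    X' ≤ N' ⊔ (X' ⊓ centralizer (A : Set G)) := by
  set D := X' ⊓ centralizer (A : Set G) with hD
  have f1 : D.relIndex X' = (centralizer (A : Set G)).relIndex X' := inf_relIndex_left _ _
  have f3 : D.relIndex N' = (centralizer (A : Set G)).relIndex N' := by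
    rw [← inf_relIndex_right D, ← inf_relIndex_right (centralizer (A : Set G)), hD, inf_comm X', inf_assoc,
      inf_eq_right.2 hNX]
  have f6 := relIndex_mul_relIndex D (N' ⊔ D) X' le_sup_right (sup_le hNX inf_le_left)
  have f7 : D.relIndex N' ≤ D.relIndex (N' ⊔ D) := relIndex_le_of_le_right le_sup_left index_ne_zero_of_finite
  have f8 := rel_pos D (N' ⊔ D)
  have f9 : (N' ⊔ D).relIndex X' ≤ 1 := by
    have f10 : D.relIndex (N' ⊔ D) * (N' ⊔ D).relIndex X' ≤ D.relIndex (N' ⊔ D) * 1 := by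
      rw [f6, mul_one, f1]
      exact h.trans (f3 ▸ f7)
    exact Nat.le_of_mul_le_mul_left f10 f8
  have f11 := rel_pos (N' ⊔ D) X'
  exact relIndex_eq_one.1 (by omega)

/-- **COROLLARY 2 of #19092**: `N_a`, `N_b` commute at distance two. -/
theorem com_two (hNO : NoP Z) (hG : ThmC2 Z X) (hA : Flt Z X) (hNN : NoRadN Z) {a c b : Subgroup G}
    (hac : Adj Z a c) (hcb : Adj Z c b) : Com Z a b := by
  by_contra hne
  have ha : IsPt Z a := hac.pt
  have hb : IsPt Z b := P.adj_pt hcb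
  have hbc : Adj Z b c := P.adj_symm hcb
  have hca : Adj Z c a := P.adj_symm hac
  have hXbQ : X b ≤ QQ c := X_le P F hA hbc
  have hNaQ : NN Z a ≤ QQ c := (F.NX a ha).trans (X_le P F hA hac)
  have hNaE : IsElementaryAbelian 2 (NN Z a) := eab_mono (F.eab a ha) (F.NX a ha)
  -- `C_{N_a}(N_b)` centralises `X_b`
  have hE : NN Z a ⊓ centralizer (NN Z b : Set G) ≤ centralizer (X b : Set G) :=
    cent_of P F hA hNN hac hcb inf_le_left (P.f3 hbc (inf_le_left.trans hNaQ) inf_le_right)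
  have h1 : (centralizer (NN Z a : Set G)).relIndex (X b) ≤ (centralizer (X b : Set G)).relIndex (NN Z a) :=
    hNO c a hca (X b) (F.eab b hb) hXbQ
  have h2 : (centralizer (X b : Set G)).relIndex (NN Z a) ≤ (centralizer (NN Z b : Set G)).relIndex (NN Z a) := by
    have h3 := relIndex_dvd_of_le_left (NN Z a) hE
    rw [inf_relIndex_left] at h3
    exact Nat.le_of_dvd (rel_pos _ _) h3
  have h3 : (centralizer (NN Z b : Set G)).relIndex (NN Z a) ≤ (centralizer (NN Z a : Set G)).relIndex (NN Z b) :=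
    hNO c b hcb (NN Z a) hNaE hNaQ
  have h4 := le_sup_of_rel P F (F.NX b hb) (h1.trans (h2.trans h3))
  apply hne
  refine hG b hb (NN Z a) ((MinSimple.VModule.o2_isPGroup _).to_le hNaQ)
    (hNaQ.trans (P.QQ_le_cent_of_adj hbc)) fun x hx g hg => ?_
  have hgb : g ∈ HH b := P.QQ_le_HH hbc (hNaQ hg)
  obtain ⟨n, hn, y, hy, rfl⟩ := exists_mul_of_comm (V := NN Z b) (D := X b ⊓ centralizer (NN Z a : Set G))
    ((F.NX b hb).trans ((eab_iff.1 (F.eab b hb)).1.trans (centralizer_le inf_le_left))) (h4 hx)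
  have e1 : g * y = y * g := mem_centralizer_iff.1 hy.2 g hg
  have e2 : n * y * g * (n * y)⁻¹ * g⁻¹ = n * (g * n⁻¹ * g⁻¹) := by
    calc n * y * g * (n * y)⁻¹ * g⁻¹ = n * (y * g) * y⁻¹ * n⁻¹ * g⁻¹ := by group
      _ = n * (g * y) * y⁻¹ * n⁻¹ * g⁻¹ := by rw [e1]
      _ = _ := by group
  rw [e2]
  exact mul_mem hn ((mem_normalizer_iff.1 (PP.HH_le_NN b hgb) _).1 (inv_mem hn))

/-- `X_b ≤ Q_a` at distance two -/
theorem X_le_two (hNO : NoP Z) (hG : ThmC2 Z X) (hA : Flt Z X) (hNN : NoRadN Z) {a c b : Subgroup G}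
    (hac : Adj Z a c) (hcb : Adj Z c b) : X b ≤ QQ a := by
  have hcom := com_two P F hNO hG hA hNN hac hcb
  have hNaQ : NN Z a ≤ QQ c := (F.NX a hac.pt).trans (X_le P F hA hac)
  have h1 : NN Z a ≤ QQ b := P.f3 (P.adj_symm hcb) hNaQ hcom
  exact P.f3 hac (X_le P F hA (P.adj_symm hcb)) (comm_symm (cent_of P F hA hNN hac hcb le_rfl h1))

theorem comm_two (hti : TIp Z) (hNO : NoP Z) (hG : ThmC2 Z X) (hA : Flt Z X) (hNN : NoRadN Z)
    {a c b : Subgroup G} (hac : Adj Z a c) (hcb : Adj Z c b) : X a ≤ centralizer (X b : Set G) :=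
  comm_of_le P F hti hac.pt (P.adj_pt hcb) (X_le_two P F hNO hG hA hNN (P.adj_symm hcb) (P.adj_symm hac))
    (X_le_two P F hNO hG hA hNN hac hcb)

/-- all `X_a`, `X_b` at distance at most two commute -/
theorem comm_le_two (hti : TIp Z) (hNO : NoP Z) (hG : ThmC2 Z X) (hA : Flt Z X) (hNN : NoRadN Z) :
    ∀ m ≤ 2, ∀ a b : Subgroup G, Pth Z m a b → X a ≤ centralizer (X b : Set G) := by
  intro m hm a b h
  interval_cases m
  · cases h with
    | zero h0 => exact (eab_iff.1 (F.eab _ h0)).1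
  · cases h with
    | succ h1 h2 =>
      cases h1 with
      | zero _ => exact comm_one P F hti hA h2
  · cases h with
    | succ h1 h2 =>
      cases h1 with
      | succ h3 h4 =>
        cases h3 with
        | zero _ => exact comm_two P F hti hNO hG hA hNN h4 h2

/-- **(NR2)**, all `q`. -/
theorem nrTwo (hN : NobX Z X) (hNO : NoP Z) (hG : ThmC2 Z X) (hti : TIp Z) (hfx : FixN Z) (hNN : NoRadN Z)
    (hA : Flt Z X) : False :=
  have hX := comm_le_two P F hti hNO hG hA hNN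
  PeelQ.false_of_three P F hX hN hNO (tb_of P F hX hN hNO hG) hti (jj_ne P) hfx

end main

end Cfsg.Agent.Omega.NO3S.EThree.NrTwo

end
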